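import Cfsg.Agent.Lib.SecondMain.Principal
import Cfsg.Agent.Lib.Char.PRegular
import Cfsg.Agent.Lib.Blocks.Defect
import Cfsg.Agent.S0947

/-!
# One column of the principal block

`Sec x`: the centraliser of `x` has a normal `3`-complement and Sylow order `9`.
-/

set_option autoImplicit false
set_option linter.unusedSectionVars false

open scoped ComplexConjugate

namespace Cfsg.Agent.Extra27

open Cfsg Cfsg.Agent.Blocks

universe u

variable {H : Type u} [Group H] [Finite H] {M : Ideal AlgInt}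

theorem colSum_conj_left (B : Set (IrrCharacter H)) (c g h : H) :
    SecondMain.colSum B (c * g * c⁻¹) h = SecondMain.colSum B g h :=
  finsum_mem_congr rfl fun χ _ => by rw [irr_class χ g c]

theorem colSum_conj_right (B : Set (IrrCharacter H)) (c g h : H) :
    SecondMain.colSum B g (c * h * c⁻¹) = SecondMain.colSum B g h :=
  finsum_mem_congr rfl fun χ _ => by rw [irr_class χ h c]

theorem colSum_of_isConj (B : Set (IrrCharacter H)) {g g' h h' : H} (hg : IsConj g g')
    (hh : IsConj h h') : SecondMain.colSum B g h = SecondMain.colSum B g' h' := by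
  obtain ⟨c, rfl⟩ := isConj_iff.1 hg
  obtain ⟨d, rfl⟩ := isConj_iff.1 hh
  rw [colSum_conj_left, colSum_conj_right]

/-- A member of the principal block does not vanish on all singular elements. -/
theorem exists_singular_ne_zero {p : ℕ} [Fact p.Prime] (hM : IsPModular p M) {χ : IrrCharacter H}
    (hχ : χ ∈ principalBlock M H) {g : H} (hg : p ∣ orderOf g) :
    ∃ y : H, p ∣ orderOf y ∧ (χ : H → ℂ) y ≠ 0 := by
  classical
  have hp : p.Prime := Fact.out
  have := Fintype.ofFinite H
  by_contra! h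
  obtain ⟨k, hk⟩ := Char.dvd_apply_one_of_vanishing hp
    (Char.isGeneralizedCharacter_of_isCharacter (Char.IsIrrCharacter.isCharacter χ.2)) h
  rw [← charDegree_cast χ] at hk
  have hd : p ^ (Nat.card H).factorization p ∣ charDegree (χ : H → ℂ) := by
    have hk' : ((charDegree (χ : H → ℂ) : ℕ) : ℤ) = ((p ^ (Nat.card H).factorization p : ℕ) : ℤ) * k := by
      exact_mod_cast hk
    exact Int.natCast_dvd_natCast.1 ⟨k, hk'⟩
  have hsingle := (singleton_iff_not_dvd hM χ).1 fun hdiv => by
    have h1 : p ^ ((Nat.card H).factorization p + 1) ∣ Nat.card H := by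
      rw [pow_succ]
      have h2 := Nat.mul_div_cancel' (charDegree_dvd_card χ)
      exact (mul_dvd_mul hd hdiv).trans h2.dvd
    have := (hp.pow_dvd_iff_le_factorization Nat.card_pos.ne').1 h1
    omega
  have hone : BrauerPairs.oneIrr H ∈ blockOf M (χ : H → ℂ) := by
    show SameBlock M (χ : H → ℂ) _
    exact sameBlock_symm hχ
  rw [hsingle, Set.mem_singleton_iff] at hone
  have := h g hg
  rw [← hone] at this
  exact one_ne_zero this

/-- The centraliser of `x`. -/
structure Sec (x : H) : Prop where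
  part : (Nat.card (Subgroup.centralizer ({x} : Set H))).factorization 3 = 2
  comp : HasNormalPComplement 3 (Subgroup.centralizer ({x} : Set H))
  ord : orderOf x = 3

namespace Sec

variable [Fact (Nat.Prime 3)] {x : H} (X : Sec x)
include X

theorem shift (hM : IsPModular 3 M) {χ : IrrCharacter H} (hχ : χ ∈ principalBlock M H) {y : H}
    (hy : ¬ 3 ∣ orderOf y) (hc : Commute x y) : (χ : H → ℂ) (x * y) = (χ : H → ℂ) x := by
  have hH : ∀ g, g ∈ Subgroup.centralizer ({x} : Set H) ↔ Commute x g :=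
    fun _ => SecondMain.commute_iff_mem_centralizer_singleton
  exact SecondMain.apply_shift_principal hM ⟨1, by rw [X.ord, pow_one]⟩ hH X.comp hχ
    (s := ⟨y, (hH y).2 hc⟩) (by rwa [← Subgroup.orderOf_coe])

theorem colSum_self (hM : IsPModular 3 M) :
    SecondMain.colSum (principalBlock M H) x x = 9 := by
  classical
  obtain ⟨P, N, hN, hc⟩ := X.comp
  obtain ⟨n, hn⟩ := P.2.exists_card_eq
  have hi : N.index = 3 ^ n := by rw [Subgroup.IsComplement'.index_eq_card hc.symm, hn]
  have hco : (Nat.card N).Coprime 3 := by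
    rw [Nat.coprime_comm, Nat.prime_three.coprime_iff_not_dvd]
    have := P.not_dvd_index
    rwa [Subgroup.IsComplement'.index_eq_card hc] at this
  obtain ⟨k, -, hk⟩ := (Nat.dvd_prime_pow Nat.prime_three).1
    (hi ▸ Subgroup.index_dvd_of_le (Cores.le_pPrimeCore hN hco))
  have hx1 : x ≠ 1 := fun h => by have := X.ord; rw [h, orderOf_one] at this; omega
  have h := (S0947.result 3 M hM x ⟨1, by rw [X.ord, pow_one]⟩ hx1 1 (by simp)).2 ⟨k, hk⟩
  rw [OneMemClass.coe_one, mul_one, X.part] at h
  have h' := congrArg (fun r : ℝ => (r : ℂ)) h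
  simp only [S0947.ofReal_sum_norm_sq] at h'
  rw [h']
  norm_num

theorem colSum_nine (hM : IsPModular 3 M) {y y' : H} (hy : ¬ 3 ∣ orderOf y) (hy' : ¬ 3 ∣ orderOf y')
    (hc : Commute x y) (hc' : Commute x y') :
    SecondMain.colSum (principalBlock M H) (x * y) (x * y') = 9 := by
  rw [← X.colSum_self hM]
  exact finsum_mem_congr rfl fun χ hχ => by rw [X.shift hM hχ hy hc, X.shift hM hχ hy' hc']

omit [Fact (Nat.Prime 3)] in
theorem inv_apply (hconj : IsConj x x⁻¹) (χ : IrrCharacter H) :
    ∃ v : ℤ, (χ : H → ℂ) x = v ∧ (3 : ℤ) ∣ (charDegree (χ : H → ℂ) : ℤ) - v := by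
  classical
  have := Fintype.ofFinite H
  have := Fintype.ofFinite (Subgroup.zpowers x)
  have hχc : IsCharacter H (χ : H → ℂ) := Char.IsIrrCharacter.isCharacter χ.2
  have h1c : IsCharacter (Subgroup.zpowers x) fun _ => (1 : ℂ) :=
    Char.IsIrrCharacter.isCharacter (BrauerPairs.oneIrr (Subgroup.zpowers x)).2
  obtain ⟨m, hm⟩ := Char.IsCharacter.classInner_nat
    (Char.IsCharacter.restrict hχc (Subgroup.zpowers x)) h1c
  have hval : ∀ y ∈ Subgroup.zpowers x, y ≠ 1 → (χ : H → ℂ) y = (χ : H → ℂ) x := by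
    intro y hy hy1
    obtain ⟨k, rfl⟩ := Subgroup.mem_zpowers_iff.1 hy
    rw [← zpow_mod_orderOf, X.ord] at hy1 ⊢
    obtain h | h | h : k % 3 = 0 ∨ k % 3 = 1 ∨ k % 3 = 2 := by omega
    · rw [show k % (3 : ℕ) = 0 from h, zpow_zero] at hy1
      exact absurd rfl hy1
    · rw [show k % (3 : ℕ) = 1 from h, zpow_one]
    · rw [show k % (3 : ℕ) = 2 from h]
      refine (classFunction_eq_of_isConj (irr_class χ) ?_).symm
      have : x ^ (2 : ℤ) = x⁻¹ := by
        rw [eq_inv_iff_mul_eq_one, zpow_ofNat, ← pow_succ, ← orderOf_dvd_iff_pow_eq_one, X.ord]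
      rw [this]
      exact hconj
  rw [classInner] at hm
  simp only [map_one, mul_one] at hm
  rw [Nat.card_zpowers, X.ord, inv_mul_eq_iff_eq_mul₀ (by norm_num),
    ← Finset.add_sum_erase _ _ (Finset.mem_univ 1), OneMemClass.coe_one,
    Finset.sum_congr rfl fun (y : Subgroup.zpowers x) hy => hval (y : H) y.2 fun h1 =>
      (Finset.mem_erase.1 hy).1 (Subtype.ext h1),
    Finset.sum_const, nsmul_eq_mul, Finset.card_erase_of_mem (Finset.mem_univ _), Finset.card_univ,
    ← Nat.card_eq_fintype_card, Nat.card_zpowers, X.ord, ← charDegree_cast χ] at hm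
  norm_num at hm
  obtain ⟨v, hv⟩ := Char.exists_int_of_isIntegral_mul (n := 2)
    (k := 3 * (m : ℤ) - charDegree (χ : H → ℂ)) two_ne_zero
    (by push_cast; linear_combination hm) (Char.IsCharacter.isIntegral hχc x)
  refine ⟨v, hv, (m : ℤ) - v, ?_⟩
  have h2 : ((charDegree (χ : H → ℂ) : ℤ) : ℂ) + 2 * (v : ℂ) = ((3 * m : ℤ) : ℂ) := by
    rw [hv] at hm; push_cast; linear_combination hm
  have : (charDegree (χ : H → ℂ) : ℤ) + 2 * v = 3 * m := by exact_mod_cast h2
  linarith

end Sec

end Cfsg.Agent.Extra27
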