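import Mathlib

/-!
# Integral vectors for a block with defect group of order `27` and exponent `3`

* `exists_pattern`: orthogonal columns of norm nine with entries congruent modulo three;
* `exists_single_of_dvd`: integral orthogonal vectors of norm nine, congruent modulo three;
* `false_of_star`: eight vectors of norm two with common inner product one need nine coordinates;
* `card_eq_of_frame`: the embedding of the vectors of norm three.
-/

set_option autoImplicit false
set_option linter.unusedSectionVars false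

namespace Cfsg.Agent.Extra27

/-! ### Sums of squares -/

theorem single_of_sq_sum {κ : Type*} [DecidableEq κ] {s : Finset κ} {x : κ → ℤ}
    (h : ∑ c ∈ s, x c * x c = 1) :
    ∃ c ∈ s, x c * x c = 1 ∧ ∀ d ∈ s, d ≠ c → x d = 0 := by
  obtain ⟨c, hc, hc0⟩ : ∃ c ∈ s, x c ≠ 0 := by
    by_contra! hall
    rw [Finset.sum_eq_zero fun c hc => by rw [hall c hc, mul_zero]] at h
    exact zero_ne_one h
  have h1 : 1 ≤ x c * x c := by nlinarith [mul_self_pos.2 hc0]
  rw [← Finset.add_sum_erase _ _ hc] at h
  have h2 : 0 ≤ ∑ d ∈ s.erase c, x d * x d := Finset.sum_nonneg fun d _ => mul_self_nonneg _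
  refine ⟨c, hc, by omega, fun d hd hne => ?_⟩
  have h3 : ∑ d ∈ s.erase c, x d * x d = 0 := by omega
  exact mul_self_eq_zero.1 ((Finset.sum_eq_zero_iff_of_nonneg fun d _ => mul_self_nonneg _).1 h3 d
    (Finset.mem_erase.2 ⟨hne, hd⟩))

theorem sum_le_sum_sq {κ : Type*} (s : Finset κ) (x : κ → ℤ) :
    ∑ c ∈ s, x c ≤ ∑ c ∈ s, x c * x c :=
  Finset.sum_le_sum fun c _ => Int.le_self_sq (x c) |>.trans (by rw [sq])

theorem zero_one_of_sum_eq {κ : Type*} {s : Finset κ} {x : κ → ℤ}
    (h : ∑ c ∈ s, x c = ∑ c ∈ s, x c * x c) : ∀ c ∈ s, x c = 0 ∨ x c = 1 := by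
  intro c hc
  have h1 : ∑ c ∈ s, (x c * x c - x c) = 0 := by rw [Finset.sum_sub_distrib, h, sub_self]
  have h2 := (Finset.sum_eq_zero_iff_of_nonneg fun d _ => by
    have := Int.le_self_sq (x d); rw [sq] at this; linarith).1 h1 c hc
  rcases mul_eq_zero.1 (show x c * (x c - 1) = 0 by linarith) with h3 | h3
  · exact Or.inl h3
  · exact Or.inr (by linarith)

theorem two_dvd_sq_sub {κ : Type*} (s : Finset κ) (x : κ → ℤ) :
    (2 : ℤ) ∣ ∑ c ∈ s, x c * x c - ∑ c ∈ s, x c := by
  rw [← Finset.sum_sub_distrib]
  refine Finset.dvd_sum fun c _ => ?_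
  rcases Int.even_or_odd (x c) with ⟨k, hk⟩ | ⟨k, hk⟩ <;> rw [hk]
  · exact ⟨2 * k * k - k, by ring⟩
  · exact ⟨2 * k * k + k, by ring⟩

theorem linearIndependent_le {κ α : Type*} [Fintype κ] [Fintype α] (v : α → κ → ℤ)
    (h : ∀ c : α → ℚ, (∀ k, ∑ a, c a * v a k = 0) → c = 0) :
    Fintype.card α ≤ Fintype.card κ := by
  classical
  have hli : LinearIndependent ℚ fun a => fun k => (v a k : ℚ) := by
    rw [Fintype.linearIndependent_iff]
    intro c hc
    refine congrFun (h c fun k => ?_)
    simpa [Finset.sum_apply] using congrFun hc k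
  simpa using hli.fintype_card_le_finrank

/-! ### The columns -/

/-- Six rows after the signs `s`: `b j` has `2` in column `j`. -/
structure Pattern {n : ℕ} {ι : Type*} (w : Fin n → ι → ℤ) where
  s : ι → ℤ
  b : Fin n → ι
  hs : ∀ i, s i * s i = 1
  hb : Function.Injective b
  hbb : ∀ j k, s (b k) * w j (b k) = if j = k then 2 else -1
  hT : ∀ j i, (∀ k, b k ≠ i) → s i * w j i = 1

theorem abs_cases {x : ℤ} (h0 : x ≠ 0) (h4 : x * x ≤ 4) : x = 1 ∨ x = -1 ∨ x = 2 ∨ x = -2 := by
  have h1 : x ≤ 2 := by nlinarith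
  have h2 : -2 ≤ x := by nlinarith
  omega

theorem exists_pattern {ι : Type*} [Fintype ι] {n : ℕ} (hn : n = 1 ∨ n = 2 ∨ n = 4)
    (w : Fin n → ι → ℤ) (i₀ : ι) (h1 : ∀ j, w j i₀ = 1) (hne : ∀ j i, w j i ≠ 0)
    (h4 : ∀ j i, w j i * w j i ≤ 4) (hcong : ∀ j k i, (3 : ℤ) ∣ w j i - w k i)
    (hgram : ∀ j k, ∑ i, w j i * w k i = if j = k then 9 else 0) :
    (n = 1 ∧ Fintype.card ι = 3) ∨
      (n = 1 ∧ Fintype.card ι = 9 ∧ ∀ j i, w j i * w j i = 1) ∨
      (Fintype.card ι = 6 ∧ Nonempty (Pattern w)) := by
  classical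
  have hn0 : 0 < n := by omega
  let j₀ : Fin n := ⟨0, hn0⟩
  let S : Fin n → Finset ι := fun j => Finset.univ.filter fun i => w j i * w j i = 4
  have hsq : ∀ j i, w j i * w j i = 1 + if i ∈ S j then 3 else 0 := by
    intro j i
    rcases abs_cases (hne j i) (h4 j i) with h | h | h | h <;> simp [S, h]
  have hcard : ∀ j, Fintype.card ι + 3 * (S j).card = 9 := by
    intro j
    have h := hgram j j
    rw [if_pos rfl, Finset.sum_congr rfl fun i _ => hsq j i, Finset.sum_add_distrib,
      ← Finset.sum_filter, Finset.filter_univ_mem, Finset.sum_const, Finset.sum_const,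
      Finset.card_univ, nsmul_eq_mul, nsmul_eq_mul] at h
    omega
  have hpar : ∀ j i, (2 : ℤ) ∣ w j i ↔ i ∈ S j := by
    intro j i
    rcases abs_cases (hne j i) (h4 j i) with h | h | h | h <;> simp [S, h]
  have hodd : ∀ j k, j ≠ k → Even (Finset.univ \ (S j ∪ S k)).card := by
    intro j k hjk
    have h := hgram j k
    rw [if_neg hjk] at h
    have h' : ((∑ i, w j i * w k i : ℤ) : ZMod 2) = 0 := by rw [h]; simp
    rw [Int.cast_sum] at h'
    rw [← ZMod.natCast_eq_zero_iff_even,
      show Finset.univ \ (S j ∪ S k) = Finset.univ.filter (fun i => i ∉ S j ∧ i ∉ S k) by ext; simp,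
      Finset.natCast_card_filter]
    refine Eq.trans (Finset.sum_congr rfl fun i _ => ?_) h'
    have hj := (ZMod.intCast_zmod_eq_zero_iff_dvd (w j i) 2).trans (hpar j i)
    have hk := (ZMod.intCast_zmod_eq_zero_iff_dvd (w k i) 2).trans (hpar k i)
    have hz : ∀ a : ZMod 2, a ≠ 0 → a = 1 := by decide
    by_cases hij : i ∈ S j
    · simp [hij, hj.2 hij]
    by_cases hik : i ∈ S k
    · simp [hik, hk.2 hik]
    · simp [hij, hik, hz _ (mt hj.1 hij), hz _ (mt hk.1 hik)]
  have hi₀ : ∀ j, i₀ ∉ S j := fun j => by simp [S, h1 j]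
  rcases Nat.lt_or_ge 1 n with hn2 | hn2
  swap
  · -- one column
    obtain rfl : n = 1 := by omega
    have h := hcard j₀
    obtain h3 | h9 | h6 : Fintype.card ι = 3 ∨ Fintype.card ι = 9 ∨ Fintype.card ι = 6 := by
      have : 0 < Fintype.card ι := Fintype.card_pos_iff.2 ⟨i₀⟩
      omega
    · exact Or.inl ⟨rfl, h3⟩
    · refine Or.inr (Or.inl ⟨rfl, h9, fun j i => ?_⟩)
      obtain rfl := Subsingleton.elim j j₀
      rw [hsq, if_neg, add_zero]
      rw [show S j₀ = ∅ from Finset.card_eq_zero.1 (by omega)]
      simp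
    · refine Or.inr (Or.inr ⟨h6, ?_⟩)
      obtain ⟨b, hb⟩ := Finset.card_eq_one.1 (show (S j₀).card = 1 by omega)
      refine ⟨⟨fun i => if i = b then (if w j₀ i = 2 then 1 else -1) else w j₀ i, fun _ => b,
        fun i => ?_, fun _ _ _ => Subsingleton.elim _ _, fun j k => ?_, fun j i hi => ?_⟩⟩
      · by_cases hib : i = b
        · simp only [if_pos hib]; split_ifs <;> simp
        · simp only [if_neg hib]
          have := hsq j₀ i
          rw [hb, if_neg (by simpa using hib)] at this
          simpa using this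
      · obtain rfl := Subsingleton.elim j k
        obtain rfl := Subsingleton.elim j j₀
        have hm : b ∈ S j₀ := by rw [hb]; simp
        simp only [if_pos rfl]
        have := (Finset.mem_filter.1 hm).2
        rcases abs_cases (hne j₀ b) (h4 j₀ b) with h | h | h | h <;> simp [h] at this ⊢
      · obtain rfl := Subsingleton.elim j j₀
        have hib : i ≠ b := fun h => hi j₀ h.symm
        simp only [if_neg hib]
        have := hsq j₀ i
        rw [hb, if_neg (by simpa using hib)] at this
        simpa using this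
  · -- several columns
    let j₁ : Fin n := ⟨1, hn2⟩
    have h01 : j₀ ≠ j₁ := by simp [j₀, j₁, Fin.ext_iff]
    have h6 : Fintype.card ι = 6 := by
      have hpos : 0 < Fintype.card ι := Fintype.card_pos_iff.2 ⟨i₀⟩
      have e := hodd j₀ j₁ h01
      rw [Finset.card_sdiff_of_subset (Finset.subset_univ _), Finset.card_univ] at e
      have c0 := hcard j₀
      have c1 := hcard j₁
      have hsub : S j₀ ∪ S j₁ ⊆ Finset.univ.erase i₀ := fun i hi => Finset.mem_erase.2
        ⟨fun h => by rcases Finset.mem_union.1 hi with h' | h' <;> exact hi₀ _ (h ▸ h'),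
          Finset.mem_univ _⟩
      have hu := Finset.card_le_card hsub
      rw [Finset.card_erase_of_mem (Finset.mem_univ _), Finset.card_univ] at hu
      have hl := Finset.card_le_card (Finset.subset_union_left (s₁ := S j₀) (s₂ := S j₁))
      obtain h | h | h : Fintype.card ι = 3 ∨ Fintype.card ι = 9 ∨ Fintype.card ι = 6 := by omega
      · exfalso
        obtain ⟨d, hd⟩ := e
        omega
      · exfalso
        have hle := Finset.card_union_le (S j₀) (S j₁)
        obtain ⟨d, hd⟩ := e
        omega
      · exact h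
    have hone : ∀ j, ∃ b, S j = {b} := fun j => Finset.card_eq_one.1 (by have := hcard j; omega)
    choose b hb using hone
    have hbinj : Function.Injective b := by
      intro j k hjk
      by_contra hne'
      have e := hodd j k hne'
      rw [hb j, hb k, hjk, Finset.union_self, Finset.card_sdiff_of_subset (Finset.subset_univ _),
        Finset.card_univ, Finset.card_singleton, h6] at e
      exact absurd e (by decide)
    have hmem : ∀ j i, i ∈ S j ↔ i = b j := fun j i => by rw [hb j, Finset.mem_singleton]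
    have hone' : ∀ j i, i ≠ b j → w j i = 1 ∨ w j i = -1 := by
      intro j i h
      have h' := hsq j i
      rw [if_neg (mt (hmem j i).1 h)] at h'
      rcases abs_cases (hne j i) (h4 j i) with e | e | e | e <;> simp [e] at h' ⊢
    have htwo : ∀ j, w j (b j) = 2 ∨ w j (b j) = -2 := by
      intro j
      have h' := hsq j (b j)
      rw [if_pos ((hmem j _).2 rfl)] at h'
      rcases abs_cases (hne j (b j)) (h4 j (b j)) with e | e | e | e <;> simp [e] at h' ⊢
    refine Or.inr (Or.inr ⟨h6, ⟨⟨fun i => if h : ∃ k, b k = i then (if w h.choose i = 2 then 1 else -1)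
      else w j₀ i, b, fun i => ?_, hbinj, fun j k => ?_, fun j i hi => ?_⟩⟩⟩)
    · by_cases h : ∃ k, b k = i
      · simp only [dif_pos h]; split_ifs <;> simp
      · simp only [dif_neg h]
        rcases hone' j₀ i (fun h' => h ⟨_, h'.symm⟩) with e | e <;> simp [e]
    · have h : ∃ k', b k' = b k := ⟨k, rfl⟩
      simp only [dif_pos h]
      rw [show h.choose = k from hbinj h.choose_spec]
      by_cases hjk : j = k
      · subst hjk
        rw [if_pos rfl]
        rcases htwo j with e | e <;> simp [e]
      · rw [if_neg hjk]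
        have hd := hcong j k (b k)
        rcases htwo k with e | e <;> rcases hone' j (b k) (fun h' => hjk (hbinj h').symm) with e' | e' <;>
          rw [e, e'] at hd <;> simp [e, e'] at hd ⊢
    · have h : ¬ ∃ k, b k = i := fun ⟨k, hk⟩ => hi k hk
      simp only [dif_neg h]
      have hd := hcong j j₀ i
      rcases hone' j i (fun h' => hi j h'.symm) with e | e <;>
        rcases hone' j₀ i (fun h' => hi j₀ h'.symm) with e' | e' <;>
          rw [e, e'] at hd <;> simp [e, e'] at hd ⊢

/-! ### Vectors of norm nine congruent modulo three -/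

theorem exists_single_of_dvd {X : Type*} [Fintype X] {l : ℕ} (hl : l = 2 ∨ l = 4 ∨ l = 5)
    (hX : Fintype.card X ≤ l) (y : Fin l → X → ℤ)
    (hy : ∀ i j, ∑ x, y i x * y j x = if i = j then 9 else 0) (hd : ∀ i j x, (3 : ℤ) ∣ y i x - y j x) :
    ∃ (e : Fin l ≃ X) (σ : Fin l → ℤ), (∀ i, σ i * σ i = 1) ∧
      ∀ i j, y i (e j) = if j = i then 3 * σ i else 0 := by
  classical
  have hl0 : 0 < l := by omega
  let i₀ : Fin l := ⟨0, hl0⟩
  have hindep : ∀ (Y : Type) (_ : Fintype Y) (f : Y → X), (∀ i x, (∀ z, f z ≠ x) → y i x = 0) →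
      Function.Injective f → l ≤ Fintype.card Y := by
    intro Y _ f h0 hf
    have key : ∀ i j, ∑ z, y i (f z) * y j (f z) = if i = j then 9 else 0 := fun i j => by
      rw [← hy i j, ← Finset.sum_image (f := fun x => y i x * y j x) fun a _ b _ h => hf h]
      refine Finset.sum_subset (Finset.subset_univ _) fun x _ hx => ?_
      rw [h0 i x fun z hz => hx (Finset.mem_image.2 ⟨z, Finset.mem_univ _, hz⟩), zero_mul]
    have := linearIndependent_le (fun i z => y i (f z)) fun c hc => funext fun j => by
      have h : ∑ z, (∑ i, c i * (y i (f z) : ℚ)) * (y j (f z) : ℚ) = 0 :=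
        Finset.sum_eq_zero fun z _ => by rw [hc z, zero_mul]
      simp only [Finset.sum_mul, mul_assoc] at h
      rw [Finset.sum_comm] at h
      simp only [← Finset.mul_sum] at h
      rw [Finset.sum_congr rfl fun i _ => by
        rw [show ∑ z, (y i (f z) : ℚ) * (y j (f z) : ℚ) = ((∑ z, y i (f z) * y j (f z) : ℤ) : ℚ) by
          push_cast; rfl, key]] at h
      simpa [apply_ite (Int.cast : ℤ → ℚ), mul_ite] using h
    simpa using this
  -- all entries are divisible by three
  have hall : ∀ i x, (3 : ℤ) ∣ y i x := by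
    by_contra! hex
    obtain ⟨i, x, hix⟩ := hex
    let N : Finset X := Finset.univ.filter fun x => ¬ (3 : ℤ) ∣ y i₀ x
    have hN : ∀ j x, x ∈ N ↔ ¬ (3 : ℤ) ∣ y j x := by
      intro j x
      simp only [N, Finset.mem_filter, Finset.mem_univ, true_and]
      exact not_congr ⟨fun h => (dvd_sub_right h).1 (hd i₀ j x) , fun h => (dvd_sub_left h).1 (hd i₀ j x)⟩
    have hxN : x ∈ N := (hN i x).2 hix
    have hzero : ∀ j z, z ∉ N → y j z = 0 := by
      intro j z hz
      obtain ⟨m, hm⟩ := not_not.1 (mt (hN j z).2 hz)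
      have hxj := (hN j x).1 hxN
      have hzx : z ≠ x := fun h => hz (h ▸ hxN)
      have h9 := hy j j
      rw [if_pos rfl, ← Finset.add_sum_erase _ _ (Finset.mem_univ z),
        ← Finset.add_sum_erase _ _ (Finset.mem_erase.2 ⟨hzx.symm, Finset.mem_univ x⟩)] at h9
      have hrest : 0 ≤ ∑ t ∈ ((Finset.univ : Finset X).erase z).erase x, y j t * y j t :=
        Finset.sum_nonneg fun t _ => mul_self_nonneg _
      have hx0 : y j x ≠ 0 := fun h => hxj (h ▸ dvd_zero _)
      have := mul_self_pos.2 hx0
      rw [hm] at h9 ⊢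
      have : m * m = 0 := by nlinarith [mul_self_nonneg m]
      simp [mul_self_eq_zero.1 this]
    have hsm : ∀ z ∈ N, y i₀ z * y i₀ z = 1 ∨ y i₀ z * y i₀ z = 4 := by
      intro z hz
      have h' := (hN i₀ z).1 hz
      have hle : y i₀ z * y i₀ z ≤ 9 := by
        have h9 := hy i₀ i₀
        rw [if_pos rfl] at h9
        rw [← h9]
        exact Finset.single_le_sum (f := fun t => y i₀ t * y i₀ t) (fun t _ => mul_self_nonneg _)
          (Finset.mem_univ z)
      have h1 : y i₀ z ≤ 3 := by nlinarith
      have h2 : -3 ≤ y i₀ z := by nlinarith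
      obtain h | h | h | h : y i₀ z = 1 ∨ y i₀ z = -1 ∨ y i₀ z = 2 ∨ y i₀ z = -2 := by omega
      all_goals simp [h]
    have h3 : N.card ≤ 3 := by
      have hNle : N.card ≤ 5 := (Finset.card_le_univ N).trans (by omega)
      have h9 := hy i₀ i₀
      rw [if_pos rfl, ← Finset.sum_subset (Finset.subset_univ N) fun z _ hz => by
        rw [hzero i₀ z hz, zero_mul]] at h9
      let N4 := N.filter fun z => y i₀ z * y i₀ z = 4
      have : ∑ z ∈ N, y i₀ z * y i₀ z = (N.card : ℤ) + 3 * N4.card := by
        rw [Finset.sum_congr rfl fun z hz => show y i₀ z * y i₀ z =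
          1 + if y i₀ z * y i₀ z = 4 then 3 else 0 by rcases hsm z hz with h | h <;> simp [h],
          Finset.sum_add_distrib, ← Finset.sum_filter]
        simp [N4, mul_comm]
      omega
    have h4 := hindep (ULift.{0} (Fin N.card)) inferInstance (fun z => (N.equivFin.symm z.down : X))
      (fun j z hz => hzero j z fun hzN => hz ⟨N.equivFin ⟨z, hzN⟩⟩ (by simp))
      (fun a b h => ULift.ext _ _ (N.equivFin.symm.injective (Subtype.ext h)))
    simp only [Fintype.card_ulift, Fintype.card_fin] at h4
    rcases hl with rfl | h | h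
    · -- two vectors in at most two coordinates
      have h9 := hy i₀ i₀
      rw [if_pos rfl, ← Finset.sum_subset (Finset.subset_univ N) fun z _ hz => by
        rw [hzero i₀ z hz, zero_mul]] at h9
      have hle : N.card ≤ 2 := (Finset.card_le_univ N).trans hX
      have := Finset.sum_le_card_nsmul N (fun z => y i₀ z * y i₀ z) 4
        fun z hz => by rcases hsm z hz with h | h <;> simp [h]
      simp only [nsmul_eq_mul] at this
      have : (N.card : ℤ) ≤ 2 := by exact_mod_cast hle
      linarith
    all_goals omega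
  choose z hz using hall
  have hz1 : ∀ i j, ∑ x, z i x * z j x = if i = j then 1 else 0 := by
    intro i j
    have h := hy i j
    rw [Finset.sum_congr rfl fun x _ => show y i x * y j x = 9 * (z i x * z j x) by rw [hz, hz]; ring,
      ← Finset.mul_sum] at h
    split_ifs at h ⊢ <;> linarith
  have hsingle := fun i => single_of_sq_sum ((hz1 i i).trans (if_pos rfl))
  choose f _ hf1 hf0 using hsingle
  have hfinj : Function.Injective f := by
    intro i j hij
    by_contra hne
    have h := hz1 i j
    rw [if_neg hne, Finset.sum_eq_single (f i) (fun x _ hx => by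
      rw [hf0 i x (Finset.mem_univ _) hx, zero_mul]) (by simp)] at h
    rcases mul_eq_zero.1 h with h' | h'
    · have := hf1 i; rw [h'] at this; simp at this
    · have := hf1 j; rw [← hij, h'] at this; simp at this
  have hbij : Function.Bijective f := (Fintype.bijective_iff_injective_and_card f).2
    ⟨hfinj, le_antisymm (Fintype.card_le_of_injective f hfinj) (by simpa using hX)⟩
  refine ⟨Equiv.ofBijective f hbij, fun i => z i (f i), hf1, fun i j => ?_⟩
  rw [Equiv.ofBijective_apply, hz]
  split_ifs with h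
  · rw [h]
  · rw [hf0 i (f j) (Finset.mem_univ _) (hfinj.ne h), mul_zero]

/-- Eight vectors of norm two with common inner product one need nine coordinates. -/
theorem false_of_star {X : Type*} [Fintype X] (hX : Fintype.card X ≤ 8) (r : Fin 8 → X → ℤ)
    (hr : ∀ i j, ∑ x, r i x * r j x = if i = j then 2 else 1) : False := by
  classical
  let c : X → ℤ := fun x => ∑ i, r i x
  have hc : ∑ x, c x * c x = 72 := by
    have e : ∑ x, c x * c x = ∑ i, ∑ j, ∑ x, r i x * r j x := by
      simp only [c, Finset.sum_mul_sum]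
      rw [Finset.sum_comm]
      exact Finset.sum_congr rfl fun i _ => Finset.sum_comm
    rw [e, Finset.sum_congr rfl fun i _ => Finset.sum_congr rfl fun j _ => hr i j]
    decide
  have hsmall : ∀ i x, r i x = 0 ∨ r i x = 1 ∨ r i x = -1 := by
    intro i x
    have h := Finset.single_le_sum (f := fun t => r i t * r i t) (fun t _ => mul_self_nonneg _)
      (Finset.mem_univ x)
    rw [hr i i, if_pos rfl] at h
    have h1 : r i x ≤ 1 := by nlinarith
    have h2 : -1 ≤ r i x := by nlinarith
    omega
  have hsq : ∀ i x, r i x * r i x = |r i x| := by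
    intro i x; rcases hsmall i x with h | h | h <;> simp [h]
  -- a coordinate where five vectors agree
  obtain ⟨a, ha⟩ : ∃ a, 5 ≤ |c a| := by
    by_contra! hall
    have h1 : ∑ x, |c x| ≤ 16 := by
      refine (Finset.sum_le_sum fun x _ => Finset.abs_sum_le_sum_abs _ _).trans (le_of_eq ?_)
      rw [Finset.sum_comm]
      simp only [← hsq, hr]
      decide
    have h2 : ∑ x, c x * c x ≤ ∑ x, 4 * |c x| := Finset.sum_le_sum fun x _ => by
      rw [← abs_mul_abs_self (c x)]
      exact mul_le_mul_of_nonneg_right (by have := hall x; omega) (abs_nonneg _)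
    rw [← Finset.mul_sum] at h2
    linarith
  -- after a sign the five have entry one
  obtain ⟨ε, hε, hεc⟩ : ∃ ε : ℤ, ε * ε = 1 ∧ 5 ≤ ε * c a := by
    rcases le_abs.1 ha with h | h
    · exact ⟨1, by ring, by linarith⟩
    · exact ⟨-1, by ring, by linarith⟩
  let F := Finset.univ.filter fun i => ε * r i a = 1
  have hF : 5 ≤ F.card := by
    have hεr : ∀ i, ε * r i a ≤ if i ∈ F then 1 else 0 := by
      intro i
      rcases mul_self_eq_one_iff.1 hε with rfl | rfl <;> rcases hsmall i a with h | h | h <;>
        simp [F, h]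
    have h := Finset.sum_le_sum fun i (_ : i ∈ Finset.univ) => hεr i
    rw [← Finset.mul_sum, ← Finset.sum_filter, Finset.filter_univ_mem, Finset.sum_const] at h
    simp only [nsmul_eq_mul, mul_one] at h
    have : (5 : ℤ) ≤ F.card := hεc.trans h
    exact_mod_cast this
  -- the second coordinates
  have hsecond : ∀ i, r i a * r i a = 1 → ∃ p, p ≠ a ∧ r i p * r i p = 1 ∧
      ∀ x, x ≠ a → x ≠ p → r i x = 0 := by
    intro i hi
    have h := hr i i
    rw [if_pos rfl, ← Finset.add_sum_erase _ _ (Finset.mem_univ a), hi] at h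
    obtain ⟨p, hp, hp1, hp0⟩ := single_of_sq_sum (x := r i)
      (s := (Finset.univ : Finset X).erase a) (by linarith)
    exact ⟨p, (Finset.mem_erase.1 hp).1, hp1, fun x hx hxp =>
      hp0 x (Finset.mem_erase.2 ⟨hx, Finset.mem_univ _⟩) hxp⟩
  have hFa : ∀ i ∈ F, r i a * r i a = 1 := fun i hi => by
    have h := (Finset.mem_filter.1 hi).2
    have := congrArg (fun t => t * t) h
    rw [mul_mul_mul_comm, hε, one_mul, one_mul] at this
    exact this
  choose p hpa hp1 hp0 using hsecond
  have hdot : ∀ i j (hi : r i a * r i a = 1), i ≠ j →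
      r i a * r j a + r i (p i hi) * r j (p i hi) = 1 := by
    intro i j hi hij
    have h := hr i j
    rwa [if_neg hij, Finset.sum_eq_add a (p i hi) (hpa i hi).symm
      (fun x _ hx => by rw [hp0 i hi x hx.1 hx.2, zero_mul]) (by simp) (by simp)] at h
  have hdiff : ∀ i j (hi : i ∈ F) (hj : j ∈ F), i ≠ j → p i (hFa i hi) ≠ p j (hFa j hj) := by
    intro i j hi hj hij he
    have h := hdot i j (hFa i hi) hij
    have e1 : r i a * r j a = 1 := by
      have := congrArg₂ (fun a b : ℤ => a * b) (Finset.mem_filter.1 hi).2 (Finset.mem_filter.1 hj).2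
      rw [mul_mul_mul_comm, hε, one_mul, one_mul] at this
      exact this
    rw [e1, add_eq_left, mul_eq_zero] at h
    rcases h with h | h
    · have := hp1 i (hFa i hi); rw [h] at this; simp at this
    · have := hp1 j (hFa j hj); rw [← he, h] at this; simp at this
  -- all vectors pass through `a`
  have hall : ∀ j, r j a * r j a = 1 := by
    intro j
    by_contra hj
    have hj0 : r j a = 0 := by rcases hsmall j a with h | h | h <;> simp [h] at hj ⊢
    have hmaps : ∀ i : F, r j (p i (hFa i i.2)) ≠ 0 := by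
      intro i h0
      have h := hdot i j (hFa i i.2) (fun he => hj (he ▸ hFa i i.2))
      rw [hj0, h0] at h
      simp at h
    have hle : F.card ≤ 2 := by
      have h1 := Finset.card_le_card (s := Finset.univ.image fun i : F => p i (hFa i i.2))
        (t := Finset.univ.filter fun x => r j x ≠ 0) fun x hx => by
          obtain ⟨i, -, rfl⟩ := Finset.mem_image.1 hx
          exact Finset.mem_filter.2 ⟨Finset.mem_univ _, hmaps i⟩
      rw [Finset.card_image_of_injective _ fun i i' he => by
        by_contra hne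
        exact hdiff i i' i.2 i'.2 (fun h => hne (Subtype.ext h)) he, Finset.card_univ,
        Fintype.card_coe] at h1
      refine h1.trans ?_
      have h2 := hr j j
      rw [if_pos rfl] at h2
      have h3 : ((Finset.univ.filter fun x => r j x ≠ 0).card : ℤ) ≤ ∑ x, r j x * r j x := by
        rw [Finset.card_filter, Nat.cast_sum]
        refine Finset.sum_le_sum fun x _ => ?_
        rcases hsmall j x with h | h | h <;> simp [h]
      rw [h2] at h3
      exact_mod_cast h3
    omega
  -- the second coordinates are distinct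
  have hinj : Function.Injective fun i => p i (hall i) := by
    intro i j he
    by_contra hij
    have h := hdot i j (hall i) hij
    simp only at he
    have h' := hdot j i (hall j) (Ne.symm hij)
    have hu := hall i
    have hv := hall j
    have hs := hp1 i (hall i)
    have ht := hp1 j (hall j)
    rw [← he] at ht
    rcases mul_self_eq_one_iff.1 hu with u | u <;> rcases mul_self_eq_one_iff.1 hv with v | v <;>
      rcases mul_self_eq_one_iff.1 hs with s | s <;> rcases mul_self_eq_one_iff.1 ht with t | t <;>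
        rw [u, v, s, t] at h <;> norm_num at h
  have hle := Finset.card_le_card (s := Finset.univ.image fun i => p i (hall i))
    (t := (Finset.univ : Finset X).erase a) fun x hx => by
      obtain ⟨i, -, rfl⟩ := Finset.mem_image.1 hx
      exact Finset.mem_erase.2 ⟨hpa i (hall i), Finset.mem_univ _⟩
  rw [Finset.card_image_of_injective _ hinj, Finset.card_erase_of_mem (Finset.mem_univ _),
    Finset.card_univ, Finset.card_univ, Fintype.card_fin] at hle
  omega

/-- Three-element sets in a five-element set. -/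
theorem false_of_five {κ : Type*} [DecidableEq κ] {U A A' B B' : Finset κ} (hU : U.card = 5)
    (hA : A ⊆ U) (hA' : A' ⊆ U) (hB : B ⊆ U) (hB' : B' ⊆ U)
    (cA : A.card = 3) (cA' : A'.card = 3) (cB : B.card = 3) (cB' : B'.card = 3)
    (hAA : (A ∩ A').card = 2) (hBB : (B ∩ B').card = 2)
    (h1 : (A ∩ B).card = 1) (h2 : (A' ∩ B).card = 1) (h3 : (A ∩ B').card = 1)
    (h4 : (A' ∩ B').card = 1) : False := by
  have key : ∀ C, C ⊆ U → C.card = 3 → (A ∩ C).card = 1 → (A' ∩ C).card = 1 →
      C = U \ (A ∩ A') := by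
    intro C hC cC hc hc'
    have hsub : ∀ D, D ⊆ U → D.card = 3 → (D ∩ C).card = 1 → U \ D ⊆ C := by
      intro D hD cD hDC x hx
      have h := Finset.card_union_add_card_inter D C
      have he : D ∪ C = U := Finset.eq_of_subset_of_card_le (Finset.union_subset hD hC) (by omega)
      obtain ⟨hxU, hxD⟩ := Finset.mem_sdiff.1 hx
      rw [← he] at hxU
      exact (Finset.mem_union.1 hxU).resolve_left hxD
    refine (Finset.eq_of_subset_of_card_le (fun x hx => ?_) ?_).symm
    · obtain ⟨hxU, hxAA⟩ := Finset.mem_sdiff.1 hx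
      by_cases hxA : x ∈ A
      · exact hsub A' hA' cA' hc' (Finset.mem_sdiff.2 ⟨hxU, fun h => hxAA (Finset.mem_inter.2 ⟨hxA, h⟩)⟩)
      · exact hsub A hA cA hc (Finset.mem_sdiff.2 ⟨hxU, hxA⟩)
    · rw [cC, Finset.card_sdiff_of_subset (Finset.inter_subset_left.trans hA), hU, hAA]
  have e := key B hB cB h1 h2
  have e' := key B' hB' cB' h3 h4
  rw [e, e', Finset.inter_self, ← e, cB] at hBB
  omega

/-! ### The embedding -/

/-- The vectors of norm three fill up the coordinates. -/
theorem card_eq_of_frame {κ : Type*} [Fintype κ] {n l : ℕ} (hn : n = 1 ∨ n = 2 ∨ n = 4)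
    (hl : l + n = 6) (V : Fin n → κ → ℤ) (b : Fin n → κ) (T : Finset κ) (hT : T.card = l)
    (hb : Function.Injective b) (hbT : ∀ j, b j ∉ T)
    (hVb : ∀ j k, V j (b k) = if j = k then 2 else -1) (hVT : ∀ j, ∀ t ∈ T, V j t = 1)
    (hV0 : ∀ j c, c ∉ T → (∀ k, b k ≠ c) → V j c = 0) (j₀ : Fin n) (g : Fin l × Bool → κ → ℤ)
    (hgg : ∀ x y, ∑ c, g x c * g y c = 1 + (if x.1 = y.1 then 1 else 0) + (if x = y then 1 else 0))
    (hgV : ∀ x j, ∑ c, V j c * g x c = if j = j₀ then 3 else 0)
    (hcov : ∀ c, c ∈ T ∨ (∃ k, b k = c) ∨ ∃ x, g x c ≠ 0) : Fintype.card κ = 6 + 2 * l := by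
  classical
  let Bs : Finset κ := Finset.univ.image b
  have hBs : Bs.card = n := by simp [Bs, Finset.card_image_of_injective _ hb]
  have hTB : Disjoint T Bs := Finset.disjoint_left.2 fun c hc hc' => by
    obtain ⟨j, -, rfl⟩ := Finset.mem_image.1 hc'
    exact hbT j hc
  let O : Finset κ := Finset.univ \ (T ∪ Bs)
  have hO : ∀ {c}, c ∈ O ↔ c ∉ T ∧ ∀ k, b k ≠ c := fun {c} => by simp [O, Bs]
  have hsplit : ∀ F : κ → ℤ, ∑ c, F c = ∑ c ∈ T, F c + ∑ k, F (b k) + ∑ c ∈ O, F c := by
    intro F
    rw [← Finset.sum_sdiff (Finset.subset_univ (T ∪ Bs)), Finset.sum_union hTB,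
      Finset.sum_image fun a _ c _ h => hb h]
    ring
  have heq : ∀ x j, ∑ c ∈ T, g x c + 3 * g x (b j) - ∑ k, g x (b k) = if j = j₀ then 3 else 0 := by
    intro x j
    have e1 : ∑ c ∈ T, V j c * g x c = ∑ c ∈ T, g x c :=
      Finset.sum_congr rfl fun c hc => by rw [hVT j c hc, one_mul]
    have e2 : ∑ c ∈ O, V j c * g x c = 0 := Finset.sum_eq_zero fun c hc => by
      rw [hV0 j c (hO.1 hc).1 (hO.1 hc).2, zero_mul]
    have e3 : ∑ k, V j (b k) * g x (b k) = 3 * g x (b j) - ∑ k, g x (b k) := by
      rw [Finset.sum_congr rfl fun k _ => show V j (b k) * g x (b k) =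
          (if j = k then 3 * g x (b k) else 0) - g x (b k) by rw [hVb]; split_ifs <;> ring,
        Finset.sum_sub_distrib, Finset.sum_ite_eq, if_pos (Finset.mem_univ _)]
    rw [← hgV x j, hsplit, e1, e2, e3]
    ring
  have hnorm : ∀ x, ∑ c, g x c * g x c = 3 := fun x => by rw [hgg]; simp
  have hsmall : ∀ x c, g x c = 0 ∨ g x c = 1 ∨ g x c = -1 := by
    intro x c
    have h := Finset.single_le_sum (f := fun t => g x t * g x t) (fun t _ => mul_self_nonneg _)
      (Finset.mem_univ c)
    rw [hnorm x] at h
    have h1 : g x c ≤ 1 := by nlinarith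
    have h2 : -1 ≤ g x c := by nlinarith
    omega
  -- the two kinds
  have hkind : ∀ x,
      (g x (b j₀) = 1 ∧ (∀ k, k ≠ j₀ → g x (b k) = 0) ∧
        (∃ t ∈ T, g x t = 1 ∧ ∀ c ∈ T, c ≠ t → g x c = 0) ∧
        ∃ q ∈ O, g x q * g x q = 1 ∧ ∀ c ∈ O, c ≠ q → g x c = 0) ∨
      (g x (b j₀) = 0 ∧ (∀ k, k ≠ j₀ → g x (b k) = -1) ∧ (∀ c ∈ T, g x c = 0 ∨ g x c = 1) ∧
        ∀ c ∈ O, g x c = 0) := by
    intro x
    obtain ⟨a, ha⟩ : ∃ a, ∀ k, g x (b k) = if k = j₀ then a + 1 else a := by
      refine ⟨g x (b j₀) - 1, fun k => ?_⟩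
      split_ifs with h
      · rw [h]; ring
      · have := heq x k; have := heq x j₀; simp [h] at *; linarith
    have hA : ∑ k, g x (b k) = n * a + 1 := by
      simp only [ha, Finset.sum_ite, Finset.filter_eq', Finset.filter_ne']
      simp [mul_comm]
      rw [Nat.cast_sub (by omega)]
      ring
    have hA2 : ∑ k, g x (b k) * g x (b k) = n * a * a + 2 * a + 1 := by
      simp only [ha, ite_mul_ite, Finset.sum_ite, Finset.filter_eq', Finset.filter_ne']
      simp [mul_comm]
      rw [Nat.cast_sub (by omega)]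
      ring
    have hS := heq x j₀
    rw [if_pos rfl, hA, ha j₀, if_pos rfl] at hS
    have hQ := hnorm x
    rw [hsplit, hA2] at hQ
    set S := ∑ c ∈ T, g x c
    set QT := ∑ c ∈ T, g x c * g x c
    set QO := ∑ c ∈ O, g x c * g x c
    have hQT : S ≤ QT := sum_le_sum_sq T (g x)
    have hQO : 0 ≤ QO := Finset.sum_nonneg fun c _ => mul_self_nonneg _
    have hpar : (2 : ℤ) ∣ QT - S := two_dvd_sq_sub T (g x)
    have ha1 : a + 1 = 0 ∨ a + 1 = 1 ∨ a + 1 = -1 := by
      have := hsmall x (b j₀); rwa [ha j₀, if_pos rfl] at this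
    obtain rfl | rfl | rfl : a = 0 ∨ a = -1 ∨ a = -2 := by omega
    · left
      obtain ⟨m, hm⟩ := hpar
      have hQT1 : QT = 1 := by omega
      have hQO1 : QO = 1 := by omega
      obtain ⟨t, ht, ht1, ht0⟩ := single_of_sq_sum hQT1
      obtain ⟨q, hq, hq1, hq0⟩ := single_of_sq_sum hQO1
      refine ⟨by rw [ha, if_pos rfl]; norm_num, fun k hk => by rw [ha, if_neg hk],
        ⟨t, ht, ?_, ht0⟩, q, hq, hq1, hq0⟩
      have hSt : S = g x t := Finset.sum_eq_single t (fun c hc h => ht0 c hc h) (absurd ht)
      omega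
    · right
      have hQO0 : QO = 0 := by
        have : (n : ℤ) * (-1) * (-1) = n := by ring
        rw [this] at hQ
        omega
      refine ⟨by rw [ha, if_pos rfl]; norm_num, fun k hk => by rw [ha, if_neg hk],
        zero_one_of_sum_eq ?_, fun c hc =>
        mul_self_eq_zero.1 ((Finset.sum_eq_zero_iff_of_nonneg fun c _ => mul_self_nonneg _).1 hQO0 c hc)⟩
      show S = QT
      have : (n : ℤ) * (-1) * (-1) = n := by ring
      rw [this] at hQ
      omega
    · exfalso
      rcases hn with rfl | rfl | rfl <;> push_cast at hQ hS <;> omega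
  -- the pure vectors live on five points
  let U : Finset κ := (T ∪ Bs).erase (b j₀)
  have hU : U.card = 5 := by
    rw [Finset.card_erase_of_mem (by simp [Bs]), Finset.card_union_of_disjoint hTB, hT, hBs]
    omega
  let A : Fin l × Bool → Finset κ := fun x => U.filter fun c => g x c ≠ 0
  have hpure : ∀ x, g x (b j₀) = 0 → (∀ c, c ∉ A x → g x c = 0) ∧
      ∀ c ∈ A x, g x c = if c ∈ T then 1 else -1 := by
    intro x hx
    obtain ⟨h0, -⟩ | ⟨-, hk, hTx, hOx⟩ := hkind x
    · rw [hx] at h0; exact absurd h0 zero_ne_one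
    constructor
    · intro c hc
      by_contra h
      have hcU : c ∈ U := by
        refine Finset.mem_erase.2 ⟨fun e => h (e ▸ hx), ?_⟩
        by_contra hcu
        exact h (hOx c (Finset.mem_sdiff.2 ⟨Finset.mem_univ _, hcu⟩))
      exact hc (Finset.mem_filter.2 ⟨hcU, h⟩)
    · intro c hc
      obtain ⟨hcU, hne⟩ := Finset.mem_filter.1 hc
      obtain ⟨hne', hcu⟩ := Finset.mem_erase.1 hcU
      rcases Finset.mem_union.1 hcu with h | h
      · rw [if_pos h, (hTx c h).resolve_left hne]
      · obtain ⟨k, -, rfl⟩ := Finset.mem_image.1 h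
        rw [if_neg (hbT k), hk k fun e => hne' (by rw [e])]
  have hAA : ∀ x y, g x (b j₀) = 0 → g y (b j₀) = 0 →
      ((A x ∩ A y).card : ℤ) = ∑ c, g x c * g y c := by
    intro x y hx hy
    rw [← Finset.sum_subset (Finset.subset_univ (A x ∩ A y)) fun c _ hc => by
      by_cases h : c ∈ A x
      · rw [(hpure y hy).1 c fun h' => hc (Finset.mem_inter.2 ⟨h, h'⟩), mul_zero]
      · rw [(hpure x hx).1 c h, zero_mul], Finset.card_eq_sum_ones, Nat.cast_sum]
    refine Finset.sum_congr rfl fun c hc => ?_
    rw [(hpure x hx).2 c (Finset.mem_inter.1 hc).1, (hpure y hy).2 c (Finset.mem_inter.1 hc).2]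
    split_ifs <;> simp
  -- the mixed ones
  have hmix : ∀ x, g x (b j₀) ≠ 0 → ∃ t ∈ T, ∃ q ∈ O, g x q * g x q = 1 ∧
      (∀ y, ∑ c, g x c * g y c = g y (b j₀) + g y t + g x q * g y q) ∧
      ∀ c ∈ O, c ≠ q → g x c = 0 := by
    intro x hx
    obtain ⟨h0, hk, ⟨t, ht, ht1, ht0⟩, q, hq, hq1, hq0⟩ | ⟨h0, -⟩ := hkind x
    swap
    · exact absurd h0 hx
    refine ⟨t, ht, q, hq, hq1, fun y => ?_, hq0⟩
    rw [hsplit, Finset.sum_eq_single (s := T) t (fun c hc h => by rw [ht0 c hc h, zero_mul]) (absurd ht),
      Finset.sum_eq_single (s := Finset.univ) j₀ (fun k _ h => by rw [hk k h, zero_mul]) (by simp),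
      Finset.sum_eq_single (s := O) q (fun c hc h => by rw [hq0 c hc h, zero_mul]) (absurd hq),
      h0, ht1]
    ring
  choose t htT q hqO hq1 hdot hq0 using hmix
  have hval : ∀ y (hy : g y (b j₀) ≠ 0), g y (b j₀) = 1 ∧
      ∀ c ∈ T, g y c = if c = t y hy then 1 else 0 := by
    intro y hy
    obtain ⟨h0, -, ⟨s, hs, hs1, hs0⟩, -⟩ | ⟨h0, -⟩ := hkind y
    swap
    · exact absurd h0 hy
    refine ⟨h0, fun c hc => ?_⟩
    have hst : s = t y hy := by
      by_contra hne
      have h1 := hdot y hy y
      rw [hnorm, h0, hs0 _ (htT y hy) (Ne.symm hne), hq1 y hy] at h1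
      norm_num at h1
    split_ifs with h
    · rw [h, ← hst, hs1]
    · exact hs0 c hc (hst ▸ h)
  have hOzero : ∀ y, g y (b j₀) = 0 → ∀ c ∈ O, g y c = 0 := by
    intro y hy
    obtain ⟨h0, -⟩ | ⟨-, -, -, hOy⟩ := hkind y
    · rw [hy] at h0; exact absurd h0 zero_ne_one
    · exact hOy
  -- two vectors of different indices through the same point of `T`
  have hinjT : ∀ x y (hx : g x (b j₀) ≠ 0) (hy : g y (b j₀) ≠ 0), x.1 ≠ y.1 → t x hx ≠ t y hy := by
    intro x y hx hy hne he
    obtain ⟨hy1, hyT⟩ := hval y hy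
    have hxy := hdot x hx y
    rw [hgg, if_neg hne, if_neg fun h => hne (congrArg Prod.fst h), hy1, hyT _ (htT x hx), if_pos he] at hxy
    have hqq : q x hx = q y hy := by
      by_contra h
      rw [hq0 y hy _ (hqO x hx) h, mul_zero] at hxy
      omega
    let x' : Fin l × Bool := (x.1, !x.2)
    have hx' : x' ≠ x := fun h => by have := congrArg Prod.snd h; simp [x'] at this
    have e1 := hdot x hx x'
    have e2 := hdot y hy x'
    rw [hgg, if_pos rfl, if_neg hx'.symm] at e1
    rw [hgg, if_neg (show y.1 ≠ x'.1 from Ne.symm hne), if_neg (fun h => hne (by rw [h]))] at e2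
    rw [← hqq] at e2
    rw [← he] at e2
    have hneg : g x (q x hx) = - g y (q x hx) := by
      have h1 := hsmall x (q x hx)
      have h2 := hsmall y (q x hx)
      rcases h1 with h | h | h <;> rcases h2 with h' | h' | h' <;> rw [h, h'] at hxy <;>
        first | omega | (rw [h, h']; norm_num)
    rw [hneg] at e1
    have : (g x' (b j₀) + g x' (t x hx)) * 2 = 3 := by linarith
    omega
  -- there is no pure vector
  have hnopure : ∀ x, g x (b j₀) ≠ 0 := by
    intro x hx
    let x' : Fin l × Bool := (x.1, !x.2)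
    have hne' : x ≠ x' := fun h => by have := congrArg Prod.snd h; simp [x'] at this
    have hx' : g x' (b j₀) = 0 := by
      by_contra h
      have h1 := hdot x' h x
      rw [hgg, if_pos rfl, if_neg hne'.symm, hx, hOzero x hx _ (hqO x' h)] at h1
      rcases hsmall x (t x' h) with e | e | e <;> rw [e] at h1 <;> omega
    have hcardA : ∀ z, g z (b j₀) = 0 → (A z).card = 3 := by
      intro z hz
      have := hAA z z hz hz
      rw [Finset.inter_self, hnorm] at this
      exact_mod_cast this
    have hsubU : ∀ z, A z ⊆ U := fun z => Finset.filter_subset _ _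
    have hxx : (A x ∩ A x').card = 2 := by
      have := hAA x x' hx hx'
      rw [hgg, if_pos rfl, if_neg hne'] at this
      exact_mod_cast this
    have hothers : ∀ y, y.1 ≠ x.1 → g y (b j₀) ≠ 0 := by
      intro y hy hy0
      let y' : Fin l × Bool := (y.1, !y.2)
      have hy' : g y' (b j₀) = 0 := by
        by_contra h
        have h1 := hdot y' h y
        rw [hgg, if_pos rfl, if_neg (fun e => by have := congrArg Prod.snd e; simp [y'] at this),
          hy0, hOzero y hy0 _ (hqO y' h)] at h1
        rcases hsmall y (t y' h) with e | e | e <;> rw [e] at h1 <;> omega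
      have one : ∀ a c : Fin l × Bool, a.1 = x.1 → c.1 = y.1 → g a (b j₀) = 0 → g c (b j₀) = 0 →
          (A a ∩ A c).card = 1 := by
        intro a c ha hc ha0 hc0
        have := hAA a c ha0 hc0
        rw [hgg, if_neg (by rw [ha, hc]; exact Ne.symm hy),
          if_neg (fun e => hy (by rw [← hc, ← e, ha]))] at this
        exact_mod_cast this
      refine false_of_five hU (hsubU x) (hsubU x') (hsubU y) (hsubU y') (hcardA x hx) (hcardA x' hx')
        (hcardA y hy0) (hcardA y' hy') hxx ?_ (one x y rfl rfl hx hy0) (one x' y rfl rfl hx' hy0)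
        (one x y' rfl rfl hx hy') (one x' y' rfl rfl hx' hy')
      have := hAA y y' hy0 hy'
      rw [hgg, if_pos rfl, if_neg (fun e => by have := congrArg Prod.snd e; simp [y'] at this)] at this
      exact_mod_cast this
    -- the other indices fit into the common part
    have hle : ((Finset.univ.erase x.1).card : ℕ) + (n - 1) ≤ 2 := by
      let f : Fin l → κ := fun i => if h : g (i, false) (b j₀) ≠ 0 then t (i, false) h else b j₀
      have hf : ∀ i ∈ Finset.univ.erase x.1, f i ∈ A x ∩ A x' ∧ f i ∈ T := by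
        intro i hi
        have h := hothers (i, false) (Finset.mem_erase.1 hi).1
        simp only [f, dif_pos h]
        refine ⟨Finset.mem_inter.2 ⟨?_, ?_⟩, htT _ h⟩ <;>
          refine Finset.mem_filter.2 ⟨Finset.mem_erase.2
            ⟨fun e => hbT j₀ (e ▸ htT _ h), Finset.mem_union_left _ (htT _ h)⟩, fun h0 => ?_⟩
        · have h1 := hdot _ h x
          rw [hgg, if_neg (Finset.mem_erase.1 hi).1,
            if_neg (fun e => (Finset.mem_erase.1 hi).1 (congrArg Prod.fst e)), hx, h0,
            hOzero x hx _ (hqO _ h)] at h1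
          omega
        · have h1 := hdot _ h x'
          rw [hgg, if_neg (show i ≠ x'.1 from (Finset.mem_erase.1 hi).1),
            if_neg (fun e => (Finset.mem_erase.1 hi).1 (show i = x.1 from congrArg Prod.fst e)), hx', h0,
            hOzero x' hx' _ (hqO _ h)] at h1
          omega
      have h1 : (Finset.univ.erase x.1).image f ∪ (Finset.univ.erase j₀).image b ⊆ A x ∩ A x' := by
        intro c hc
        rcases Finset.mem_union.1 hc with hc | hc
        · obtain ⟨i, hi, rfl⟩ := Finset.mem_image.1 hc
          exact (hf i hi).1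
        · obtain ⟨k, hk, rfl⟩ := Finset.mem_image.1 hc
          have hkj := (Finset.mem_erase.1 hk).1
          have : ∀ z, g z (b j₀) = 0 → b k ∈ A z := by
            intro z hz
            refine Finset.mem_filter.2 ⟨Finset.mem_erase.2 ⟨hb.ne hkj, Finset.mem_union_right _
              (by simp [Bs])⟩, ?_⟩
            obtain ⟨h0, -⟩ | ⟨-, hk', -⟩ := hkind z
            · rw [hz] at h0; exact absurd h0 zero_ne_one
            · rw [hk' k hkj]; norm_num
          exact Finset.mem_inter.2 ⟨this x hx, this x' hx'⟩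
      have h2 := Finset.card_le_card h1
      rw [hxx, Finset.card_union_of_disjoint (Finset.disjoint_left.2 fun c hc hc' => by
          obtain ⟨i, hi, rfl⟩ := Finset.mem_image.1 hc
          obtain ⟨k, -, hk⟩ := Finset.mem_image.1 hc'
          exact hbT k (hk ▸ (hf i hi).2)),
        Finset.card_image_of_injective _ hb,
        Finset.card_erase_of_mem (Finset.mem_univ j₀), Finset.card_univ (α := Fin n), Fintype.card_fin,
        Finset.card_image_of_injOn fun i hi i' hi' he => by
          by_contra hne
          have h := hothers (i, false) (Finset.mem_erase.1 hi).1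
          have h' := hothers (i', false) (Finset.mem_erase.1 hi').1
          simp only [f, dif_pos h, dif_pos h'] at he
          exact hinjT _ _ h h' hne he] at h2
      exact h2
    rw [Finset.card_erase_of_mem (Finset.mem_univ _), Finset.card_univ, Fintype.card_fin] at hle
    omega
  -- the points of `T`
  have htinj : Function.Injective fun i => (⟨t (i, false) (hnopure _), htT _ _⟩ : T) := by
    intro i j he
    by_contra hne
    exact hinjT _ _ _ _ hne (congrArg Subtype.val he)
  have htsurj := ((Fintype.bijective_iff_injective_and_card _).2 ⟨htinj, by simp [hT]⟩).2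
  have hteq : ∀ x, t x (hnopure x) = t (x.1, false) (hnopure _) := by
    intro x
    obtain ⟨i, hi⟩ := htsurj ⟨t x (hnopure x), htT _ _⟩
    have hi' : t (i, false) (hnopure _) = t x (hnopure x) := congrArg Subtype.val hi
    by_cases h : i = x.1
    · rw [← hi', h]
    · exact absurd hi' (hinjT _ _ _ _ h)
  -- the points outside
  let Q : Fin l × Bool → κ := fun x => q x (hnopure x)
  have hQinj : Function.Injective Q := by
    intro x y he
    by_contra hne
    obtain ⟨hy1, hyT⟩ := hval y (hnopure y)
    have h := hdot x (hnopure x) y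
    rw [hgg, if_neg hne, hy1, hyT _ (htT x _)] at h
    have hprod : g x (Q x) * g y (Q x) ≠ 0 := mul_ne_zero
      (fun h0 => by have := hq1 x (hnopure x); rw [show q x (hnopure x) = Q x from rfl, h0] at this; simp at this)
      (fun h0 => by
        have := hq1 y (hnopure y)
        rw [show q y (hnopure y) = Q x from he.symm, h0] at this; simp at this)
    by_cases h1 : x.1 = y.1
    · rw [if_pos h1, if_pos (by rw [hteq x, hteq y, h1])] at h
      exact hprod (by simpa [Q] using h)
    · rw [if_neg h1, if_neg (hinjT _ _ _ _ h1)] at h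
      exact hprod (by simpa [Q] using h)
  have hOimg : O = Finset.univ.image Q := by
    ext c
    constructor
    · intro hc
      obtain h | ⟨k, hk⟩ | ⟨x, hx⟩ := hcov c
      · exact absurd h (hO.1 hc).1
      · exact absurd hk ((hO.1 hc).2 k)
      · refine Finset.mem_image.2 ⟨x, Finset.mem_univ _, ?_⟩
        by_contra hne
        exact hx (hq0 x (hnopure x) c hc fun e => hne e.symm)
    · intro hc
      obtain ⟨x, -, rfl⟩ := Finset.mem_image.1 hc
      exact hqO _ _
  have hcard := Finset.card_sdiff_of_subset (Finset.subset_univ (T ∪ Bs))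
  rw [show Finset.univ \ (T ∪ Bs) = O from rfl, hOimg, Finset.card_image_of_injective _ hQinj,
    Finset.card_union_of_disjoint hTB, hT, hBs, Finset.card_univ, Finset.card_univ, Fintype.card_prod,
    Fintype.card_fin, Fintype.card_bool] at hcard
  omega

/-- The vectors of norm three together with a column of nine signs need more than nine points. -/
theorem false_of_nine {κ : Type*} [Fintype κ] [DecidableEq κ] (g : Fin 5 × Bool → κ → ℤ) (V : κ → ℤ)
    (S : Finset κ) (hS : S.card = 9) (hV : ∀ c ∈ S, V c * V c = 1) (hV0 : ∀ c, c ∉ S → V c = 0)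
    (hgg : ∀ x y, ∑ c, g x c * g y c = 1 + (if x.1 = y.1 then 1 else 0) + (if x = y then 1 else 0))
    (hgV : ∀ x, ∑ c, V c * g x c = 3) : False := by
  classical
  have hsupp : ∀ x c, c ∉ S → g x c = 0 := by
    intro x
    have h1 : ∑ c, (g x c * g x c - V c * g x c) = 0 := by
      rw [Finset.sum_sub_distrib, hgg, hgV]
      simp
    have hpos : ∀ c ∈ (Finset.univ : Finset κ), 0 ≤ g x c * g x c - V c * g x c := by
      intro c _
      by_cases hc : c ∈ S
      · have h := Int.le_self_sq (V c * g x c)
        rw [sq, show V c * g x c * (V c * g x c) = (V c * V c) * (g x c * g x c) by ring, hV c hc,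
          one_mul] at h
        linarith
      · rw [hV0 c hc, zero_mul, sub_zero]
        exact mul_self_nonneg _
    intro c hc
    have h2 := (Finset.sum_eq_zero_iff_of_nonneg hpos).1 h1 c (Finset.mem_univ c)
    rw [hV0 c hc, zero_mul, sub_zero] at h2
    exact mul_self_eq_zero.1 h2
  let W : Option (Fin 5 × Bool) → S → ℤ := fun a c => a.elim (V c) fun x => g x c
  have hkey : ∀ (F : κ → ℤ), (∀ c, c ∉ S → F c = 0) → ∑ c : S, F c = ∑ c, F c := fun F hF => by
    rw [Finset.sum_coe_sort S F]
    exact Finset.sum_subset (Finset.subset_univ _) fun c _ hc => hF c hc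
  have hle := linearIndependent_le W fun c hc => by
    have hdot : ∀ b, ∑ a, c a * ((∑ k : S, W a k * W b k : ℤ) : ℚ) = 0 := by
      intro b
      simp only [Int.cast_sum, Int.cast_mul, Finset.mul_sum, ← mul_assoc]
      rw [Finset.sum_comm]
      exact Finset.sum_eq_zero fun k _ => by rw [← Finset.sum_mul, hc k, zero_mul]
    have hVV : ∑ k : S, W none k * W none k = 9 := by
      show ∑ k : S, V k * V k = 9
      rw [Finset.sum_congr rfl fun (k : S) _ => hV k k.2]
      simp [hS]
    have hgV' : ∀ x, ∑ k : S, W (some x) k * W none k = 3 := fun x => by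
      rw [← hgV x]
      show ∑ k : S, g x k * V k = _
      rw [hkey (fun k => g x k * V k) fun k hk => by simp [hV0 k hk]]
      exact Finset.sum_congr rfl fun k _ => mul_comm _ _
    have hVg : ∀ y, ∑ k : S, W none k * W (some y) k = 3 := fun y => by
      rw [← hgV' y]
      exact Finset.sum_congr rfl fun k _ => mul_comm _ _
    have hgg' : ∀ x y, ∑ k : S, W (some x) k * W (some y) k =
        1 + (if x.1 = y.1 then 1 else 0) + (if x = y then 1 else 0) := fun x y => by
      rw [← hgg x y]
      exact hkey (fun k => g x k * g y k) fun k hk => by simp [hsupp x k hk]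
    have h0 := hdot none
    rw [Fintype.sum_option, hVV] at h0
    simp only [hgV'] at h0
    push_cast at h0
    rw [← Finset.sum_mul] at h0
    have hpair : ∀ i b, 2 * c (some (i, b)) + c (some (i, !b)) = 0 := by
      intro i b
      have h := hdot (some (i, b))
      rw [Fintype.sum_option, hVg] at h
      simp only [hgg'] at h
      push_cast at h
      simp only [mul_add, mul_one, Finset.sum_add_distrib, mul_ite, mul_zero] at h
      rw [Finset.sum_ite_eq', if_pos (Finset.mem_univ _), ← Finset.sum_filter,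
        show Finset.univ.filter (fun x : Fin 5 × Bool => x.1 = i) = {(i, b), (i, !b)} by
          ext ⟨j, b'⟩; cases b <;> cases b' <;> simp,
        Finset.sum_pair (by cases b <;> simp)] at h
      linarith
    have hz : ∀ x : Fin 5 × Bool, c (some x) = 0 := by
      rintro ⟨i, b⟩
      have h1 := hpair i b
      have h2 := hpair i (!b)
      rw [Bool.not_not] at h2
      linarith
    simp only [hz, Finset.sum_const_zero, zero_mul, add_zero] at h0
    funext a
    cases a with
    | none => simpa using h0
    | some x => exact hz x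
  simp [Fintype.card_prod, hS] at hle

end Cfsg.Agent.Extra27
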