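import Cfsg.Agent.Lib.Blocks.Extra27.Layers

/-!
# The local frame

In `C = C(z)` the principal block supplies generalised characters vanishing on the regular elements:
`V j` supported on the section of `x j`, and `g` of norm three with the pattern of `card_eq_of_frame`.
-/

set_option autoImplicit false
set_option linter.unusedSectionVars false
set_option maxHeartbeats 800000

open scoped ComplexConjugate

namespace Cfsg.Agent.Extra27

open Cfsg Cfsg.Agent.Blocks

universe u

/-- The integral combinations over the principal block. -/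
def Comb {C : Type u} [Group C] (M : Ideal AlgInt) : Submodule ℤ (C → ℂ) :=
  Submodule.span ℤ ((fun η : IrrCharacter C => (η : C → ℂ)) '' principalBlock M C)

/-- The local frame. -/
structure Frame {C : Type u} [Group C] [Fintype C] (M : Ideal AlgInt) (z : C) {n : ℕ}
    (x : Fin n → C) (l : ℕ) where
  rank : blockRank 3 (principalBlock M C) = l
  hl : l + n = 6
  j₀ : Fin n
  i₀ : Fin l
  g : Fin l × Bool → C → ℂ
  V : Fin n → C → ℂ
  g_comb : ∀ a, g a ∈ Comb M
  V_comb : ∀ j, V j ∈ Comb M
  g_reg : ∀ a c, ¬ 3 ∣ orderOf c → g a c = 0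
  V_reg : ∀ j c, ¬ 3 ∣ orderOf c → V j c = 0
  gram : ∀ a b, classInner (g a) (g b) =
    1 + (if a.1 = b.1 then 1 else 0) + (if a = b then 1 else 0)
  gV : ∀ a j, classInner (g a) (V j) = if j = j₀ then 3 else 0
  g_one : ∀ a, classInner (g a) (fun _ => 1) = if a.1 = i₀ then 1 else 0
  V_one : ∀ j, classInner (V j) (fun _ => 1) = 1
  V_supp : ∀ j c, V j c ≠ 0 → ∃ y, ¬ 3 ∣ orderOf y ∧ Commute (x j) y ∧ IsConj c (x j * y)
  cover : ∀ ψ : C → ℂ,
    (∀ c j y, ¬ 3 ∣ orderOf y → Commute (x j) y → IsConj c (x j * y) → ψ c = 0) →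
    (∀ m : Fin 3, m ≠ 0 → pRegularPart 3 (fun c => ψ (z ^ (m : ℕ) * c)) ∈ Submodule.span ℂ
      ((fun η : IrrCharacter C => pRegularPart 3 (η : C → ℂ)) '' principalBlock M C)) →
    (∀ a, classInner (g a) ψ = 0) → ∀ c, 3 ∣ orderOf c → ψ c = 0

variable {C : Type u} [Group C] [Fintype C] {M : Ideal AlgInt} [Fact (Nat.Prime 3)] {z : C}
  [(Subgroup.zpowers z).Normal] {P : Sylow 3 C} {n l : ℕ} {x : Fin n → C}

theorem sum_split {ι β : Type*} [Fintype ι] [AddCommMonoid β] (e : Fin n ⊕ Fin l ≃ ι) (F : ι → β) :
    ∑ ξ, F ξ = ∑ k, F (e (Sum.inl k)) + ∑ i, F (e (Sum.inr i)) := by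
  rw [← Equiv.sum_comp e, Fintype.sum_sum_type]

theorem pow_ne_pow {μ μ' : ℂ} (h : μ ^ 3 = 1) (h' : μ' = μ ^ 2) (hμ : μ ≠ 1) : μ ≠ μ' := by
  rintro rfl
  have h2 : μ * (μ - 1) = 0 := by linear_combination -h'
  rcases mul_eq_zero.1 h2 with h0 | h0
  · rw [h0] at h; norm_num at h
  · exact hμ (by linear_combination h0)

theorem regInner_shift_eq {φ ψ : C → ℂ} (m : ℕ) :
    ∑ c, (if ¬ 3 ∣ orderOf c then φ c * conj (ψ (z ^ m * c)) else 0) =
      (Nat.card C : ℂ) * SecondMain.regInner 3 φ (fun c => ψ (z ^ m * c)) := by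
  classical
  rw [SecondMain.regInner_eq_sum, ← mul_assoc,
    mul_inv_cancel₀ (Nat.cast_ne_zero.2 Nat.card_pos.ne'), one_mul, Finset.sum_filter]

/-- A function vanishing outside the centre sections, summed over those sections. -/
theorem sum_center_sections (R : Reps P z n x) (hz : ∀ c, Commute z c) (h : C → ℂ)
    (h0 : ∀ c j y, ¬ 3 ∣ orderOf y → Commute (x j) y → IsConj c (x j * y) → h c = 0) :
    ∑ c, h c = ∑ m : Fin 3, ∑ c, (if ¬ 3 ∣ orderOf c then h (z ^ (m : ℕ) * c) else 0) := by
  classical
  have hzo := R.ctx.orderOf_z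
  have hzi : ∀ (m : Fin 3) c,
      z ^ ((-m : Fin 3) : ℕ) * (z ^ (m : ℕ) * c) = c := by
    intro m c
    rw [← mul_assoc, ← pow_add, ← pow_mod_orderOf, hzo,
      (show ∀ m : Fin 3, (((-m : Fin 3) : ℕ) + (m : ℕ)) % 3 = 0 by decide) m, pow_zero, one_mul]
  have e : ∀ m : Fin 3, ∑ c, (if ¬ 3 ∣ orderOf c then h (z ^ (m : ℕ) * c) else 0) =
      ∑ c, (if ¬ 3 ∣ orderOf (z ^ ((-m : Fin 3) : ℕ) * c) then h c else 0) := fun m => by
    refine Eq.trans ?_ (Equiv.sum_comp (Equiv.mulLeft (z ^ (m : ℕ))) _)
    exact Finset.sum_congr rfl fun c _ => by simp only [Equiv.coe_mulLeft, hzi]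
  rw [Finset.sum_congr rfl fun m _ => e m, Finset.sum_comm]
  refine Finset.sum_congr rfl fun c _ => ?_
  rcases R.cases hz c with ⟨i, y, hy, rfl⟩ | ⟨j, y, hy, hc, hconj⟩
  · rw [Finset.sum_eq_single i (fun m _ hmi => ?_) (by simp), hzi, if_pos hy]
    rw [if_neg]
    intro hm
    have hi : ¬ 3 ∣ orderOf (z ^ ((-i : Fin 3) : ℕ) * (z ^ (i : ℕ) * y)) := by rwa [hzi]
    exact hmi (neg_injective (regular_unique hzo hz _ _ hm hi))
  · simp [h0 c j y hy hc hconj]

set_option maxHeartbeats 3200000 in
/-- The local frame exists. -/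
theorem exists_frame (R : Reps P z n x) (hM : IsPModular 3 M) (hz : ∀ c, Commute z c) :
    ∃ l, Nonempty (Frame M z x l) := by
  classical
  have := Fintype.ofFinite (principalBlock M (C ⧸ Subgroup.zpowers z))
  have := Fintype.ofFinite (IrrCharacter C)
  have hzo := R.ctx.orderOf_z
  obtain ⟨ω, hω⟩ : ∃ ω : ℂ, IsPrimitiveRoot ω 3 := ⟨_, Complex.isPrimitiveRoot_exp 3 three_ne_zero⟩
  have hω3 : ω ^ 3 = 1 := hω.pow_eq_one
  have hω1 : ω ≠ 1 := hω.ne_one (by norm_num)
  let lam : Bool → ℂ := fun b => if b then ω else ω ^ 2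
  have hlam3 : ∀ b, lam b ^ 3 = 1 := by
    intro b; cases b <;> simp [lam, hω3, ← pow_mul]
    rw [show 6 = 3 * 2 from rfl, pow_mul, hω3, one_pow]
  have hlam1 : ∀ b, lam b ≠ 1 := by
    intro b; cases b
    · intro h
      simp only [lam, Bool.false_eq_true, if_false] at h
      exact hω1 (by linear_combination (1 - ω) * 0 + hω3 - ω * h)
    · simpa [lam] using hω1
  have N := R.nine hz
  obtain ⟨v, hv, hgram, hshape⟩ := N.exists_values (M := M) hM
  have hrank := rank_eq (M := M) hM hzo hz
  have hexp : ∀ b, ∀ η : Lay M z (lam b), ∃ m : principalBlock M (C ⧸ Subgroup.zpowers z) → ℤ,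
      ∀ c : C, ¬ 3 ∣ orderOf c → (η.1 : C → ℂ) c = phi m (c : C ⧸ Subgroup.zpowers z) :=
    fun b η => exists_expansion hM hzo hz η.2.1
  choose nn hnn using hexp
  have hvan : ∀ a, (∀ j, ∑ ξ, a ξ * v j ξ = 0) →
      ∀ q : C ⧸ Subgroup.zpowers z, 3 ∣ orderOf q → phi a q = 0 := fun a ha q hq =>
    N.vanish hM hv ha hq
  have hone : ∀ j, v j ⟨BrauerPairs.oneIrr _, BrauerPairs.oneIrr_mem_principal hM⟩ = 1 := by
    intro j
    have h := hv j ⟨BrauerPairs.oneIrr _, BrauerPairs.oneIrr_mem_principal hM⟩
    change (1 : ℂ) = _ at h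
    exact_mod_cast h.symm
  rcases hshape with ⟨hn1, h9, hsq, hr8⟩ | ⟨h6, ⟨p⟩, hr⟩
  · -- nine characters in the quotient
    exfalso
    subst hn1
    set ξ₁ : principalBlock M (C ⧸ Subgroup.zpowers z) :=
      ⟨BrauerPairs.oneIrr _, BrauerPairs.oneIrr_mem_principal hM⟩
    let u : Fin 8 ≃ {ξ // ξ ≠ ξ₁} := (Fintype.equivFinOfCardEq (by
      rw [Fintype.card_subtype_compl, Fintype.card_subtype_eq, h9])).symm
    let r : Fin 8 → principalBlock M (C ⧸ Subgroup.zpowers z) → ℤ := fun i ξ =>
      (if ξ = ξ₁ then 1 else 0) - (if ξ = (u i : _) then v 0 ξ else 0)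
    have hr0 : ∀ i j, ∑ ξ, r i ξ * v j ξ = 0 := by
      intro i j
      obtain rfl := Subsingleton.elim j 0
      simp [r, sub_mul, Finset.sum_sub_distrib, ite_mul, hone, hsq]
    have hrr : ∀ i j, ∑ ξ, r i ξ * r j ξ = if i = j then 2 else 1 := by
      intro i j
      have hu : ∀ k, (u k : principalBlock M (C ⧸ Subgroup.zpowers z)) ≠ ξ₁ := fun k => (u k).2
      simp only [r, sub_mul, mul_sub, ite_mul, mul_ite, one_mul, mul_one, zero_mul, mul_zero,
        Finset.sum_sub_distrib, Finset.sum_ite_eq', Finset.mem_univ, if_true]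
      by_cases hij : i = j
      · subst hij; simp [hu i, (hu i).symm, hsq]
      · have hne : (u i : principalBlock M (C ⧸ Subgroup.zpowers z)) ≠ u j := fun h =>
          hij (u.injective (Subtype.ext h))
        simp [hij, hu, (hu _).symm, hne, hne.symm]
    refine false_of_star ((layer_card R hM hz (hlam1 true)).trans (by rw [hrank, hr8]))
      (fun i η => ∑ ξ, r i ξ * nn true η ξ) fun i j => ?_
    rw [layer_gram hM hzo hz (hlam3 true) (nn true) (hnn true) (hvan _ (hr0 i)) (hvan _ (hr0 j)), hrr]
  · -- six characters in the quotient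
    set l := blockRank 3 (principalBlock M (C ⧸ Subgroup.zpowers z)) with hldef
    refine ⟨l, ?_⟩
    have hn0 : 0 < n := by rcases R.hn with h | h | h <;> omega
    let j₀ : Fin n := ⟨0, hn0⟩
    let t : Fin l ≃ {ξ // ξ ∉ Finset.univ.image p.b} := (Fintype.equivFinOfCardEq (by
      rw [Fintype.card_subtype_compl, h6, Fintype.card_coe, Finset.card_image_of_injective _ p.hb,
        Finset.card_univ, Fintype.card_fin]
      omega)).symm
    have hebij : Function.Bijective (Sum.elim p.b fun i => (t i : principalBlock M (C ⧸ Subgroup.zpowers z))) := by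
      refine ⟨?_, fun ξ => ?_⟩
      · exact p.hb.sumElim (Subtype.val_injective.comp t.injective) fun k i h =>
          (t i).2 (Finset.mem_image.2 ⟨k, Finset.mem_univ _, h⟩)
      · by_cases h : ξ ∈ Finset.univ.image p.b
        · obtain ⟨k, -, rfl⟩ := Finset.mem_image.1 h
          exact ⟨Sum.inl k, rfl⟩
        · exact ⟨Sum.inr (t.symm ⟨ξ, h⟩), by simp⟩
    let e := Equiv.ofBijective _ hebij
    have hnl : (n : ℤ) + l = 6 := by exact_mod_cast (by omega : n + l = 6)
    let w : Fin n → principalBlock M (C ⧸ Subgroup.zpowers z) → ℤ := fun j ξ => p.s ξ * v j ξ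
    have hwb : ∀ j k, w j (e (Sum.inl k)) = if j = k then 2 else -1 := p.hbb
    have hwt : ∀ j i, w j (e (Sum.inr i)) = 1 := fun j i => p.hT j _ fun k h =>
      (t i).2 (Finset.mem_image.2 ⟨k, Finset.mem_univ _, h⟩)
    have hsw : ∀ j ξ, v j ξ = p.s ξ * w j ξ := fun j ξ => by
      show v j ξ = p.s ξ * (p.s ξ * v j ξ); rw [← mul_assoc, p.hs, one_mul]
    let a₁ : Fin l → principalBlock M (C ⧸ Subgroup.zpowers z) → ℤ := fun i ξ =>
      Sum.elim (fun _ => (1 : ℤ)) (fun k => if k = i then 2 else -1) (e.symm ξ)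
    let f₁ : Fin l → principalBlock M (C ⧸ Subgroup.zpowers z) → ℤ := fun i ξ =>
      Sum.elim (fun k => if k = j₀ then (1 : ℤ) else 0) (fun k => if k = i then 1 else 0) (e.symm ξ)
    let a : Fin l → principalBlock M (C ⧸ Subgroup.zpowers z) → ℤ := fun i ξ => p.s ξ * a₁ i ξ
    let f : Fin l → principalBlock M (C ⧸ Subgroup.zpowers z) → ℤ := fun i ξ => p.s ξ * f₁ i ξ
    have hss : ∀ (F F' : principalBlock M (C ⧸ Subgroup.zpowers z) → ℤ),
        ∑ ξ, p.s ξ * F ξ * (p.s ξ * F' ξ) = ∑ ξ, F ξ * F' ξ := fun F F' =>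
      Finset.sum_congr rfl fun ξ _ => by
        rw [mul_mul_mul_comm, p.hs, one_mul]
    have haa : ∀ i j, ∑ ξ, a i ξ * a j ξ = if i = j then 9 else 0 := by
      intro i j
      simp only [a, hss, sum_split e, a₁, Equiv.symm_apply_apply, Sum.elim_inl, Sum.elim_inr]
      by_cases hij : i = j
      · subst hij
        rw [if_pos rfl, Finset.sum_congr rfl (s₂ := Finset.univ) (fun k _ => show (if k = i then (2 : ℤ) else -1) *
          (if k = i then 2 else -1) = 1 + if k = i then 3 else 0 by split_ifs <;> norm_num)]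
        simp [Finset.sum_add_distrib]
        linarith
      · rw [if_neg hij, Finset.sum_congr rfl (s₂ := Finset.univ) (fun k _ => show (if k = i then (2 : ℤ) else -1) *
          (if k = j then 2 else -1) = 1 - (if k = i then 3 else 0) - (if k = j then 3 else 0) by
            split_ifs with h1 h2
            · exact absurd (h1.symm.trans h2) hij
            all_goals norm_num)]
        simp [Finset.sum_sub_distrib]
        linarith
    have hav : ∀ i j, ∑ ξ, a i ξ * v j ξ = 0 := by
      intro i j
      simp only [hsw, a, hss, sum_split e, hwb, hwt, a₁, Equiv.symm_apply_apply, Sum.elim_inl,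
        Sum.elim_inr, one_mul, mul_one]
      rw [Finset.sum_congr rfl (s₂ := Finset.univ) (fun k _ => show (if j = k then (2 : ℤ) else -1) =
          (if j = k then 3 else 0) - 1 by split_ifs <;> norm_num),
        Finset.sum_congr rfl (s₂ := Finset.univ) (fun k _ => show (if k = i then (2 : ℤ) else -1) =
          (if k = i then 3 else 0) - 1 by split_ifs <;> norm_num)]
      simp [Finset.sum_sub_distrib]
      linarith
    have haf : ∀ k i, ∑ ξ, a k ξ * f i ξ = if i = k then 3 else 0 := by
      intro k i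
      simp only [a, f, hss, sum_split e, a₁, f₁, Equiv.symm_apply_apply, Sum.elim_inl, Sum.elim_inr,
        mul_ite, one_mul, mul_one, mul_zero, Finset.sum_ite_eq', Finset.mem_univ, if_true]
      split_ifs <;> norm_num
    have hff : ∀ i k, ∑ ξ, f i ξ * f k ξ = 1 + if i = k then 1 else 0 := by
      intro i k
      simp only [f, hss, sum_split e, f₁, Equiv.symm_apply_apply, Sum.elim_inl, Sum.elim_inr,
        mul_ite, one_mul, mul_one, mul_zero, Finset.sum_ite_eq', Finset.mem_univ, if_true]
      congr 1
      exact if_congr eq_comm rfl rfl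
    have hfv : ∀ i j, ∑ ξ, f i ξ * v j ξ = if j = j₀ then 3 else 0 := by
      intro i j
      simp only [hsw, f, hss, sum_split e, hwb, hwt, f₁, Equiv.symm_apply_apply, Sum.elim_inl,
        Sum.elim_inr, ite_mul, one_mul, mul_one, zero_mul, Finset.sum_ite_eq', Finset.mem_univ, if_true]
      split_ifs <;> norm_num
    -- orthogonal to the `a i` means a combination of the columns
    have hspan : ∀ d : principalBlock M (C ⧸ Subgroup.zpowers z) → ℤ, (∀ i, ∑ ξ, d ξ * a i ξ = 0) →
        ∀ y : C ⧸ Subgroup.zpowers z, ¬ 3 ∣ orderOf y → phi d y = 0 := by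
      intro d hd y hy
      let c : Fin n → ℤ := fun j => ∑ ξ, d ξ * v j ξ
      let r : principalBlock M (C ⧸ Subgroup.zpowers z) → ℤ := fun ξ => 9 * d ξ - ∑ j, c j * v j ξ
      have hra : ∀ i, ∑ ξ, r ξ * a i ξ = 0 := by
        intro i
        simp only [r, sub_mul, Finset.sum_sub_distrib, Finset.sum_mul]
        rw [Finset.sum_comm]
        simp only [mul_assoc, ← Finset.mul_sum, hd i, mul_zero]
        rw [Finset.sum_eq_zero fun j _ => by rw [Finset.sum_congr rfl fun ξ _ => mul_comm (v j ξ) (a i ξ),
          hav, mul_zero], sub_zero]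
      have hrv : ∀ k, ∑ ξ, r ξ * v k ξ = 0 := by
        intro k
        simp only [r, sub_mul, Finset.sum_sub_distrib, Finset.sum_mul]
        conv_lhs => arg 2; rw [Finset.sum_comm]
        simp only [mul_assoc, ← Finset.mul_sum, hgram, mul_ite, mul_zero, Finset.sum_ite_eq',
          Finset.mem_univ, if_true, c]
        rw [Finset.sum_mul, Finset.mul_sum, ← Finset.sum_sub_distrib]
        exact Finset.sum_eq_zero fun ξ _ => by ring
      let W : principalBlock M (C ⧸ Subgroup.zpowers z) → ℤ := fun ξ => p.s ξ * r ξ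
      have hrW : ∀ ξ, r ξ = p.s ξ * W ξ := fun ξ => by
        show r ξ = p.s ξ * (p.s ξ * r ξ); rw [← mul_assoc, p.hs, one_mul]
      have E1 : ∀ i, ∑ k, W (e (Sum.inl k)) + 3 * W (e (Sum.inr i)) - ∑ k, W (e (Sum.inr k)) = 0 := by
        intro i
        have h := hra i
        simp only [hrW, a, hss, sum_split e, a₁, Equiv.symm_apply_apply, Sum.elim_inl, Sum.elim_inr,
          mul_one] at h
        rw [Finset.sum_congr rfl (s₂ := Finset.univ) (fun k _ => show W (e (Sum.inr k)) *
          (if k = i then (2 : ℤ) else -1) = (if k = i then 3 * W (e (Sum.inr k)) else 0) - W (e (Sum.inr k)) by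
            split_ifs <;> ring), Finset.sum_sub_distrib, Finset.sum_ite_eq', if_pos (Finset.mem_univ _)] at h
        linarith
      have E2 : ∀ j, 3 * W (e (Sum.inl j)) - ∑ k, W (e (Sum.inl k)) + ∑ k, W (e (Sum.inr k)) = 0 := by
        intro j
        have h := hrv j
        simp only [hrW, hsw, hss, sum_split e, hwb, hwt, mul_one] at h
        rw [Finset.sum_congr rfl (s₂ := Finset.univ) (fun k _ => show W (e (Sum.inl k)) *
          (if j = k then (2 : ℤ) else -1) = (if j = k then 3 * W (e (Sum.inl k)) else 0) - W (e (Sum.inl k)) by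
            split_ifs <;> ring), Finset.sum_sub_distrib, Finset.sum_ite_eq, if_pos (Finset.mem_univ _)] at h
        linarith
      set Bs := ∑ k, W (e (Sum.inl k))
      set Ts := ∑ k, W (e (Sum.inr k))
      have hB : 3 * Bs = n * (Bs - Ts) := by
        rw [show 3 * Bs = ∑ k, 3 * W (e (Sum.inl k)) from Finset.mul_sum _ _ _,
          Finset.sum_congr rfl fun k _ => show 3 * W (e (Sum.inl k)) = Bs - Ts by linarith [E2 k]]
        simp [mul_sub]
      have hT : 3 * Ts = l * (Ts - Bs) := by
        rw [show 3 * Ts = ∑ k, 3 * W (e (Sum.inr k)) from Finset.mul_sum _ _ _,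
          Finset.sum_congr rfl fun k _ => show 3 * W (e (Sum.inr k)) = Ts - Bs by linarith [E1 k]]
        simp [mul_sub]
      have hBT : Ts = Bs := by
        have h : 3 * (Ts - Bs) = 6 * (Ts - Bs) := by rw [← hnl]; linarith
        linarith
      have hr0 : ∀ ξ, r ξ = 0 := by
        intro ξ
        obtain ⟨σ, rfl⟩ := e.surjective ξ
        rw [hrW]
        cases σ with
        | inl k => rw [show W (e (Sum.inl k)) = 0 by linarith [E2 k], mul_zero]
        | inr k => rw [show W (e (Sum.inr k)) = 0 by linarith [E1 k], mul_zero]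
      have h9 : (9 : ℂ) * phi d y = 0 := by
        rw [phi, Finset.mul_sum]
        calc ∑ ξ, (9 : ℂ) * ((d ξ : ℂ) * ((ξ : IrrCharacter (C ⧸ Subgroup.zpowers z)) : C ⧸ Subgroup.zpowers z → ℂ) y)
            = ∑ ξ, ∑ j, (c j : ℂ) * ((v j ξ : ℂ) * ((ξ : IrrCharacter (C ⧸ Subgroup.zpowers z)) : C ⧸ Subgroup.zpowers z → ℂ) y) := by
              refine Finset.sum_congr rfl fun ξ _ => ?_
              have h : ((9 * d ξ : ℤ) : ℂ) = ((∑ j, c j * v j ξ : ℤ) : ℂ) :=
                congrArg _ (sub_eq_zero.1 (hr0 ξ))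
              push_cast at h
              rw [← mul_assoc, h, Finset.sum_mul]
              exact Finset.sum_congr rfl fun j _ => mul_assoc _ _ _
          _ = 0 := by
              rw [Finset.sum_comm]
              exact Finset.sum_eq_zero fun j _ => by
                rw [← Finset.mul_sum, N.regular_zero hM hv j hy, mul_zero]
      simpa using h9
    -- the members of the layers
    have hlay : ∀ b, ∃ (el : Fin l ≃ Lay M z (lam b)) (σ : Fin l → ℤ), (∀ i, σ i * σ i = 1) ∧
        ∀ i j, (∑ ξ, a i ξ * nn b (el j) ξ) = if j = i then 3 * σ i else 0 := by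
      intro b
      obtain ⟨el, σ, h1, h2⟩ := exists_single_of_dvd (X := Lay M z (lam b))
        (show l = 2 ∨ l = 4 ∨ l = 5 by rcases R.hn with h | h | h <;> omega)
        ((layer_card R hM hz (hlam1 b)).trans (le_of_eq hrank))
        (fun i η => ∑ ξ, a i ξ * nn b η ξ)
        (fun i j => by
          rw [layer_gram hM hzo hz (hlam3 b) (nn b) (hnn b) (hvan _ (hav i)) (hvan _ (hav j)), haa])
        (fun i j η => by
          rw [← Finset.sum_sub_distrib]
          refine Finset.dvd_sum fun ξ _ => ?_
          rw [← sub_mul]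
          refine dvd_mul_of_dvd_left ?_ _
          show (3 : ℤ) ∣ p.s ξ * a₁ i ξ - p.s ξ * a₁ j ξ
          rw [← mul_sub]
          refine dvd_mul_of_dvd_right ?_ _
          simp only [a₁]
          cases e.symm ξ with
          | inl k => simp
          | inr k => simp only [Sum.elim_inr]; split_ifs <;> norm_num)
      exact ⟨el, σ, h1, h2⟩
    choose el σ hσ hel using hlay
    have hreg : ∀ b i (y : C), ¬ 3 ∣ orderOf y →
        ((el b i).1 : C → ℂ) y = (σ b i : ℂ) * phi (f i) (y : C ⧸ Subgroup.zpowers z) := by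
      intro b i y hy
      have h0 := hspan (fun ξ => nn b (el b i) ξ - σ b i * f i ξ) (fun k => by
        simp only [sub_mul, Finset.sum_sub_distrib, mul_assoc, ← Finset.mul_sum]
        rw [Finset.sum_congr rfl fun ξ _ => mul_comm (nn b (el b i) ξ) (a k ξ), hel b k i,
          Finset.sum_congr rfl fun ξ _ => mul_comm (f i ξ) (a k ξ), haf k i]
        split_ifs with h
        · subst h; ring
        · ring) _ (SmallSection.not_dvd_orderOf_mk hy)
      rw [hnn b (el b i) y hy]
      simp only [phi, Int.cast_sub, Int.cast_mul, sub_mul, mul_assoc, Finset.sum_sub_distrib,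
        ← Finset.mul_sum] at h0 ⊢
      exact sub_eq_zero.1 h0
    have hinf : ∀ c : principalBlock M (C ⧸ Subgroup.zpowers z) → ℤ,
        (fun y : C => phi c (y : C ⧸ Subgroup.zpowers z)) ∈ Comb M := by
      intro c
      have e' : (fun y : C => phi c (y : C ⧸ Subgroup.zpowers z)) = ∑ ξ, c ξ •
          (Codegree.inflate (Subgroup.zpowers z) (ξ : IrrCharacter (C ⧸ Subgroup.zpowers z)) : C → ℂ) := by
        funext y
        simp only [phi, Finset.sum_apply, Pi.smul_apply, zsmul_eq_mul]
        rfl
      rw [e']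
      exact Submodule.sum_mem _ fun ξ _ => Submodule.smul_mem _ _
        (Submodule.subset_span ⟨_, inflate_mem hM hzo hz ξ, rfl⟩)
    let G : Fin l × Bool → C → ℂ := fun q y =>
      phi (f q.1) (y : C ⧸ Subgroup.zpowers z) - (σ q.2 q.1 : ℂ) * ((el q.2 q.1).1 : C → ℂ) y
    have horth : ∀ b (η : Lay M z (lam b)) (ξ : IrrCharacter (C ⧸ Subgroup.zpowers z)),
        classInner (η.1 : C → ℂ) (Codegree.inflate (Subgroup.zpowers z) ξ : C → ℂ) = 0 := by
      intro b η ξ
      refine Char.classInner_irr_of_ne η.1.2 (Codegree.inflate _ ξ).2 fun h => hlam1 b ?_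
      have h1 := η.2.2 1
      rw [h] at h1
      have hzc : (Codegree.inflate (Subgroup.zpowers z) ξ : C → ℂ) (z * 1) =
          (Codegree.inflate (Subgroup.zpowers z) ξ : C → ℂ) 1 := by
        rw [mul_one, Codegree.inflate_apply, Codegree.inflate_apply, QuotientGroup.mk_one,
          (QuotientGroup.eq_one_iff z).2 (Subgroup.mem_zpowers z)]
      rw [hzc] at h1
      exact ((mul_eq_right₀ (irr_one_ne_zero _)).1 h1.symm)
    have horth' : ∀ b (η : Lay M z (lam b)) (c : principalBlock M (C ⧸ Subgroup.zpowers z) → ℤ),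
        classInner (η.1 : C → ℂ) (fun y : C => phi c (y : C ⧸ Subgroup.zpowers z)) = 0 := by
      intro b η c
      rw [show (fun y : C => phi c (y : C ⧸ Subgroup.zpowers z)) = ∑ ξ, (c ξ : ℂ) •
        (Codegree.inflate (Subgroup.zpowers z) (ξ : IrrCharacter (C ⧸ Subgroup.zpowers z)) : C → ℂ) by
          funext y; simp only [phi, Finset.sum_apply, Pi.smul_apply]; rfl,
        Char.classInner_sum_right]
      exact Finset.sum_eq_zero fun ξ _ => by rw [Char.classInner_smul_right, horth, mul_zero]
    have hII : ∀ c d : principalBlock M (C ⧸ Subgroup.zpowers z) → ℤ,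
        classInner (fun y : C => phi c (y : C ⧸ Subgroup.zpowers z))
          (fun y : C => phi d (y : C ⧸ Subgroup.zpowers z)) = ((∑ ξ, c ξ * d ξ : ℤ) : ℂ) := by
      intro c d
      have hq : ∀ c : principalBlock M (C ⧸ Subgroup.zpowers z) → ℤ,
          (fun y : C => phi c (y : C ⧸ Subgroup.zpowers z)) = ∑ ξ, (c ξ : ℂ) •
          (Codegree.inflate (Subgroup.zpowers z) (ξ : IrrCharacter (C ⧸ Subgroup.zpowers z)) : C → ℂ) :=
        fun c => by funext y; simp only [phi, Finset.sum_apply, Pi.smul_apply]; rfl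
      rw [hq, hq, Char.classInner_sum_left, Int.cast_sum]
      refine Finset.sum_congr rfl fun ξ _ => ?_
      rw [Char.classInner_smul_left, Char.classInner_sum_right, Finset.sum_eq_single ξ (fun ξ' _ hne => by
          rw [Char.classInner_smul_right, Char.classInner_irr_of_ne (Codegree.inflate _ _).2
            (Codegree.inflate _ _).2 fun h => hne (Subtype.ext (Subtype.ext (funext fun q => by
              obtain ⟨y, rfl⟩ := QuotientGroup.mk_surjective q
              exact (congrFun h y).symm))), mul_zero])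
        (fun h => absurd (Finset.mem_univ _) h), Char.classInner_smul_right,
        Char.classInner_irr_self (Codegree.inflate _ _).2]
      simp
    have hGeq : ∀ q, G q = (fun y : C => phi (f q.1) (y : C ⧸ Subgroup.zpowers z)) -
        (σ q.2 q.1 : ℂ) • ((el q.2 q.1).1 : C → ℂ) := fun q => rfl
    have hsym : ∀ φ ψ : C → ℂ, classInner φ ψ = 0 → classInner ψ φ = 0 := fun φ ψ h => by
      rw [← Char.classInner_conj_symm, h, map_zero]
    have hξone : ∀ j, w j ⟨BrauerPairs.oneIrr _, BrauerPairs.oneIrr_mem_principal hM⟩ =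
        p.s ⟨BrauerPairs.oneIrr _, BrauerPairs.oneIrr_mem_principal hM⟩ := fun j => by
      show p.s _ * v j _ = _
      rw [hone, mul_one]
    obtain ⟨i₀, hi₀⟩ : ∃ i, e (Sum.inr i) =
        (⟨BrauerPairs.oneIrr _, BrauerPairs.oneIrr_mem_principal hM⟩ : principalBlock M _) := by
      obtain ⟨s, hs⟩ := e.surjective ⟨BrauerPairs.oneIrr _, BrauerPairs.oneIrr_mem_principal hM⟩
      cases s with
      | inl k =>
        exfalso
        have h := hξone k
        rw [← hs, hwb, if_pos rfl] at h
        have := p.hs (e (Sum.inl k))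
        rw [← h] at this
        norm_num at this
      | inr i => exact ⟨i, hs⟩
    refine ⟨{
      rank := hrank
      hl := hr
      j₀ := j₀
      i₀ := i₀
      g := G
      V := fun j y => phi (v j) (y : C ⧸ Subgroup.zpowers z)
      g_comb := fun q => by
        rw [hGeq, show (σ q.2 q.1 : ℂ) • ((el q.2 q.1).1 : C → ℂ) = (σ q.2 q.1) • ((el q.2 q.1).1 : C → ℂ)
          from Int.cast_smul_eq_zsmul ℂ _ _]
        exact Submodule.sub_mem _ (hinf _) (Submodule.smul_mem _ _
          (Submodule.subset_span ⟨_, (el q.2 q.1).2.1, rfl⟩))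
      V_comb := fun j => hinf _
      g_reg := fun q c hc => by
        show phi _ _ - _ * _ = 0
        rw [hreg q.2 q.1 c hc, ← mul_assoc]
        have h1 : ((σ q.2 q.1 : ℂ) * (σ q.2 q.1 : ℂ)) = 1 := by exact_mod_cast hσ q.2 q.1
        rw [h1, one_mul, sub_self]
      V_reg := fun j c hc => N.regular_zero hM hv j (SmallSection.not_dvd_orderOf_mk hc)
      gram := fun q q' => ?_
      gV := fun q j => ?_
      g_one := fun q => ?_
      V_one := fun j => ?_
      V_supp := fun j c hc => ?_
      cover := fun ψ h0 hm hg => ?_ }⟩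
    · rw [hGeq, hGeq, Char.classInner_sub_left, Char.classInner_sub_right, Char.classInner_sub_right,
        hII, hff, Char.classInner_smul_left, Char.classInner_smul_left, Char.classInner_smul_right,
        Char.classInner_smul_right, horth', hsym _ _ (horth' _ _ _), mul_zero, mul_zero,
        Char.classInner_irr (el q.2 q.1).1.2 (el q'.2 q'.1).1.2]
      by_cases hqq : q = q'
      · subst hqq
        rw [if_pos rfl, if_pos rfl]
        have h1 : ((σ q.2 q.1 : ℂ) * (σ q.2 q.1 : ℂ)) = 1 := by exact_mod_cast hσ q.2 q.1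
        simp only [map_intCast, if_true, mul_one, sub_zero, zero_sub, h1]
        push_cast
        ring
      · rw [if_neg hqq]
        rw [if_neg (show ¬ ((el q.2 q.1).1 : C → ℂ) = ((el q'.2 q'.1).1 : C → ℂ) from fun h => hqq ?_)]
        · push_cast; ring
        obtain ⟨i, b⟩ := q
        obtain ⟨i', b'⟩ := q'
        have hbb : b = b' := by
          by_contra hb
          have h1 := (el b i).2.2 1
          have h2 := (el b' i').2.2 1
          simp only at h
          rw [h] at h1
          rw [h1] at h2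
          have h3 := mul_right_cancel₀ (irr_one_ne_zero _) h2
          cases b <;> cases b' <;> simp [lam] at h3 hb
          · exact pow_ne_pow hω3 rfl hω1 h3.symm
          · exact pow_ne_pow hω3 rfl hω1 h3
        subst hbb
        exact Prod.ext ((el b).injective (Subtype.ext (Subtype.ext h))) rfl
    · rw [hGeq, Char.classInner_sub_left, hII, hfv, Char.classInner_smul_left, horth', mul_zero, sub_zero]
      push_cast; rfl
    · rw [hGeq, Char.classInner_sub_left, Char.classInner_smul_left,
        show (fun _ : C => (1 : ℂ)) = ((BrauerPairs.oneIrr C : IrrCharacter C) : C → ℂ) from rfl,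
        Char.classInner_irr_of_ne (el q.2 q.1).1.2 (BrauerPairs.oneIrr C).2 fun h => hlam1 q.2 (by
          have h1 := (el q.2 q.1).2.2 1
          rw [h] at h1
          simpa [BrauerPairs.oneIrr] using h1.symm), mul_zero, sub_zero]
      have h1 : ((BrauerPairs.oneIrr C : IrrCharacter C) : C → ℂ) = fun y : C =>
          phi (fun ξ => if ξ = (⟨BrauerPairs.oneIrr _, BrauerPairs.oneIrr_mem_principal hM⟩ :
            principalBlock M (C ⧸ Subgroup.zpowers z)) then 1 else 0) (y : C ⧸ Subgroup.zpowers z) := by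
        funext y
        simp only [phi, Int.cast_ite, Int.cast_one, Int.cast_zero, ite_mul, one_mul, zero_mul,
          Finset.sum_ite_eq', Finset.mem_univ, if_true]
        rfl
      rw [h1, hII]
      simp only [mul_ite, mul_one, mul_zero, Finset.sum_ite_eq', Finset.mem_univ, if_true]
      rw [← hi₀]
      have hs1 : p.s (e (Sum.inr i₀)) = 1 := by rw [hi₀, ← hξone j₀, ← hi₀, hwt]
      show ((p.s (e (Sum.inr i₀)) * f₁ q.1 (e (Sum.inr i₀)) : ℤ) : ℂ) = _
      simp only [f₁, Equiv.symm_apply_apply, Sum.elim_inr, hs1, one_mul, Int.cast_ite, Int.cast_one,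
        Int.cast_zero]
      exact if_congr eq_comm rfl rfl
    · have h1 : (fun _ : C => (1 : ℂ)) = fun y : C =>
          phi (fun ξ => if ξ = (⟨BrauerPairs.oneIrr _, BrauerPairs.oneIrr_mem_principal hM⟩ :
            principalBlock M (C ⧸ Subgroup.zpowers z)) then 1 else 0) (y : C ⧸ Subgroup.zpowers z) := by
        funext y
        simp only [phi, Int.cast_ite, Int.cast_one, Int.cast_zero, ite_mul, one_mul, zero_mul,
          Finset.sum_ite_eq', Finset.mem_univ, if_true]
        rfl
      rw [h1, hII]
      simp [hone]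
    · rcases R.cases hz c with ⟨i, y, hy, rfl⟩ | ⟨k, y, hy, hcy, hconj⟩
      · refine absurd ?_ hc
        rw [QuotientGroup.mk_mul, QuotientGroup.mk_pow, (QuotientGroup.eq_one_iff z).2
          (Subgroup.mem_zpowers z), one_pow, one_mul]
        exact N.regular_zero hM hv j (SmallSection.not_dvd_orderOf_mk hy)
      · obtain rfl : j = k := by
          by_contra hjk
          refine hc ?_
          rw [classFunction_eq_of_isConj (isClassFunction_phi (v j)) hconj, phi]
          have hsh : ∀ ξ : principalBlock M (C ⧸ Subgroup.zpowers z),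
              ((ξ : IrrCharacter (C ⧸ Subgroup.zpowers z)) : C ⧸ Subgroup.zpowers z → ℂ)
                ((x k * y : C) : C ⧸ Subgroup.zpowers z) = v k ξ := fun ξ => by
            rw [QuotientGroup.mk_mul, (N.sec k).shift hM ξ.2 (SmallSection.not_dvd_orderOf_mk hy)
              (hcy.map (QuotientGroup.mk' (Subgroup.zpowers z))), hv]
          simp only [hsh]
          exact_mod_cast (hgram j k).trans (if_neg hjk)
        exact ⟨y, hy, hcy, hconj⟩
    · -- coverage
      intro c hc
      have hgm : ∀ (q : Fin l × Bool) (m : Fin 3) (y : C), ¬ 3 ∣ orderOf y →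
          G q (z ^ (m : ℕ) * y) = (1 - lam q.2 ^ (m : ℕ)) * phi (f q.1) (y : C ⧸ Subgroup.zpowers z) := by
        intro q m y hy
        show phi _ _ - _ * _ = _
        rw [QuotientGroup.mk_mul, QuotientGroup.mk_pow, (QuotientGroup.eq_one_iff z).2
          (Subgroup.mem_zpowers z), one_pow, one_mul, irr_pow_mul _ (el q.2 q.1).2.2, hreg q.2 q.1 y hy]
        have h1 : ((σ q.2 q.1 : ℂ) * (σ q.2 q.1 : ℂ)) = 1 := by exact_mod_cast hσ q.2 q.1
        linear_combination (-(lam q.2 ^ (m : ℕ)) * phi (f q.1) (y : C ⧸ Subgroup.zpowers z)) * h1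
      have hA : ∀ q : Fin l × Bool, ∑ m : Fin 3, (1 - lam q.2 ^ (m : ℕ)) *
          SecondMain.regInner 3 (fun y : C => phi (f q.1) (y : C ⧸ Subgroup.zpowers z))
            (fun y => ψ (z ^ (m : ℕ) * y)) = 0 := by
        intro q
        have h := hg q
        rw [classInner, sum_center_sections R hz (fun c => G q c * conj (ψ c)) fun c j y hy hcy hcon => by
          rw [h0 c j y hy hcy hcon, map_zero, mul_zero]] at h
        refine mul_left_cancel₀ (Nat.cast_ne_zero.2 (Nat.card_pos (α := C)).ne') ?_
        rw [mul_zero, Finset.mul_sum, ← (mul_eq_zero.1 h).resolve_left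
          (inv_ne_zero (Nat.cast_ne_zero.2 (Nat.card_pos (α := C)).ne'))]
        refine Finset.sum_congr rfl fun m _ => ?_
        rw [mul_left_comm, ← regInner_shift_eq, Finset.mul_sum]
        refine Finset.sum_congr rfl fun y _ => ?_
        split_ifs with hy
        · rw [mul_zero]
        · rw [hgm q m y hy]; ring
      have hzero : ∀ i, ∀ m : Fin 3, m ≠ 0 →
          SecondMain.regInner 3 (fun y : C => phi (f i) (y : C ⧸ Subgroup.zpowers z))
            (fun y => ψ (z ^ (m : ℕ) * y)) = 0 := by
        intro i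
        have h1 := hA (i, true)
        have h2 := hA (i, false)
        simp only [lam, if_true, Bool.false_eq_true, if_false, Fin.sum_univ_three, Fin.val_zero,
          Fin.val_one, Fin.val_two, pow_zero, pow_one, sub_self, zero_mul, zero_add] at h1 h2
        have hs : (1 : ℂ) + ω + ω ^ 2 = 0 := by
          have h := sum_geom_cube hω3 hω1
          rw [Fin.sum_univ_three] at h
          simpa using h
        set A₁ := SecondMain.regInner 3 (fun y : C => phi (f i) (y : C ⧸ Subgroup.zpowers z))
          (fun y => ψ (z * y))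
        set A₂ := SecondMain.regInner 3 (fun y : C => phi (f i) (y : C ⧸ Subgroup.zpowers z))
          (fun y => ψ (z ^ 2 * y))
        have hsum : A₁ + A₂ = 0 := by
          linear_combination (1 / 3 : ℂ) * h1 + (1 / 3 : ℂ) * h2 + (1 / 3 : ℂ) * (A₁ + A₂) * hs +
            (1 / 3 : ℂ) * A₂ * ω * hω3
        have hdiff : (ω - ω ^ 2) * (A₁ - A₂) = 0 := by
          linear_combination h2 - h1 + A₂ * ω * hω3
        have hne : ω - ω ^ 2 ≠ 0 := sub_ne_zero.2 (pow_ne_pow hω3 rfl hω1)
        have h12 := (mul_eq_zero.1 hdiff).resolve_left hne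
        intro m hm'
        fin_cases m
        · exact absurd rfl hm'
        · simp only [pow_one]; show A₁ = 0; linear_combination (1 / 2 : ℂ) * hsum + (1 / 2 : ℂ) * h12
        · show A₂ = 0; linear_combination (1 / 2 : ℂ) * hsum - (1 / 2 : ℂ) * h12
      have hvanish : ∀ m : Fin 3, m ≠ 0 → ∀ y, ¬ 3 ∣ orderOf y → ψ (z ^ (m : ℕ) * y) = 0 := by
        intro m hm' y hy
        set ψm : C → ℂ := fun y => ψ (z ^ (m : ℕ) * y)
        have hli := (layer_independent R hM hz (hlam1 true)).comp _ (el true).injective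
        have hsp : Submodule.span ℂ (Set.range fun i => pRegularPart 3 ((el true i).1 : C → ℂ)) =
            Submodule.span ℂ ((fun η : IrrCharacter C => pRegularPart 3 (η : C → ℂ)) '' principalBlock M C) := by
          refine Submodule.eq_of_le_of_finrank_le (Submodule.span_mono (Set.range_subset_iff.2 fun i =>
            ⟨_, (el true i).2.1, rfl⟩)) ?_
          rw [show (fun i => pRegularPart 3 ((el true i).1 : C → ℂ)) =
            ((fun η : Lay M z (lam true) => pRegularPart 3 (η.1 : C → ℂ)) ∘ el true) from rfl,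
            finrank_span_eq_card hli, Fintype.card_fin]
          exact le_of_eq hrank
        have hin := hm m hm'
        rw [← hsp, Submodule.mem_span_range_iff_exists_fun] at hin
        obtain ⟨c, hc'⟩ := hin
        have hperp : classInner (pRegularPart 3 ψm) (pRegularPart 3 ψm) = 0 := by
          conv_lhs => arg 1; rw [← hc']
          rw [Char.classInner_sum_left]
          refine Finset.sum_eq_zero fun i _ => ?_
          rw [Char.classInner_smul_left]
          have h1 : classInner (pRegularPart 3 ((el true i).1 : C → ℂ)) (pRegularPart 3 ψm) =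
              (σ true i : ℂ) * SecondMain.regInner 3
                (fun y : C => phi (f i) (y : C ⧸ Subgroup.zpowers z)) ψm := by
            rw [SecondMain.regInner, ← Char.classInner_smul_left]
            refine Eq.trans (congrArg (classInner · _) (funext fun y => ?_)) (classInner_congr_right fun y => ?_)
            · by_cases hy : 3 ∣ orderOf y
              · rw [SecondMain.pRegularPart_of_singular hy, Pi.smul_apply,
                  SecondMain.pRegularPart_of_singular hy, smul_zero]
              · rw [SecondMain.pRegularPart_of_regular hy, Pi.smul_apply,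
                  SecondMain.pRegularPart_of_regular hy, hreg true i y hy, smul_eq_mul]
            · by_cases hy : 3 ∣ orderOf y
              · exact Or.inl (by rw [Pi.smul_apply, SecondMain.pRegularPart_of_singular hy, smul_zero])
              · exact Or.inr (SecondMain.pRegularPart_of_regular hy)
          rw [h1, hzero i m hm', mul_zero, mul_zero]
        have h := congrFun (Char.classInner_self_eq_zero.1 hperp) y
        rwa [SecondMain.pRegularPart_of_regular hy] at h
      rcases R.cases hz c with ⟨i, y, hy, he⟩ | ⟨k, y, hy, hcy, hconj⟩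
      · rw [he]
        refine hvanish i (fun hi => ?_) y hy
        rw [he, hi] at hc
        simp only [Fin.val_zero, pow_zero, one_mul] at hc
        exact hy hc
      · exact h0 _ k y hy hcy hconj

end Cfsg.Agent.Extra27
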