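import Cfsg.Agent.Lib.IsolatedElts.Basic
import Cfsg.Agent.Lib.Transfer.Alperin
import Cfsg.Prelude.Def_Transfer

/-!
# Fusion for a Sylow subgroup of order `27` and exponent `3` with central normaliser action

`Ctx P z`: `z` generates the centre of `P` and is fixed by `N(P)`.

* `weakly_closed`, `centralizer_part`, `complement`;
* `conj_in_centralizer`, `fix_coset`, `exists_inverting`, `noFusion`.
-/

set_option autoImplicit false
set_option linter.unusedSectionVars false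

namespace Cfsg.Agent.Extra27

open Cfsg
open scoped Pointwise

universe u

variable {H : Type u} [Group H] [Finite H]

theorem conj_conj_eq (g h a : H) : g * (h * a * h⁻¹) * g⁻¹ = (g * h) * a * (g * h)⁻¹ := by group

/-- The hypotheses. -/
structure Ctx (P : Sylow 3 H) (z : H) : Prop where
  card : Nat.card (P : Subgroup H) = 27
  exp : ∀ a ∈ (P : Subgroup H), a ^ 3 = 1
  zP : z ∈ (P : Subgroup H)
  z1 : z ≠ 1
  central : ∀ a ∈ (P : Subgroup H), Commute z a
  center : ∀ a ∈ (P : Subgroup H), (∀ b ∈ (P : Subgroup H), Commute a b) → a ∈ Subgroup.zpowers z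
  comm : ∀ a ∈ (P : Subgroup H), ∀ b ∈ (P : Subgroup H), a * b * a⁻¹ * b⁻¹ ∈ Subgroup.zpowers z
  norm : ∀ g ∈ Subgroup.normalizer ((P : Subgroup H) : Set H), g * z * g⁻¹ = z

instance : Fact (Nat.Prime 3) := ⟨Nat.prime_three⟩

variable {P : Sylow 3 H} {z : H}

/-- The subgroup moving `a` within its coset of `⟨z⟩`. -/
def cosetStab (z a : H) : Subgroup H where
  carrier := {g | g * z * g⁻¹ = z ∧ a⁻¹ * (g * a * g⁻¹) ∈ Subgroup.zpowers z}
  one_mem' := ⟨by simp, by simp⟩
  mul_mem' := by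
    rintro g h ⟨hg1, hg2⟩ ⟨hh1, hh2⟩
    refine ⟨by rw [← conj_conj_eq, hh1, hg1], ?_⟩
    obtain ⟨i, hi⟩ := Subgroup.mem_zpowers_iff.1 hh2
    have e : a⁻¹ * (g * h * a * (g * h)⁻¹) =
        (a⁻¹ * (g * a * g⁻¹)) * (g * (a⁻¹ * (h * a * h⁻¹)) * g⁻¹) := by group
    rw [e]
    refine mul_mem hg2 ?_
    rw [← hi, ← conj_zpow, hg1]
    exact zpow_mem (Subgroup.mem_zpowers z) _
  inv_mem' := by
    rintro g ⟨hg1, hg2⟩
    have hz : g⁻¹ * z * g⁻¹⁻¹ = z := by
      conv_lhs => rw [← hg1]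
      group
    refine ⟨hz, ?_⟩
    obtain ⟨i, hi⟩ := Subgroup.mem_zpowers_iff.1 hg2
    have e : a⁻¹ * (g⁻¹ * a * g⁻¹⁻¹) = (g⁻¹ * (a⁻¹ * (g * a * g⁻¹)) * g⁻¹⁻¹)⁻¹ := by group
    rw [e, ← hi, ← conj_zpow, hz]
    exact inv_mem (zpow_mem (Subgroup.mem_zpowers z) _)

namespace Ctx

variable (X : Ctx P z)
include X

theorem orderOf_z : orderOf z = 3 := orderOf_eq_prime (X.exp z X.zP) X.z1

theorem z_cases {ζ : H} (h : ζ ∈ Subgroup.zpowers z) : ζ = 1 ∨ ζ = z ∨ ζ = z⁻¹ := by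
  obtain ⟨k, rfl⟩ := Subgroup.mem_zpowers_iff.1 h
  rw [← zpow_mod_orderOf, X.orderOf_z]
  obtain h | h | h : k % 3 = 0 ∨ k % 3 = 1 ∨ k % 3 = 2 := by omega
  · left; rw [show k % (3 : ℕ) = 0 from h, zpow_zero]
  · right; left; rw [show k % (3 : ℕ) = 1 from h, zpow_one]
  · right; right
    rw [show k % (3 : ℕ) = 2 from h, eq_inv_iff_mul_eq_one, zpow_ofNat, ← pow_succ]
    exact X.exp z X.zP

theorem zinv_ne : z⁻¹ ≠ z := fun h => by
  have h2 : z ^ 2 = 1 := by rw [pow_two]; conv_lhs => arg 2; rw [← h]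
                            exact mul_inv_cancel z
  have := orderOf_dvd_of_pow_eq_one h2
  rw [X.orderOf_z] at this
  norm_num at this

theorem zpowers_le : Subgroup.zpowers z ≤ (P : Subgroup H) := Subgroup.zpowers_le.2 X.zP

theorem commute_zpowers {ζ a : H} (h : ζ ∈ Subgroup.zpowers z) (ha : a ∈ (P : Subgroup H)) :
    Commute ζ a := by
  obtain ⟨k, rfl⟩ := Subgroup.mem_zpowers_iff.1 h
  exact (X.central a ha).zpow_left k

/-- Multiples in `a ⟨z⟩` are conjugate in `P`. -/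
theorem moves {a : H} (ha : a ∈ (P : Subgroup H)) (ha' : a ∉ Subgroup.zpowers z) {ζ : H}
    (hζ : ζ ∈ Subgroup.zpowers z) : ∃ b ∈ (P : Subgroup H), b * a * b⁻¹ = a * ζ := by
  obtain ⟨c, hc, hne⟩ : ∃ c ∈ (P : Subgroup H), ¬ Commute a c := by
    by_contra! h
    exact ha' (X.center a ha h)
  have hm := X.comm c hc a ha
  have hcc : c * a * c⁻¹ = a * (c * a * c⁻¹ * a⁻¹) := by
    rw [← (X.commute_zpowers hm ha).eq, inv_mul_cancel_right]
  have hne' : c * a * c⁻¹ * a⁻¹ ≠ 1 := fun h => hne (by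
    show a * c = c * a
    rw [mul_inv_eq_one, mul_inv_eq_iff_eq_mul] at h
    exact h.symm)
  have hinv : c⁻¹ * a * c⁻¹⁻¹ = a * (c * a * c⁻¹ * a⁻¹)⁻¹ := by
    have h1 : c⁻¹ * (a * (c * a * c⁻¹ * a⁻¹)) * c = a := by rw [← hcc]; group
    have h2 := (X.commute_zpowers hm (inv_mem hc)).eq
    rw [inv_inv, eq_mul_inv_iff_mul_eq]
    calc c⁻¹ * a * c * (c * a * c⁻¹ * a⁻¹) = c⁻¹ * a * ((c * a * c⁻¹ * a⁻¹) * c) := by
          rw [(X.commute_zpowers hm hc).eq]; group
      _ = c⁻¹ * (a * (c * a * c⁻¹ * a⁻¹)) * c := by group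
      _ = a := h1
  rcases X.z_cases hm with h | h | h
  · exact absurd h hne'
  all_goals
    rw [h] at hcc hinv
    rcases X.z_cases hζ with rfl | rfl | rfl
  · exact ⟨1, one_mem _, by simp⟩
  · exact ⟨c, hc, hcc⟩
  · exact ⟨c⁻¹, inv_mem hc, hinv⟩
  · exact ⟨1, one_mem _, by simp⟩
  · exact ⟨c⁻¹, inv_mem hc, by rw [hinv, inv_inv]⟩
  · exact ⟨c, hc, hcc⟩

theorem centralizer_inf_card {a : H} (ha : a ∈ (P : Subgroup H)) (ha' : a ∉ Subgroup.zpowers z) :
    Nat.card ((P : Subgroup H) ⊓ Subgroup.centralizer ({a} : Set H) : Subgroup H) = 9 := by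
  set R := (P : Subgroup H) ⊓ Subgroup.centralizer ({a} : Set H)
  have hd : Nat.card R ∣ 3 ^ 3 := by
    have := Subgroup.card_dvd_of_le (inf_le_left : R ≤ (P : Subgroup H))
    rwa [X.card] at this
  obtain ⟨k, hk, hR⟩ := (Nat.dvd_prime_pow Nat.prime_three).1 hd
  have hzR : Subgroup.zpowers z ≤ R := le_inf X.zpowers_le fun ζ hζ =>
    Subgroup.mem_centralizer_singleton_iff.2 (X.commute_zpowers hζ ha).eq
  have haR : a ∈ R := ⟨ha, Subgroup.mem_centralizer_singleton_iff.2 rfl⟩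
  have hlt : (3 : ℕ) < Nat.card R := by
    rw [← X.orderOf_z, ← Nat.card_zpowers]
    have hne : Subgroup.zpowers z ≠ R := fun h => ha' (by rw [h]; exact haR)
    exact Set.Finite.card_lt_card (Set.toFinite _) (SetLike.coe_ssubset_coe.2 (lt_of_le_of_ne hzR hne))
  have hne : R ≠ (P : Subgroup H) := fun h => ha' (X.center a ha fun b hb => by
    have hb' : b ∈ R := h.symm ▸ hb
    exact (Subgroup.mem_centralizer_singleton_iff.1 hb'.2).symm)
  rw [hR] at hlt ⊢
  obtain rfl | rfl | rfl | rfl : k = 0 ∨ k = 1 ∨ k = 2 ∨ k = 3 := by omega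
  all_goals first | omega | rfl | exact absurd (Subgroup.eq_of_le_of_card_ge inf_le_left
    (by rw [X.card, hR]; norm_num)) hne

theorem mem_R {a b : H} (ha : a ∈ (P : Subgroup H)) (ha' : a ∉ Subgroup.zpowers z)
    (hb : b ∈ (P : Subgroup H)) (hab : Commute a b) : ∃ i j : ℕ, b = a ^ i * z ^ j := by
  classical
  set R := (P : Subgroup H) ⊓ Subgroup.centralizer ({a} : Set H)
  have hao : orderOf a = 3 := orderOf_eq_prime (X.exp a ha) fun h => ha' (h ▸ one_mem _)
  have hmem : ∀ i j : ℕ, a ^ i * z ^ j ∈ R := fun i j =>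
    mul_mem (pow_mem (show a ∈ R from ⟨ha, Subgroup.mem_centralizer_singleton_iff.2 rfl⟩) i)
      (pow_mem (show z ∈ R from ⟨X.zP, Subgroup.mem_centralizer_singleton_iff.2 (X.central a ha).eq⟩) j)
  let f : Fin 3 × Fin 3 → R := fun x => ⟨_, hmem x.1 x.2⟩
  have hinj : Function.Injective f := by
    rintro ⟨i, j⟩ ⟨i', j'⟩ h
    have h' : a ^ (i : ℕ) * z ^ (j : ℕ) = a ^ (i' : ℕ) * z ^ (j' : ℕ) := congrArg Subtype.val h
    have key : a ^ ((i : ℤ) - i') = z ^ ((j' : ℤ) - j) := by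
      have hc : Commute (z ^ (j' : ℕ) * (z ^ (j : ℕ))⁻¹) (a ^ (i' : ℕ)) :=
        ((X.central a ha).pow_pow _ _).mul_left ((X.central a ha).pow_pow _ _).inv_left
      rw [zpow_sub, zpow_sub, zpow_natCast, zpow_natCast, zpow_natCast, zpow_natCast]
      calc a ^ (i : ℕ) * (a ^ (i' : ℕ))⁻¹
          = (a ^ (i : ℕ) * z ^ (j : ℕ)) * (z ^ (j : ℕ))⁻¹ * (a ^ (i' : ℕ))⁻¹ := by group
        _ = a ^ (i' : ℕ) * (z ^ (j' : ℕ) * (z ^ (j : ℕ))⁻¹) * (a ^ (i' : ℕ))⁻¹ := by rw [h']; group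
        _ = z ^ (j' : ℕ) * (z ^ (j : ℕ))⁻¹ := by rw [← hc.eq, mul_inv_cancel_right]
    have hi : i = i' := by
      by_contra hne
      have hcop : Int.gcd ((i : ℤ) - i') 3 = 1 :=
        (show ∀ u v : Fin 3, u ≠ v → Int.gcd ((u : ℤ) - v) 3 = 1 by decide) i i' hne
      refine ha' ?_
      have h1 : a = (a ^ ((i : ℤ) - i')) ^ Int.gcdA ((i : ℤ) - i') 3 := by
        have h2 := Int.gcd_eq_gcd_ab ((i : ℤ) - i') 3
        rw [hcop] at h2
        conv_lhs => rw [← zpow_one a, show (1 : ℤ) = _ from h2, zpow_add, zpow_mul, zpow_mul,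
          show a ^ (3 : ℤ) = 1 from by exact_mod_cast X.exp a ha, one_zpow, mul_one]
      rw [h1, key]
      exact zpow_mem (zpow_mem (Subgroup.mem_zpowers z) _) _
    subst hi
    have h2 : z ^ (j : ℕ) = z ^ (j' : ℕ) := mul_left_cancel h'
    rw [pow_inj_mod, X.orderOf_z, Nat.mod_eq_of_lt j.2, Nat.mod_eq_of_lt j'.2] at h2
    exact Prod.ext rfl (Fin.ext h2)
  have := Fintype.ofFinite R
  obtain ⟨⟨i, j⟩, hij⟩ := ((Fintype.bijective_iff_injective_and_card f).2 ⟨hinj, by
    rw [← Nat.card_eq_fintype_card (α := R), X.centralizer_inf_card ha ha']; simp⟩).2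
    ⟨b, hb, Subgroup.mem_centralizer_singleton_iff.2 hab.symm.eq⟩
  exact ⟨i, j, (congrArg Subtype.val hij).symm⟩

/-- `⟨z⟩` is weakly closed. -/
theorem weakly_closed {g : H} (hg : g * z * g⁻¹ ∈ (P : Subgroup H)) : g * z * g⁻¹ = z := by
  classical
  have hzC : z ∈ Subgroup.centralizer ((P : Subgroup H) : Set H) :=
    Subgroup.mem_centralizer_iff.2 fun b hb => ((X.central b hb).eq).symm
  by_cases hwZ : g * z * g⁻¹ ∈ Subgroup.zpowers z
  · have hwC : g⁻¹⁻¹ * z * g⁻¹ ∈ Subgroup.centralizer ((P : Subgroup H) : Set H) := by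
      rw [inv_inv]
      exact Subgroup.mem_centralizer_iff.2 fun b hb => ((X.commute_zpowers hwZ hb).eq).symm
    obtain ⟨n, hn, h⟩ := Sylow.conj_eq_normalizer_conj_of_mem_centralizer P z g⁻¹ hzC hwC
    rw [inv_inv] at h
    rw [h]
    simpa using X.norm n⁻¹ (inv_mem hn)
  exfalso
  set w := g * z * g⁻¹ with hw
  have hwz : Commute z w := X.central w hg
  -- a Sylow subgroup with centre `⟨w⟩` through `z`
  set R := (P : Subgroup H) ⊓ Subgroup.centralizer ({w} : Set H)
  set Cw := Subgroup.centralizer ({w} : Set H)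
  obtain ⟨S₁, hS₁⟩ := (P.2.to_le (inf_le_left : R ≤ (P : Subgroup H))).comap_of_injective Cw.subtype
    Subtype.val_injective |>.exists_le_sylow
  have hS₁card : Nat.card ((S₁ : Subgroup Cw).map Cw.subtype) = 27 := by
    rw [Subgroup.card_map_of_injective Cw.subtype_injective]
    have hle : (P : Subgroup H).map (MulAut.conj g).toMonoidHom ≤ Cw := by
      rintro _ ⟨b, hb, rfl⟩
      refine Subgroup.mem_centralizer_singleton_iff.2 ?_
      show g * b * g⁻¹ * (g * z * g⁻¹) = g * z * g⁻¹ * (g * b * g⁻¹)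
      rw [conj_mul, conj_mul, (X.central b hb).eq]
    have h27 : 27 ∣ Nat.card Cw := by
      rw [← X.card, ← Subgroup.card_map_of_injective (K := (P : Subgroup H))
        (f := (MulAut.conj g).toMonoidHom) (MulAut.conj g).injective]
      exact Subgroup.card_dvd_of_le hle
    have h2 : 3 ≤ (Nat.card Cw).factorization 3 :=
      (Nat.prime_three.pow_dvd_iff_le_factorization Nat.card_pos.ne').1 (by simpa using h27)
    have h3 : (Nat.card Cw).factorization 3 ≤ (Nat.card H).factorization 3 :=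
      (Nat.factorization_le_iff_dvd Nat.card_pos.ne' Nat.card_pos.ne').2
        (Subgroup.card_subgroup_dvd_card Cw) 3
    have h4 : (Nat.card H).factorization 3 = 3 := by
      have := P.card_eq_multiplicity
      rw [X.card] at this
      exact Nat.pow_right_injective (le_refl 2 |>.trans (by norm_num)) (this.symm.trans (by norm_num : (27 : ℕ) = 3 ^ 3))
    rw [S₁.card_eq_multiplicity, show (Nat.card Cw).factorization 3 = 3 by omega]
    norm_num
  set T := (S₁ : Subgroup Cw).map Cw.subtype with hT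
  obtain ⟨T', hT'⟩ := (S₁.2.map Cw.subtype).exists_le_sylow
  have hTT : T = (T' : Subgroup H) := Subgroup.eq_of_le_of_card_ge hT' (by
    rw [hS₁card, T'.card_eq_multiplicity, ← P.card_eq_multiplicity, X.card])
  obtain ⟨h, hh⟩ := MulAction.exists_smul_eq H P T'
  have hconjP : ∀ x, x ∈ T → h⁻¹ * x * h ∈ (P : Subgroup H) := by
    intro x hx
    rw [hTT, ← hh, Sylow.coe_subgroup_smul, Subgroup.mem_pointwise_smul_iff_inv_smul_mem, ← map_inv,
      MulAut.smul_def, MulAut.conj_apply, inv_inv] at hx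
    exact hx
  have hPconj : ∀ x ∈ (P : Subgroup H), h * x * h⁻¹ ∈ T := by
    intro x hx
    rw [hTT, ← hh, Sylow.coe_subgroup_smul, Subgroup.mem_pointwise_smul_iff_inv_smul_mem, ← map_inv,
      MulAut.smul_def, MulAut.conj_apply, inv_inv]
    simpa [mul_assoc] using hx
  have hRT : ∀ x ∈ R, x ∈ T := fun x hx =>
    ⟨⟨x, hx.2⟩, hS₁ (show (⟨x, hx.2⟩ : Cw) ∈ R.comap Cw.subtype from hx), rfl⟩
  have hTw : ∀ x ∈ T, Commute w x := by
    rintro _ ⟨x, -, rfl⟩
    exact (Subgroup.mem_centralizer_singleton_iff.1 x.2).symm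
  have hwR : w ∈ R := ⟨hg, Subgroup.mem_centralizer_singleton_iff.2 rfl⟩
  have hzR : z ∈ R := ⟨X.zP, Subgroup.mem_centralizer_singleton_iff.2 hwz.eq⟩
  have hw0 : h⁻¹ * w * h ∈ Subgroup.zpowers z := by
    refine X.center _ (hconjP w (hRT w hwR)) fun b hb => ?_
    show h⁻¹ * w * h * b = b * (h⁻¹ * w * h)
    have := (hTw _ (hPconj b hb)).eq
    calc h⁻¹ * w * h * b = h⁻¹ * (w * (h * b * h⁻¹)) * h := by group
      _ = b * (h⁻¹ * w * h) := by rw [this]; group
  have hw1 : w ≠ 1 := fun h1 => X.z1 (conj_eq_one_iff.1 h1)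
  have hz0 : h⁻¹ * z * h ∉ Subgroup.zpowers z := by
    intro hz0
    have hw0' : h⁻¹ * w * h ≠ 1 := fun h1 => hw1 (by
      have := congrArg (fun x => h * x * h⁻¹) h1; simpa [mul_assoc] using this)
    apply hwZ
    have : Subgroup.zpowers (h⁻¹ * z * h) = Subgroup.zpowers z :=
      Subgroup.eq_of_le_of_card_ge (Subgroup.zpowers_le.2 hz0) (by
        rw [Nat.card_zpowers, Nat.card_zpowers,
          show h⁻¹ * z * h = MulAut.conj h⁻¹ z by simp, MulEquiv.orderOf_eq])
    obtain ⟨k, hk⟩ := Subgroup.mem_zpowers_iff.1 (this.symm ▸ hw0)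
    have : w = z ^ k := by
      have e : (h⁻¹ * z * h) ^ k = h⁻¹ * z ^ k * h := by
        rw [show h⁻¹ * z * h = MulAut.conj h⁻¹ z by simp, ← map_zpow]; simp
      rw [e] at hk
      exact (mul_left_cancel (mul_right_cancel hk)).symm
    rw [this]
    exact zpow_mem (Subgroup.mem_zpowers z) k
  obtain ⟨b, hb, hbz⟩ := X.moves (hconjP z (hRT z hzR)) hz0 (inv_mem hw0)
  set u' := h * b * h⁻¹ with hu'
  have hu'w : u' * w * u'⁻¹ = w := by rw [← (hTw _ (hPconj b hb)).eq, mul_inv_cancel_right]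
  have hu'z : u' * z * u'⁻¹ = z * w⁻¹ := by
    calc u' * z * u'⁻¹ = h * (b * (h⁻¹ * z * h) * b⁻¹) * h⁻¹ := by rw [hu']; group
      _ = z * w⁻¹ := by rw [hbz]; group
  obtain ⟨u, hu, huw⟩ := X.moves hg hwZ (Subgroup.mem_zpowers z)
  have huz : u * z * u⁻¹ = z := by rw [← (X.central u hu).eq, mul_inv_cancel_right]
  set J := u * u' * u with hJ
  have hJz : J * z * J⁻¹ = w⁻¹ := by
    calc J * z * J⁻¹ = u * (u' * (u * z * u⁻¹) * u'⁻¹) * u⁻¹ := by rw [hJ]; group
      _ = u * (z * w⁻¹) * u⁻¹ := by rw [huz, hu'z]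
      _ = (u * z * u⁻¹) * (u * w * u⁻¹)⁻¹ := by group
      _ = z * (z⁻¹ * w⁻¹) := by rw [huz, huw, mul_inv_rev]
      _ = w⁻¹ := by group
  have hJw : J * w * J⁻¹ = z := by
    calc J * w * J⁻¹ = u * (u' * (u * w * u⁻¹) * u'⁻¹) * u⁻¹ := by rw [hJ]; group
      _ = u * ((u' * w * u'⁻¹) * (u' * z * u'⁻¹)) * u⁻¹ := by rw [huw]; group
      _ = u * (w * (z * w⁻¹)) * u⁻¹ := by rw [hu'w, hu'z]
      _ = u * z * u⁻¹ := by rw [← mul_assoc w, ← hwz.eq, mul_inv_cancel_right]
      _ = z := huz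
  set t := J * J with ht
  have htz : t * z * t⁻¹ = z⁻¹ := by
    calc t * z * t⁻¹ = J * (J * z * J⁻¹) * J⁻¹ := by rw [ht]; group
      _ = (J * w * J⁻¹)⁻¹ := by rw [hJz]; group
      _ = z⁻¹ := by rw [hJw]
  have htw : t * w * t⁻¹ = w⁻¹ := by
    calc t * w * t⁻¹ = J * (J * w * J⁻¹) * J⁻¹ := by rw [ht]; group
      _ = w⁻¹ := by rw [hJw, hJz]
  -- conjugation by `t` normalises `P` up to the centraliser of `⟨z, w⟩`
  set K := Subgroup.centralizer ({z, w} : Set H)
  set L := (P : Subgroup H) ⊔ K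
  have hLz : L ≤ Subgroup.centralizer ({z} : Set H) := by
    refine sup_le (fun b hb => Subgroup.mem_centralizer_singleton_iff.2 (X.central b hb).eq.symm) ?_
    exact fun b hb => Subgroup.mem_centralizer_singleton_iff.2
      (Subgroup.mem_centralizer_iff.1 hb z (Set.mem_insert _ _)).symm
  have hPL : (P : Subgroup H).map (MulAut.conj t).toMonoidHom ≤ L := by
    rintro _ ⟨b, hb, rfl⟩
    show t * b * t⁻¹ ∈ L
    have hm := X.comm b hb w hg
    have hbw : b * w * b⁻¹ = b * w * b⁻¹ * w⁻¹ * w := by group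
    have htm : t * (b * w * b⁻¹ * w⁻¹) * t⁻¹ = (b * w * b⁻¹ * w⁻¹)⁻¹ := by
      rcases X.z_cases hm with h | h | h <;> rw [h]
      · simp
      · exact htz
      · rw [show t * z⁻¹ * t⁻¹ = (t * z * t⁻¹)⁻¹ by group, htz]
    have hqw : (t * b * t⁻¹) * w * (t * b * t⁻¹)⁻¹ = b * w * b⁻¹ := by
      have hti : t⁻¹ * w * t = w⁻¹ := by
        rw [← inv_inj, inv_inv, show (t⁻¹ * w * t)⁻¹ = t⁻¹ * w⁻¹ * t by group, ← htw]; group
      calc (t * b * t⁻¹) * w * (t * b * t⁻¹)⁻¹ = t * (b * (t⁻¹ * w * t) * b⁻¹) * t⁻¹ := by group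
        _ = (t * (b * w * b⁻¹) * t⁻¹)⁻¹ := by rw [hti]; group
        _ = (t * (b * w * b⁻¹ * w⁻¹) * t⁻¹ * (t * w * t⁻¹))⁻¹ := by rw [hbw]; group
        _ = w * (b * w * b⁻¹ * w⁻¹) := by rw [htm, htw]; group
        _ = b * w * b⁻¹ := by rw [← (X.commute_zpowers hm hg).eq, ← hbw]
    have hqz : (t * b * t⁻¹) * z * (t * b * t⁻¹)⁻¹ = z := by
      have hti : t⁻¹ * z * t = z⁻¹ := by
        rw [← inv_inj, inv_inv, show (t⁻¹ * z * t)⁻¹ = t⁻¹ * z⁻¹ * t by group, ← htz]; group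
      calc (t * b * t⁻¹) * z * (t * b * t⁻¹)⁻¹ = t * (b * (t⁻¹ * z * t) * b⁻¹) * t⁻¹ := by group
        _ = t * z⁻¹ * t⁻¹ := by rw [hti, ← (X.central b hb).inv_left.eq, mul_inv_cancel_right]
        _ = z := by rw [show t * z⁻¹ * t⁻¹ = (t * z * t⁻¹)⁻¹ by group, htz, inv_inv]
    have hK : b⁻¹ * (t * b * t⁻¹) ∈ K := by
      refine Subgroup.mem_centralizer_iff.2 fun y hy => ?_
      have hy' : (t * b * t⁻¹) * y * (t * b * t⁻¹)⁻¹ = b * y * b⁻¹ := by
        rcases Set.mem_insert_iff.1 hy with rfl | hy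
        · rw [hqz, ← (X.central b hb).eq, mul_inv_cancel_right]
        · rw [Set.mem_singleton_iff.1 hy]; exact hqw
      rw [mul_inv_eq_iff_eq_mul] at hy'
      calc y * (b⁻¹ * (t * b * t⁻¹)) = b⁻¹ * (b * y * b⁻¹ * (t * b * t⁻¹)) := by group
        _ = b⁻¹ * (t * b * t⁻¹ * y) := by rw [hy']
        _ = b⁻¹ * (t * b * t⁻¹) * y := by group
    rw [show t * b * t⁻¹ = b * (b⁻¹ * (t * b * t⁻¹)) by group]
    exact mul_mem (Subgroup.mem_sup_left hb) (Subgroup.mem_sup_right hK)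
  have hPL' : ((t • P : Sylow 3 H) : Subgroup H) ≤ L := by
    rw [Sylow.coe_subgroup_smul]
    exact hPL
  obtain ⟨c, hc⟩ := MulAction.exists_smul_eq L ((t • P).subtype hPL') (P.subtype le_sup_left)
  have hN : (c : H) * t ∈ Subgroup.normalizer ((P : Subgroup H) : Set H) := by
    refine Sylow.smul_eq_iff_mem_normalizer.1 ?_
    rw [mul_smul]
    refine Sylow.ext ?_
    have h1 := congrArg (fun S : Sylow 3 L => (S : Subgroup L).map L.subtype) hc
    simp only [Sylow.coe_subtype, Subgroup.subgroupOf_map_subtype,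
      inf_of_le_left (le_sup_left : (P : Subgroup H) ≤ L)] at h1
    rw [inf_of_le_left (show (P : Subgroup H) ≤ L from le_sup_left)] at h1
    rw [Sylow.coe_subgroup_smul, Sylow.coe_subtype] at h1
    refine Eq.trans ?_ h1
    rw [Sylow.coe_subgroup_smul]
    ext x
    simp only [Subgroup.mem_map, Subgroup.mem_pointwise_smul_iff_inv_smul_mem, Subgroup.mem_subgroupOf,
      ← map_inv, MulAut.smul_def, MulAut.conj_apply, inv_inv, Subgroup.coe_subtype]
    constructor
    · intro hx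
      have hxL : x ∈ L := by
        have := mul_mem (mul_mem c.2 (hPL' hx)) (inv_mem c.2)
        simpa [mul_assoc] using this
      exact ⟨⟨x, hxL⟩, hx, rfl⟩
    · rintro ⟨y, hy, rfl⟩
      exact hy
  have h2 := X.norm _ hN
  rw [← conj_conj_eq, htz] at h2
  have hcz := Subgroup.mem_centralizer_singleton_iff.1 (hLz c.2)
  refine X.zinv_ne ?_
  calc z⁻¹ = (c : H) * z⁻¹ * (c : H)⁻¹ := by
        rw [(show Commute (c : H) z from hcz).inv_right.eq, mul_inv_cancel_right]
    _ = z := h2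

/-- The centraliser of an element outside `⟨z⟩`. -/
theorem centralizer_part {a : H} (ha : a ∈ (P : Subgroup H)) (ha' : a ∉ Subgroup.zpowers z) :
    (Nat.card (Subgroup.centralizer ({a} : Set H))).factorization 3 = 2 ∧
      ∃ S : Sylow 3 (Subgroup.centralizer ({a} : Set H)), (S : Subgroup _) =
        ((P : Subgroup H) ⊓ Subgroup.centralizer ({a} : Set H)).subgroupOf
          (Subgroup.centralizer ({a} : Set H)) := by
  classical
  set Ca := Subgroup.centralizer ({a} : Set H)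
  set R := (P : Subgroup H) ⊓ Ca
  have hR : Nat.card (R.subgroupOf Ca) = 9 := by
    rw [Nat.card_congr (Subgroup.subgroupOfEquivOfLe inf_le_right).toEquiv,
      X.centralizer_inf_card ha ha']
  have hfac : (Nat.card Ca).factorization 3 = 2 := by
    have h9 : 3 ^ 2 ∣ Nat.card Ca := by
      have := Subgroup.card_subgroup_dvd_card (R.subgroupOf Ca)
      rwa [hR] at this
    have h27 : ¬ 3 ^ 3 ∣ Nat.card Ca := by
      intro h
      obtain ⟨S, hS⟩ := Sylow.exists_subgroup_card_pow_prime 3 h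
      have hSp : IsPGroup 3 (S.map Ca.subtype) := (IsPGroup.of_card hS).map _
      obtain ⟨T, hT⟩ := hSp.exists_le_sylow
      have hTe : S.map Ca.subtype = (T : Subgroup H) := Subgroup.eq_of_le_of_card_ge hT (by
        rw [Subgroup.card_map_of_injective Ca.subtype_injective, hS, T.card_eq_multiplicity,
          ← P.card_eq_multiplicity, X.card]
        norm_num)
      have hTa : ∀ x ∈ (T : Subgroup H), Commute a x := by
        intro x hx
        rw [← hTe] at hx
        obtain ⟨y, -, rfl⟩ := hx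
        exact (Subgroup.mem_centralizer_singleton_iff.1 y.2).symm
      have haT : a ∈ (T : Subgroup H) := by
        have hsup : IsPGroup 3 ((T : Subgroup H) ⊔ Subgroup.zpowers a : Subgroup H) := by
          refine T.2.to_sup_of_normal_left' ?_ (fun x hx => ?_)
          · exact P.2.to_le (Subgroup.zpowers_le.2 ha)
          · obtain ⟨i, rfl⟩ := Subgroup.mem_zpowers_iff.1 hx
            refine zpow_mem (Subgroup.mem_normalizer_iff.2 fun y => ?_) i
            constructor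
            · intro hy; rwa [(hTa y hy).eq, mul_inv_cancel_right]
            · intro hy
              have := hTa _ hy
              rw [show y = a⁻¹ * (a * y * a⁻¹) * a by group, this.inv_left.eq, inv_mul_cancel_right]
              exact hy
        rw [← T.is_maximal' hsup le_sup_left]
        exact Subgroup.mem_sup_right (Subgroup.mem_zpowers a)
      obtain ⟨h, hh⟩ := MulAction.exists_smul_eq H T P
      have hconj : ∀ x, x ∈ (P : Subgroup H) ↔ h⁻¹ * x * h ∈ (T : Subgroup H) := by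
        intro x
        rw [← hh, Sylow.coe_subgroup_smul, Subgroup.mem_pointwise_smul_iff_inv_smul_mem, ← map_inv,
          MulAut.smul_def, MulAut.conj_apply, inv_inv]
      have hac : h * a * h⁻¹ ∈ Subgroup.zpowers z := X.center _ ((hconj _).2 (by simpa [mul_assoc] using haT))
        fun b hb => by
          show h * a * h⁻¹ * b = b * (h * a * h⁻¹)
          have := (hTa _ ((hconj b).1 hb)).eq
          calc h * a * h⁻¹ * b = h * (a * (h⁻¹ * b * h)) * h⁻¹ := by group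
            _ = b * (h * a * h⁻¹) := by rw [this]; group
      have key : ∀ ζ ∈ Subgroup.zpowers z, h⁻¹ * ζ * h ∈ (P : Subgroup H) →
          h⁻¹ * ζ * h ∈ Subgroup.zpowers z := by
        intro ζ hζ hζP
        rcases X.z_cases hζ with h0 | h0 | h0 <;> rw [h0] at hζP ⊢
        · simp
        · rw [show h⁻¹ * z * h = h⁻¹ * z * h⁻¹⁻¹ by group,
            X.weakly_closed (g := h⁻¹) (by simpa using hζP)]
          exact Subgroup.mem_zpowers z
        · rw [show h⁻¹ * z⁻¹ * h = (h⁻¹ * z * h⁻¹⁻¹)⁻¹ by group,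
            X.weakly_closed (g := h⁻¹) (by have := inv_mem hζP; simpa [mul_assoc] using this)]
          exact inv_mem (Subgroup.mem_zpowers z)
      refine ha' ?_
      have := key _ hac (by simpa [mul_assoc] using ha)
      simpa [mul_assoc] using this
    have h1 := (Nat.prime_three.pow_dvd_iff_le_factorization Nat.card_pos.ne').1 h9
    have h2 := mt (Nat.prime_three.pow_dvd_iff_le_factorization Nat.card_pos.ne').2 h27
    omega
  refine ⟨hfac, Sylow.ofCard (R.subgroupOf Ca) ?_, rfl⟩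
  rw [hR, hfac]
  norm_num

theorem complement {a : H} (ha : a ∈ (P : Subgroup H)) (ha' : a ∉ Subgroup.zpowers z) :
    HasNormalPComplement 3 (Subgroup.centralizer ({a} : Set H)) := by
  classical
  set Ca := Subgroup.centralizer ({a} : Set H) with hCa
  obtain ⟨-, S, hS⟩ : _ ∧ ∃ S : Sylow 3 Ca, (S : Subgroup Ca) =
      ((P : Subgroup H) ⊓ Ca).subgroupOf Ca := X.centralizer_part ha ha'
  have hmem : ∀ x : Ca, x ∈ (S : Subgroup Ca) ↔ (x : H) ∈ (P : Subgroup H) := by
    intro x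
    rw [hS, Subgroup.mem_subgroupOf, Subgroup.mem_inf]
    exact ⟨And.left, fun h => ⟨h, x.2⟩⟩
  refine ⟨S, _, inferInstance, MonoidHom.ker_transferSylow_isComplement' S fun n hn => ?_⟩
  rw [Subgroup.mem_centralizer_iff]
  intro x hx
  have hna : Commute (n : H) a := Subgroup.mem_centralizer_singleton_iff.1 n.2
  have hzc : Commute (n : H) z := by
    have hz' : (⟨z, Subgroup.mem_centralizer_singleton_iff.2 (X.central a ha).eq⟩ : Ca) ∈
        (S : Subgroup Ca) := (hmem _).2 X.zP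
    have h1 := (hmem _).1 ((Subgroup.mem_normalizer_iff.1 hn _).1 hz')
    have h2 := X.weakly_closed (g := (n : H)) (by simpa using h1)
    show (n : H) * z = z * n
    conv_rhs => rw [← h2]
    group
  obtain ⟨i, j, hij⟩ := X.mem_R ha ha' ((hmem x).1 hx)
    (Subgroup.mem_centralizer_singleton_iff.1 x.2).symm
  refine Subtype.ext ?_
  show (x : H) * (n : H) = (n : H) * x
  rw [hij]
  exact ((hna.symm.pow_left i).mul_left (hzc.symm.pow_left j)).eq

/-- Conjugation outside `⟨z⟩` is realised in the centraliser of `z`. -/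
theorem conj_in_centralizer {a a' : H} (ha : a ∈ (P : Subgroup H)) (ha' : a ∉ Subgroup.zpowers z)
    (hb : a' ∈ (P : Subgroup H)) (hb' : a' ∉ Subgroup.zpowers z) (h : IsConj a a') :
    ∃ g ∈ Subgroup.centralizer ({z} : Set H), g * a * g⁻¹ = a' := by
  classical
  obtain ⟨g, hg⟩ := isConj_iff.1 h
  set C' := Subgroup.centralizer ({a'} : Set H)
  obtain ⟨-, S', hS'⟩ := X.centralizer_part hb hb'
  set R := (P : Subgroup H) ⊓ Subgroup.centralizer ({a} : Set H)
  have hle : R.map (MulAut.conj g).toMonoidHom ≤ C' := by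
    rintro _ ⟨x, hx, rfl⟩
    refine Subgroup.mem_centralizer_singleton_iff.2 ?_
    show g * x * g⁻¹ * a' = a' * (g * x * g⁻¹)
    rw [← hg, conj_mul, conj_mul, Subgroup.mem_centralizer_singleton_iff.1 hx.2]
  obtain ⟨S₁, hS₁⟩ := (((P.2.to_le (inf_le_left : R ≤ (P : Subgroup H))).map _).comap_of_injective
    C'.subtype Subtype.val_injective).exists_le_sylow
  obtain ⟨c, hc⟩ := MulAction.exists_smul_eq C' S₁ S'
  have hz' : g * z * g⁻¹ ∈ C' :=
    hle ⟨z, ⟨X.zP, Subgroup.mem_centralizer_singleton_iff.2 (X.central a ha).eq⟩, rfl⟩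
  have hmem : (c * ⟨g * z * g⁻¹, hz'⟩ * c⁻¹ : C') ∈ (S' : Subgroup C') := by
    rw [← hc, Sylow.coe_subgroup_smul, Subgroup.mem_pointwise_smul_iff_inv_smul_mem, ← map_inv,
      MulAut.smul_def, MulAut.conj_apply]
    simpa [mul_assoc] using hS₁ (show (⟨g * z * g⁻¹, hz'⟩ : C') ∈ _ from
      Subgroup.mem_comap.2 (Subgroup.mem_map_of_mem (MulAut.conj g).toMonoidHom (x := z) (show z ∈ R from ⟨X.zP, Subgroup.mem_centralizer_singleton_iff.2 (X.central a ha).eq⟩)))
  rw [hS', Subgroup.mem_subgroupOf, Subgroup.mem_inf, Subgroup.coe_mul, Subgroup.coe_mul,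
    Subgroup.coe_inv, conj_conj_eq] at hmem
  have h2 := X.weakly_closed hmem.1
  refine ⟨(c : H) * g, Subgroup.mem_centralizer_singleton_iff.2 (mul_inv_eq_iff_eq_mul.1 h2), ?_⟩
  rw [← conj_conj_eq, hg, Subgroup.mem_centralizer_singleton_iff.1 c.2, mul_inv_cancel_right]

/-- An element of the normaliser fixing a non-central coset acts as an inner automorphism. -/
theorem fix_coset {a n : H} (ha : a ∈ (P : Subgroup H)) (ha' : a ∉ Subgroup.zpowers z)
    (hn : n ∈ Subgroup.normalizer ((P : Subgroup H) : Set H))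
    (h : a⁻¹ * (n * a * n⁻¹) ∈ Subgroup.zpowers z) :
    n ∈ (P : Subgroup H) ⊔ Subgroup.centralizer ((P : Subgroup H) : Set H) := by
  classical
  obtain ⟨b, hb, hba⟩ := X.moves ha ha' h
  rw [mul_inv_cancel_left] at hba
  suffices key : ∀ m ∈ Subgroup.normalizer ((P : Subgroup H) : Set H), Commute m a →
      m ∈ (P : Subgroup H) ⊔ Subgroup.centralizer ((P : Subgroup H) : Set H) by
    have hm : b⁻¹ * n ∈ Subgroup.normalizer ((P : Subgroup H) : Set H) :=
      mul_mem (inv_mem (Subgroup.le_normalizer hb)) hn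
    have hc : Commute (b⁻¹ * n) a := by
      show b⁻¹ * n * a = a * (b⁻¹ * n)
      calc b⁻¹ * n * a = b⁻¹ * (n * a * n⁻¹) * n := by group
        _ = a * (b⁻¹ * n) := by rw [← hba]; group
    have := mul_mem (Subgroup.mem_sup_left (T := Subgroup.centralizer ((P : Subgroup H) : Set H)) hb)
      (key _ hm hc)
    simpa using this
  intro m hm hma
  have hmz : Commute m z := mul_inv_eq_iff_eq_mul.1 (X.norm m hm)
  -- the action on `P`
  have hfix : ∀ r ∈ (P : Subgroup H), Commute a r → Commute m r := by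
    intro r hr har
    obtain ⟨i, j, rfl⟩ := X.mem_R ha ha' hr har
    exact (hma.pow_right i).mul_right (hmz.pow_right j)
  have hshift : ∀ y ∈ (P : Subgroup H), Commute a (y⁻¹ * (m * y * m⁻¹)) := by
    intro y hy
    have hy' : m * y * m⁻¹ ∈ (P : Subgroup H) := (Subgroup.mem_normalizer_iff.1 hm y).1 hy
    have hc := X.comm y hy a ha
    have hcm : m * (y * a * y⁻¹ * a⁻¹) * m⁻¹ = y * a * y⁻¹ * a⁻¹ := by
      rw [(hfix _ (X.zpowers_le hc) (X.commute_zpowers hc ha).symm).eq, mul_inv_cancel_right]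
    have hma' : m * a * m⁻¹ = a := by rw [hma.eq, mul_inv_cancel_right]
    have h1 : (m * y * m⁻¹) * a * (m * y * m⁻¹)⁻¹ = y * a * y⁻¹ := by
      calc (m * y * m⁻¹) * a * (m * y * m⁻¹)⁻¹
          = (m * y * m⁻¹) * (m * a * m⁻¹) * (m * y * m⁻¹)⁻¹ := by rw [hma']
        _ = (m * (y * a * y⁻¹ * a⁻¹) * m⁻¹) * (m * a * m⁻¹) := by group
        _ = y * a * y⁻¹ := by rw [hcm, hma']; group
    rw [mul_inv_eq_iff_eq_mul] at h1
    show a * (y⁻¹ * (m * y * m⁻¹)) = y⁻¹ * (m * y * m⁻¹) * a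
    calc a * (y⁻¹ * (m * y * m⁻¹)) = y⁻¹ * (y * a * y⁻¹ * (m * y * m⁻¹)) := by group
      _ = _ := by rw [← h1]; group
  have hiter : ∀ (k : ℕ), ∀ y ∈ (P : Subgroup H),
      m ^ k * y * (m ^ k)⁻¹ = y * (y⁻¹ * (m * y * m⁻¹)) ^ k := by
    intro k y hy
    induction k with
    | zero => simp
    | succ k ih =>
      have hr : y⁻¹ * (m * y * m⁻¹) ∈ (P : Subgroup H) :=
        mul_mem (inv_mem hy) ((Subgroup.mem_normalizer_iff.1 hm y).1 hy)
      have hc := (hfix _ hr (hshift y hy)).pow_right k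
      calc m ^ (k + 1) * y * (m ^ (k + 1))⁻¹ = m * (m ^ k * y * (m ^ k)⁻¹) * m⁻¹ := by
            rw [pow_succ']; group
        _ = m * y * m⁻¹ * (m * (y⁻¹ * (m * y * m⁻¹)) ^ k * m⁻¹) := by rw [ih]; group
        _ = y * (y⁻¹ * (m * y * m⁻¹)) * (y⁻¹ * (m * y * m⁻¹)) ^ k := by
            rw [hc.eq, mul_inv_cancel_right, mul_inv_cancel_left]
        _ = _ := by rw [mul_assoc, ← pow_succ']
  have hcube : m ^ 3 ∈ Subgroup.centralizer ((P : Subgroup H) : Set H) := by
    rw [Subgroup.mem_centralizer_iff]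
    intro y hy
    have h := hiter 3 y hy
    rw [X.exp _ (mul_mem (inv_mem hy) ((Subgroup.mem_normalizer_iff.1 hm y).1 hy)), mul_one,
      mul_inv_eq_iff_eq_mul] at h
    exact h.symm
  obtain ⟨s, r, hsr, hs, hr, ⟨k, hk⟩, hro⟩ := Transfer.exists_pPart_mul (p := 3) m
  rw [hsr]
  refine mul_mem (Subgroup.mem_sup_left ?_) (Subgroup.mem_sup_right ?_)
  · have hsp : IsPGroup 3 (Subgroup.zpowers s) := IsPGroup.of_card (n := k) (by rw [Nat.card_zpowers, hk])
    have hsN : Subgroup.zpowers s ≤ Subgroup.normalizer ((P : Subgroup H) : Set H) :=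
      (Subgroup.zpowers_le.2 hs).trans (Subgroup.zpowers_le.2 hm)
    rw [← P.is_maximal' (P.2.to_sup_of_normal_left' hsp hsN) le_sup_left]
    exact Subgroup.mem_sup_right (Subgroup.mem_zpowers s)
  · obtain ⟨i, rfl⟩ := Subgroup.mem_zpowers_iff.1 hr
    have h3 : (m ^ i) ^ 3 ∈ Subgroup.centralizer ((P : Subgroup H) : Set H) := by
      rw [← zpow_natCast, ← zpow_mul, mul_comm, zpow_mul, zpow_natCast]
      exact zpow_mem hcube i
    obtain ⟨q, hq⟩ := exists_pow_eq_self_of_coprime hro.symm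
    rw [← hq]
    exact pow_mem h3 q

theorem le_normalizer : (P : Subgroup H) ⊔ Subgroup.centralizer ((P : Subgroup H) : Set H) ≤
    Subgroup.normalizer ((P : Subgroup H) : Set H) :=
  sup_le Subgroup.le_normalizer fun g hg => Subgroup.mem_normalizer_iff.2 fun y => by
    have := Subgroup.mem_centralizer_iff.1 hg
    constructor
    · intro hy; rwa [← this y hy, mul_inv_cancel_right]
    · intro hy
      have h2 := this _ hy
      rw [inv_mul_cancel_right] at h2
      exact (mul_left_cancel h2).symm ▸ hy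

/-- With even inertial index every element outside `⟨z⟩` is conjugate to its inverse. -/
theorem exists_inverting (heven : 2 ∣ ((P : Subgroup H) ⊔
      Subgroup.centralizer ((P : Subgroup H) : Set H)).relIndex (Subgroup.normalizer ((P : Subgroup H) : Set H)))
    {a : H} (ha : a ∈ (P : Subgroup H)) (ha' : a ∉ Subgroup.zpowers z) :
    ∃ n ∈ Subgroup.normalizer ((P : Subgroup H) : Set H), n * a * n⁻¹ = a⁻¹ := by
  classical
  set N := Subgroup.normalizer ((P : Subgroup H) : Set H)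
  set K := (P : Subgroup H) ⊔ Subgroup.centralizer ((P : Subgroup H) : Set H)
  obtain ⟨S⟩ : Nonempty (Sylow 2 N) := inferInstance
  obtain ⟨n, hnS, hnK⟩ : ∃ n : N, n ∈ (S : Subgroup N) ∧ (n : H) ∉ K := by
    by_contra! h
    have h1 := Subgroup.index_dvd_of_le (show (S : Subgroup N) ≤ K.subgroupOf N from fun n hn => h n hn)
    have : Fact (Nat.Prime 2) := ⟨Nat.prime_two⟩
    exact S.not_dvd_index (heven.trans h1)
  obtain ⟨k, hk⟩ := IsPGroup.iff_orderOf.1 S.2 ⟨n, hnS⟩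
  have hpow : (n : H) ^ 2 ^ k = 1 := by
    have := pow_orderOf_eq_one (⟨n, hnS⟩ : (S : Subgroup N))
    rw [hk] at this
    exact congrArg (fun x : (S : Subgroup N) => ((x : N) : H)) this
  obtain ⟨t, htN, htK, ht2⟩ : ∃ t ∈ N, t ∉ K ∧ t * t ∈ K := by
    have hex : ∃ i, (n : H) ^ 2 ^ i ∈ K := ⟨k, hpow ▸ one_mem _⟩
    obtain ⟨i, hi, hmin⟩ := Nat.find_spec hex |> fun h => (⟨_, h, fun j hj => Nat.find_min hex hj⟩ :
      ∃ i, (n : H) ^ 2 ^ i ∈ K ∧ ∀ j < i, (n : H) ^ 2 ^ j ∉ K)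
    rcases i with _ | i
    · exact absurd (by simpa using hi) hnK
    refine ⟨(n : H) ^ 2 ^ i, pow_mem n.2 _, hmin i (Nat.lt_succ_self i), ?_⟩
    rw [← pow_add, ← two_mul, ← pow_succ']
    exact hi
  have hpm : ∀ y ∈ (P : Subgroup H), t * y * t⁻¹ ∈ (P : Subgroup H) := fun y hy =>
    (Subgroup.mem_normalizer_iff.1 htN y).1 hy
  have hKfix : ∀ m ∈ K, a⁻¹ * (m * a * m⁻¹) ∈ Subgroup.zpowers z := by
    intro m hm
    have hm' : m ∈ ((P : Subgroup H) : Set H) *
        (Subgroup.centralizer ((P : Subgroup H) : Set H) : Set H) := by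
      rw [← Subgroup.coe_mul_of_right_le_normalizer_left _ _ (le_sup_right.trans X.le_normalizer)]
      exact hm
    obtain ⟨b, hb, c, hc, rfl⟩ := Set.mem_mul.1 hm'
    have hca : c * a * c⁻¹ = a := by
      rw [← Subgroup.mem_centralizer_iff.1 hc a ha, mul_inv_cancel_right]
    have h1 := X.comm a⁻¹ (inv_mem ha) b hb
    rw [inv_inv] at h1
    rw [← conj_conj_eq, hca, ← mul_assoc, ← mul_assoc]
    exact h1
  have hv : a * (t * a * t⁻¹) ∈ Subgroup.zpowers z := by
    by_contra hv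
    refine htK (X.fix_coset (mul_mem ha (hpm a ha)) hv htN ?_)
    have h1 := hKfix _ ht2
    have h2 := X.comm _ (inv_mem (hpm a ha)) _ (inv_mem ha)
    rw [inv_inv, inv_inv] at h2
    have e : (a * (t * a * t⁻¹))⁻¹ * (t * (a * (t * a * t⁻¹)) * t⁻¹) =
        ((t * a * t⁻¹)⁻¹ * a⁻¹ * (t * a * t⁻¹) * a) * (a⁻¹ * ((t * t) * a * (t * t)⁻¹)) := by group
    rw [e]
    exact mul_mem h2 h1
  obtain ⟨b, hb, hba⟩ := X.moves (inv_mem ha) (fun h => ha' (by simpa using inv_mem h)) hv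
  rw [inv_mul_cancel_left] at hba
  refine ⟨b⁻¹ * t, mul_mem (Subgroup.le_normalizer (inv_mem hb)) htN, ?_⟩
  calc b⁻¹ * t * a * (b⁻¹ * t)⁻¹ = b⁻¹ * (t * a * t⁻¹) * b := by group
    _ = a⁻¹ := by rw [← hba]; group

/-- Conjugation outside `⟨z⟩` is realised in the normaliser modulo `⟨z⟩`. -/
theorem conj_mod_center {a a' g : H} (ha : a ∈ (P : Subgroup H)) (hb : a' ∈ (P : Subgroup H))
    (hgz : g * z * g⁻¹ = z) (hg : g * a * g⁻¹ = a') :
    ∃ n ∈ Subgroup.normalizer ((P : Subgroup H) : Set H), a'⁻¹ * (n * a * n⁻¹) ∈ Subgroup.zpowers z := by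
  classical
  have hfix : ∀ x ∈ (P : Subgroup H), ∀ y ∈ (P : Subgroup H),
      x * z * x⁻¹ = z ∧ y⁻¹ * (x * y * x⁻¹) ∈ Subgroup.zpowers z := by
    intro x hx y hy
    refine ⟨by rw [← (X.central x hx).eq, mul_inv_cancel_right], ?_⟩
    have := X.comm y⁻¹ (inv_mem hy) x hx
    rw [inv_inv] at this
    simpa [mul_assoc] using this
  have hPD : (P : Subgroup H) ≤ cosetStab z a' := fun x hx => hfix x hx a' hb
  have hgP : ((g • P : Sylow 3 H) : Subgroup H) ≤ cosetStab z a' := by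
    rw [Sylow.coe_subgroup_smul]
    intro x hx
    rw [Subgroup.mem_pointwise_smul_iff_inv_smul_mem, ← map_inv, MulAut.smul_def, MulAut.conj_apply,
      inv_inv] at hx
    obtain ⟨h1, h2⟩ := hfix _ hx a ha
    have hz : g⁻¹ * z * g = z := by
      conv_lhs => rw [← hgz]
      group
    refine ⟨?_, ?_⟩
    · calc x * z * x⁻¹ = g * (g⁻¹ * x * g * (g⁻¹ * z * g) * (g⁻¹ * x * g)⁻¹) * g⁻¹ := by group
        _ = z := by rw [hz, h1, hgz]
    · obtain ⟨i, hi⟩ := Subgroup.mem_zpowers_iff.1 h2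
      rw [← hg, show (g * a * g⁻¹)⁻¹ * (x * (g * a * g⁻¹) * x⁻¹) =
        g * (a⁻¹ * (g⁻¹ * x * g * a * (g⁻¹ * x * g)⁻¹)) * g⁻¹ by group, ← hi, ← conj_zpow, hgz]
      exact zpow_mem (Subgroup.mem_zpowers z) _
  obtain ⟨d, hd⟩ := MulAction.exists_smul_eq (cosetStab z a') ((g • P).subtype hgP) (P.subtype hPD)
  have h1 := congrArg (fun S : Sylow 3 (cosetStab z a') => (S : Subgroup _).map (cosetStab z a').subtype) hd
  have hN : (d : H) * g ∈ Subgroup.normalizer ((P : Subgroup H) : Set H) := by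
    refine Sylow.smul_eq_iff_mem_normalizer.1 ?_
    rw [mul_smul]
    refine Sylow.ext ?_
    simp only [Sylow.coe_subtype, Subgroup.subgroupOf_map_subtype, inf_of_le_left hPD] at h1
    rw [Sylow.coe_subgroup_smul, Sylow.coe_subtype] at h1
    refine Eq.trans ?_ h1
    rw [Sylow.coe_subgroup_smul]
    ext x
    simp only [Subgroup.mem_map, Subgroup.mem_pointwise_smul_iff_inv_smul_mem, Subgroup.mem_subgroupOf,
      ← map_inv, MulAut.smul_def, MulAut.conj_apply, inv_inv, Subgroup.coe_subtype]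
    constructor
    · intro hx
      have hxL : x ∈ cosetStab z a' := by
        have := mul_mem (mul_mem d.2 (hgP hx)) (inv_mem d.2)
        simpa [mul_assoc] using this
      exact ⟨⟨x, hxL⟩, hx, rfl⟩
    · rintro ⟨y, hy, rfl⟩
      exact hy
  exact ⟨_, hN, by rw [← conj_conj_eq, hg]; exact d.2.2⟩

/-- With trivial inertial quotient there is no fusion. -/
theorem noFusion (h1 : ((P : Subgroup H) ⊔
      Subgroup.centralizer ((P : Subgroup H) : Set H)).relIndex (Subgroup.normalizer ((P : Subgroup H) : Set H)) = 1) :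
    IsolatedElts.NoFusion (P : Subgroup H) := by
  rintro x hx y hy ⟨g, hg⟩
  have hcen : ∀ {w g : H}, w ∈ Subgroup.zpowers z → g * w * g⁻¹ ∈ (P : Subgroup H) →
      g * w * g⁻¹ = w := by
    intro w g hw hwP
    rcases X.z_cases hw with rfl | rfl | rfl
    · simp
    · exact X.weakly_closed hwP
    · have := X.weakly_closed (g := g) (by have := inv_mem hwP; simpa [mul_assoc] using this)
      rw [show g * z⁻¹ * g⁻¹ = (g * z * g⁻¹)⁻¹ by group, this]
  by_cases hxz : x ∈ Subgroup.zpowers z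
  · refine ⟨1, one_mem _, ?_⟩
    rw [one_mul, inv_one, mul_one, ← hg]
    exact (hcen hxz (g := g) (by rw [hg]; exact hy)).symm
  by_cases hyz : y ∈ Subgroup.zpowers z
  · have he : g⁻¹ * y * g⁻¹⁻¹ = x := by rw [← hg]; group
    have := hcen hyz (g := g⁻¹) (by rw [he]; exact hx)
    exact absurd (by rw [← he, this]; exact hyz) hxz
  obtain ⟨c, hc, hcx⟩ := X.conj_in_centralizer hx hxz hy hyz (isConj_iff.2 ⟨g, hg⟩)
  obtain ⟨n, hn, hny⟩ := X.conj_mod_center hx hy
    (by rw [Subgroup.mem_centralizer_singleton_iff.1 hc, mul_inv_cancel_right]) hcx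
  have hm' : n ∈ ((P : Subgroup H) : Set H) *
      (Subgroup.centralizer ((P : Subgroup H) : Set H) : Set H) := by
    rw [← Subgroup.coe_mul_of_right_le_normalizer_left _ _ (le_sup_right.trans X.le_normalizer)]
    exact Subgroup.relIndex_eq_one.1 h1 hn
  obtain ⟨b, hb, c', hc', rfl⟩ := Set.mem_mul.1 hm'
  have hcx' : c' * x * c'⁻¹ = x := by
    rw [← Subgroup.mem_centralizer_iff.1 hc' x hx, mul_inv_cancel_right]
  rw [← conj_conj_eq, hcx'] at hny
  obtain ⟨d, hd, hdy⟩ := X.moves hy hyz hny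
  rw [mul_inv_cancel_left] at hdy
  exact ⟨d⁻¹ * b, mul_mem (inv_mem hd) hb, by rw [← conj_conj_eq, ← hdy]; group⟩

end Ctx

end Cfsg.Agent.Extra27
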