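import Cfsg.Agent.Lib.Blocks.Extra27.Quot
import Cfsg.Agent.Lib.SmallSection.Dominate
import Cfsg.Agent.Lib.SecondMain.Support

/-!
# The layers over a central element of order three

For `z` central of order `3` in `C` the principal block falls into layers by the scalar of `z`.

* `layer_gram`: the integral vectors of a layer reproduce the scalar products of the quotient;
* `layer_card`, `layer_vanish`.
-/

set_option autoImplicit false
set_option linter.unusedSectionVars false

open scoped ComplexConjugate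

namespace Cfsg.Agent.Extra27

open Cfsg Cfsg.Agent.Blocks

universe u

variable {C : Type u} [Group C] [Fintype C] {M : Ideal AlgInt} [Fact (Nat.Prime 3)] {z : C}

theorem regular_unique (hzo : orderOf z = 3) (hz : ∀ c, Commute z c) {c : C} (i j : Fin 3)
    (hi : ¬ 3 ∣ orderOf (z ^ (i : ℕ) * c)) (hj : ¬ 3 ∣ orderOf (z ^ (j : ℕ) * c)) : i = j := by
  by_contra hne
  have hcom : Commute (z ^ (i : ℕ) * c) (z ^ (j : ℕ) * c)⁻¹ := by
    refine Commute.inv_right ?_
    exact (((hz _).pow_left (i : ℕ)).mul_left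
      ((((hz c).pow_left (j : ℕ)).symm).mul_right (Commute.refl c)))
  have he : z ^ (i : ℕ) * c * (z ^ (j : ℕ) * c)⁻¹ = z ^ ((i : ℤ) - j) := by
    rw [mul_inv_rev, mul_assoc, mul_inv_cancel_left, zpow_sub, zpow_natCast, zpow_natCast]
  have hd := hcom.orderOf_mul_dvd_lcm
  rw [he, orderOf_inv] at hd
  have ho : orderOf (z ^ ((i : ℤ) - j)) = 3 := by
    refine orderOf_eq_prime ?_ fun h1 => ?_
    · rw [← zpow_natCast, ← zpow_mul, mul_comm, zpow_mul, zpow_natCast,
        show z ^ 3 = 1 from hzo ▸ pow_orderOf_eq_one z, one_zpow]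
    · have h := orderOf_dvd_iff_zpow_eq_one.2 h1
      rw [hzo] at h
      exact hne ((show ∀ u v : Fin 3, ((3 : ℕ) : ℤ) ∣ (u : ℤ) - v → u = v by decide) i j h)
  rw [ho] at hd
  have hdvd := hd.trans (Nat.lcm_dvd_mul _ _)
  rcases (Nat.Prime.dvd_mul Nat.prime_three).1 hdvd with h | h
  · exact hi h
  · exact hj h

theorem conj_mul_self_of_cube {a : ℂ} (ha : a ^ 3 = 1) : conj a * a = 1 := by
  rw [mul_comm, Complex.mul_conj', Complex.norm_eq_one_of_pow_eq_one ha three_ne_zero]
  norm_num

theorem classInner_shift (φ χ : C → ℂ) {lam : ℂ} (hlam : lam ^ 3 = 1)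
    (hχ : ∀ c, χ (z * c) = lam * χ c) (i : ℕ) :
    classInner (fun c => φ (z ^ i * c)) χ = lam ^ i * classInner φ χ := by
  have hpow : ∀ c, χ (z ^ i * c) = lam ^ i * χ c := by
    intro c
    induction i with
    | zero => simp
    | succ i ih => rw [pow_succ', mul_assoc, hχ, ih, ← mul_assoc, ← pow_succ']
  rw [classInner, classInner, mul_left_comm]
  congr 1
  conv_rhs => rw [← Equiv.sum_comp (Equiv.mulLeft (z ^ i)) (fun g => φ g * conj (χ g)), Finset.mul_sum]
  refine Finset.sum_congr rfl fun c _ => ?_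
  rw [Equiv.coe_mulLeft, hpow, map_mul, map_pow]
  rw [show lam ^ i * (φ (z ^ i * c) * ((conj lam) ^ i * conj (χ c))) =
    φ (z ^ i * c) * conj (χ c) * (conj lam * lam) ^ i by rw [mul_pow]; ring,
    conj_mul_self_of_cube hlam, one_pow, mul_one]

theorem classInner_congr_right {φ ψ ψ' : C → ℂ} (h : ∀ c, φ c = 0 ∨ ψ c = ψ' c) :
    classInner φ ψ = classInner φ ψ' := by
  rw [classInner, classInner]
  congr 1
  refine Finset.sum_congr rfl fun c _ => ?_
  rcases h c with h | h <;> simp [h]

theorem regInner_congr_right {φ ψ ψ' : C → ℂ} (h : ∀ c, ¬ 3 ∣ orderOf c → ψ c = ψ' c) :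
    SecondMain.regInner 3 φ ψ = SecondMain.regInner 3 φ ψ' :=
  classInner_congr_right fun c => by
    by_cases hc : 3 ∣ orderOf c
    · exact Or.inl (SecondMain.pRegularPart_of_singular hc)
    · exact Or.inr (h c hc)

theorem sum_geom_cube {u : ℂ} (hu : u ^ 3 = 1) (hu1 : u ≠ 1) : ∑ i : Fin 3, u ^ (i : ℕ) = 0 := by
  have h : (u - 1) * (1 + u + u ^ 2) = 0 := by linear_combination hu
  rw [Fin.sum_univ_three]
  simp only [Fin.val_zero, Fin.val_one, Fin.val_two, pow_zero, pow_one]
  exact (mul_eq_zero.1 h).resolve_left (sub_ne_zero.2 hu1)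

variable [(Subgroup.zpowers z).Normal]

/-- The inflated combination. -/
noncomputable def phi [Fintype (principalBlock M (C ⧸ Subgroup.zpowers z))]
    (a : principalBlock M (C ⧸ Subgroup.zpowers z) → ℤ) (q : C ⧸ Subgroup.zpowers z) : ℂ :=
  ∑ ξ, (a ξ : ℂ) * ((ξ : IrrCharacter (C ⧸ Subgroup.zpowers z)) : C ⧸ Subgroup.zpowers z → ℂ) q

/-- A layer of the principal block. -/
def Lay (M : Ideal AlgInt) (z : C) (μ : ℂ) : Type u :=
  {η : IrrCharacter C // η ∈ principalBlock M C ∧ ∀ c, (η : C → ℂ) (z * c) = μ * (η : C → ℂ) c}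

noncomputable instance (μ : ℂ) : Fintype (Lay M z μ) := by
  classical
  have := Fintype.ofFinite (IrrCharacter C)
  unfold Lay
  infer_instance

theorem zpowers_center (hz : ∀ c, Commute z c) : Subgroup.zpowers z ≤ Subgroup.center C :=
  Subgroup.zpowers_le.2 (Subgroup.mem_center_iff.2 fun c => (hz c).eq.symm)

theorem isPGroup_zpowers (hzo : orderOf z = 3) : IsPGroup 3 (Subgroup.zpowers z) :=
  IsPGroup.of_card (n := 1) (by rw [Nat.card_zpowers, hzo, pow_one])

theorem quot_principal (hM : IsPModular 3 M) (hzo : orderOf z = 3) (hz : ∀ c, Commute z c) :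
    SmallSection.quotBlock (Subgroup.zpowers z) (principalBlock M C) =
      principalBlock M (C ⧸ Subgroup.zpowers z) := by
  refine isPBlock_eq_of_mem hM (SmallSection.isPBlock_quotBlock hM (isPGroup_zpowers hzo)
    (zpowers_center hz) BrauerPairs.isPBlock_principal) BrauerPairs.isPBlock_principal
    (χ := BrauerPairs.oneIrr _) ?_ (BrauerPairs.oneIrr_mem_principal hM)
  show Codegree.inflate (Subgroup.zpowers z) (BrauerPairs.oneIrr _) ∈ principalBlock M C
  convert BrauerPairs.oneIrr_mem_principal hM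
  exact Subtype.ext rfl

theorem inflate_mem (hM : IsPModular 3 M) (hzo : orderOf z = 3) (hz : ∀ c, Commute z c)
    (ξ : principalBlock M (C ⧸ Subgroup.zpowers z)) :
    Codegree.inflate (Subgroup.zpowers z) (ξ : IrrCharacter (C ⧸ Subgroup.zpowers z)) ∈
      principalBlock M C := by
  have h := ξ.2
  have h' : (ξ : IrrCharacter (C ⧸ Subgroup.zpowers z)) ∈
      SmallSection.quotBlock (Subgroup.zpowers z) (principalBlock M C) := by
    rw [quot_principal hM hzo hz]; exact h
  exact h'

theorem rank_eq (hM : IsPModular 3 M) (hzo : orderOf z = 3) (hz : ∀ c, Commute z c) :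
    blockRank 3 (principalBlock M C) =
      blockRank 3 (principalBlock M (C ⧸ Subgroup.zpowers z)) := by
  rw [SmallSection.blockRank_quotBlock hM (isPGroup_zpowers hzo) (zpowers_center hz)
    BrauerPairs.isPBlock_principal, quot_principal hM hzo hz]

variable [Fintype (principalBlock M (C ⧸ Subgroup.zpowers z))]

/-- The expansion on the regular elements. -/
theorem exists_expansion (hM : IsPModular 3 M) (hzo : orderOf z = 3) (hz : ∀ c, Commute z c)
    {η : IrrCharacter C} (hη : η ∈ principalBlock M C) :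
    ∃ n : principalBlock M (C ⧸ Subgroup.zpowers z) → ℤ,
      ∀ c : C, ¬ 3 ∣ orderOf c → (η : C → ℂ) c = phi n (c : C ⧸ Subgroup.zpowers z) := by
  classical
  have := Fintype.ofFinite (IrrCharacter (C ⧸ Subgroup.zpowers z))
  obtain ⟨n, hn0, hn⟩ := SmallSection.exists_block_expansion hM (isPGroup_zpowers hzo)
    (zpowers_center hz) BrauerPairs.isPBlock_principal hη
  refine ⟨fun ξ => n ξ, fun c hc => ?_⟩
  rw [hn c hc, phi]
  symm
  refine (Finset.sum_subtype (Finset.univ.filter (· ∈ principalBlock M (C ⧸ Subgroup.zpowers z)))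
    (p := (· ∈ principalBlock M (C ⧸ Subgroup.zpowers z))) (by simp)
    (fun ξ : IrrCharacter (C ⧸ Subgroup.zpowers z) => (n ξ : ℂ) *
      (ξ : C ⧸ Subgroup.zpowers z → ℂ) c)).symm.trans ?_
  refine Finset.sum_subset (Finset.filter_subset _ _) fun ξ _ hξ => ?_
  rw [hn0 ξ (by rw [quot_principal hM hzo hz]; simpa using hξ), Int.cast_zero, zero_mul]

theorem classInner_phi [Fintype (C ⧸ Subgroup.zpowers z)]
    (a b : principalBlock M (C ⧸ Subgroup.zpowers z) → ℤ) :
    classInner (phi a) (phi b) = ((∑ ξ, a ξ * b ξ : ℤ) : ℂ) := by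
  classical
  have e : ∀ c : principalBlock M (C ⧸ Subgroup.zpowers z) → ℤ, phi c = ∑ ξ, (c ξ : ℂ) •
      ((ξ : IrrCharacter (C ⧸ Subgroup.zpowers z)) : C ⧸ Subgroup.zpowers z → ℂ) := fun c => by
    funext q
    simp [phi, Finset.sum_apply]
  rw [e, e, Char.classInner_sum_left, Int.cast_sum]
  refine Finset.sum_congr rfl fun ξ _ => ?_
  rw [Char.classInner_smul_left, Char.classInner_sum_right, Finset.sum_eq_single ξ
    (fun ξ' _ hne => by
      rw [Char.classInner_smul_right, Char.classInner_irr_of_ne ξ.1.2 ξ'.1.2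
        fun h => hne (Subtype.ext (Subtype.ext h.symm)), mul_zero])
    (fun h => absurd (Finset.mem_univ _) h), Char.classInner_smul_right, Char.classInner_irr_self ξ.1.2]
  push_cast
  simp

/-- The scalar product with a combination vanishing on the singular elements. -/
theorem three_mul_regInner_phi (hzo : orderOf z = 3) (hz : ∀ c, Commute z c)
    {a : principalBlock M (C ⧸ Subgroup.zpowers z) → ℤ}
    (ha : ∀ q : C ⧸ Subgroup.zpowers z, 3 ∣ orderOf q → phi a q = 0)
    (b : principalBlock M (C ⧸ Subgroup.zpowers z) → ℤ) :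
    (3 : ℂ) * SecondMain.regInner 3 (fun c : C => phi a c) (fun c : C => phi b c) =
      ((∑ ξ, a ξ * b ξ : ℤ) : ℂ) := by
  classical
  have := Fintype.ofFinite (C ⧸ Subgroup.zpowers z)
  have h := SmallSection.regInner_inflate (p := 3) (isPGroup_zpowers hzo) (zpowers_center hz)
    (phi a) (phi b)
  rw [Nat.card_zpowers, hzo] at h
  have h3 : ((3 : ℕ) : ℂ) = 3 := by norm_num
  rw [h3] at h
  rw [h, ← classInner_phi, SecondMain.regInner]
  congr 1
  funext q
  by_cases hq : 3 ∣ orderOf q
  · rw [SecondMain.pRegularPart_of_singular hq, ha q hq]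
  · rw [SecondMain.pRegularPart_of_regular hq]

theorem isClassFunction_phi (a : principalBlock M (C ⧸ Subgroup.zpowers z) → ℤ) :
    IsClassFunction C fun c : C => phi a (c : C ⧸ Subgroup.zpowers z) := fun g h => by
  simp only [phi, QuotientGroup.mk_mul, QuotientGroup.mk_inv]
  exact Finset.sum_congr rfl fun ξ _ => by rw [irr_class ξ.1 (g : C ⧸ Subgroup.zpowers z) (h : C ⧸ Subgroup.zpowers z)]

/-- The regular part of an inflated combination is orthogonal to the other blocks. -/
theorem regInner_phi_eq_zero (hM : IsPModular 3 M) (hzo : orderOf z = 3) (hz : ∀ c, Commute z c)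
    (a : principalBlock M (C ⧸ Subgroup.zpowers z) → ℤ) {χ : IrrCharacter C}
    (hχ : χ ∉ principalBlock M C) :
    SecondMain.regInner 3 (fun c : C => phi a c) (χ : C → ℂ) = 0 := by
  classical
  have e : pRegularPart 3 (fun c : C => phi a c) = ∑ ξ, (a ξ : ℂ) • pRegularPart 3
      (Codegree.inflate (Subgroup.zpowers z) (ξ : IrrCharacter (C ⧸ Subgroup.zpowers z)) : C → ℂ) := by
    funext c
    by_cases hc : 3 ∣ orderOf c
    · simp [Finset.sum_apply, SecondMain.pRegularPart_of_singular hc]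
    · simp only [Finset.sum_apply, Pi.smul_apply, SecondMain.pRegularPart_of_regular hc]
      rfl
  rw [SecondMain.regInner, e, Char.classInner_sum_left]
  refine Finset.sum_eq_zero fun ξ _ => ?_
  rw [Char.classInner_smul_left, BrauerPairs.classInner_pRegularPart_eq_zero hM
    BrauerPairs.isPBlock_principal (inflate_mem hM hzo hz ξ) hχ, mul_zero]

/-- The layers reproduce the scalar products of the quotient. -/
theorem layer_gram (hM : IsPModular 3 M) (hzo : orderOf z = 3) (hz : ∀ c, Commute z c) {μ : ℂ}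
    (hμ : μ ^ 3 = 1) (nn : Lay M z μ → principalBlock M (C ⧸ Subgroup.zpowers z) → ℤ)
    (hnn : ∀ η : Lay M z μ, ∀ c : C, ¬ 3 ∣ orderOf c → (η.1 : C → ℂ) c = phi (nn η) c)
    {a b : principalBlock M (C ⧸ Subgroup.zpowers z) → ℤ}
    (ha : ∀ q : C ⧸ Subgroup.zpowers z, 3 ∣ orderOf q → phi a q = 0)
    (hb : ∀ q : C ⧸ Subgroup.zpowers z, 3 ∣ orderOf q → phi b q = 0) :
    ∑ η : Lay M z μ, (∑ ξ, a ξ * nn η ξ) * (∑ ξ, b ξ * nn η ξ) = ∑ ξ, a ξ * b ξ := by
  classical
  have := Fintype.ofFinite (IrrCharacter C)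
  have hzc : z ∈ Subgroup.center C := Subgroup.mem_center_iff.2 fun c => (hz c).eq.symm
  let f : (principalBlock M (C ⧸ Subgroup.zpowers z) → ℤ) → C → ℂ := fun a =>
    pRegularPart 3 fun c : C => phi a c
  let F : (principalBlock M (C ⧸ Subgroup.zpowers z) → ℤ) → C → ℂ := fun a =>
    ∑ i : Fin 3, (μ ^ 2) ^ (i : ℕ) • fun c => f a (z ^ (i : ℕ) * c)
  have hF : ∀ a, IsClassFunction C (F a) := fun a => Char.isClassFunction_sum _ fun i _ =>
    Char.isClassFunction_smul (fun g h => by
      have h1 : z ^ (i : ℕ) * (h * g * h⁻¹) = h * (z ^ (i : ℕ) * g) * h⁻¹ := by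
        rw [← mul_assoc, ← mul_assoc, ((hz h).pow_left (i : ℕ)).eq, mul_assoc h]
      simp only [h1, f]
      exact BrauerPairs.isClassFunction_pRegularPart (isClassFunction_phi a) _ _) _
  have hFχ : ∀ (a) (χ : IrrCharacter C) (lam : ℂ), lam ^ 3 = 1 →
      (∀ c, (χ : C → ℂ) (z * c) = lam * (χ : C → ℂ) c) →
      classInner (F a) (χ : C → ℂ) =
        (∑ i : Fin 3, (μ ^ 2 * lam) ^ (i : ℕ)) * classInner (f a) (χ : C → ℂ) := by
    intro a χ lam hlam hχ
    simp only [F]
    rw [Char.classInner_sum_left, Finset.sum_mul]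
    refine Finset.sum_congr rfl fun i _ => ?_
    rw [Char.classInner_smul_left, classInner_shift _ _ hlam hχ, mul_pow _ lam, mul_assoc]
  have hin : ∀ a, (∀ q : C ⧸ Subgroup.zpowers z, 3 ∣ orderOf q → phi a q = 0) →
      ∀ η : Lay M z μ, classInner (F a) (η.1 : C → ℂ) = ((∑ ξ, a ξ * nn η ξ : ℤ) : ℂ) := by
    intro a ha η
    rw [hFχ a η.1 μ hμ η.2.2, show μ ^ 2 * μ = 1 by rw [← pow_succ]; exact hμ]
    rw [← three_mul_regInner_phi hzo hz ha (nn η)]
    simp only [one_pow, Finset.sum_const, Finset.card_univ, Fintype.card_fin, nsmul_eq_mul, mul_one,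
      Nat.cast_ofNat]
    congr 1
    exact regInner_congr_right (hnn η)
  have hout : ∀ a (χ : IrrCharacter C),
      (¬ (χ ∈ principalBlock M C ∧ ∀ c, (χ : C → ℂ) (z * c) = μ * (χ : C → ℂ) c)) →
      classInner (F a) (χ : C → ℂ) = 0 := by
    intro a χ hχ
    obtain ⟨lam, hlam, hl⟩ := SecondMain.exists_central_scalar hzc χ
    rw [hzo] at hlam
    rw [hFχ a χ lam hlam hl]
    by_cases hb' : χ ∈ principalBlock M C
    · rw [sum_geom_cube (by rw [mul_pow, hlam, mul_one, ← pow_mul, mul_comm, pow_mul, hμ, one_pow])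
        (fun h => hχ ⟨hb', fun c => by
          rw [hl c]
          congr 1
          calc lam = μ ^ 3 * lam := by rw [hμ, one_mul]
            _ = μ * (μ ^ 2 * lam) := by ring
            _ = μ := by rw [h, mul_one]⟩), zero_mul]
    · rw [show classInner (f a) (χ : C → ℂ) = 0 from regInner_phi_eq_zero hM hzo hz a hb', mul_zero]
  have hFF : classInner (F a) (F b) = ((∑ ξ, a ξ * b ξ : ℤ) : ℂ) := by
    simp only [F]
    rw [Char.classInner_sum_left]
    have hterm : ∀ i : Fin 3, classInner ((μ ^ 2) ^ (i : ℕ) • fun c => f a (z ^ (i : ℕ) * c))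
        (∑ j : Fin 3, (μ ^ 2) ^ (j : ℕ) • fun c => f b (z ^ (j : ℕ) * c)) = classInner (f a) (f b) := by
      intro i
      rw [Char.classInner_smul_left, Char.classInner_sum_right, Finset.sum_eq_single i
        (fun j _ hji => ?_) (fun h => absurd (Finset.mem_univ _) h)]
      · rw [Char.classInner_smul_right, ← mul_assoc]
        have h1 : (μ ^ 2) ^ (i : ℕ) * conj ((μ ^ 2) ^ (i : ℕ)) = 1 := by
          rw [map_pow, map_pow, ← mul_pow, ← mul_pow, mul_comm μ, conj_mul_self_of_cube hμ, one_pow,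
            one_pow]
        rw [h1, one_mul, classInner, classInner]
        congr 1
        exact Equiv.sum_comp (Equiv.mulLeft (z ^ (i : ℕ))) fun c => f a c * conj (f b c)
      · have h0 : classInner (fun c => f a (z ^ (i : ℕ) * c)) (fun c => f b (z ^ (j : ℕ) * c)) = 0 := by
          rw [classInner, Finset.sum_eq_zero, mul_zero]
          intro c _
          by_cases hi : 3 ∣ orderOf (z ^ (i : ℕ) * c)
          · simp only [f]; rw [SecondMain.pRegularPart_of_singular hi, zero_mul]
          · by_cases hj : 3 ∣ orderOf (z ^ (j : ℕ) * c)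
            · simp only [f]; rw [SecondMain.pRegularPart_of_singular hj, map_zero, mul_zero]
            · exact absurd (regular_unique hzo hz i j hi hj).symm hji
        rw [Char.classInner_smul_right, h0, mul_zero]
    rw [Finset.sum_congr rfl fun i _ => hterm i, ← three_mul_regInner_phi hzo hz ha b]
    simp only [Finset.sum_const, Finset.card_univ, Fintype.card_fin, nsmul_eq_mul, Nat.cast_ofNat]
    congr 1
    refine classInner_congr_right fun c => ?_
    by_cases hc : 3 ∣ orderOf c
    · exact Or.inl (SecondMain.pRegularPart_of_singular hc)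
    · exact Or.inr (SecondMain.pRegularPart_of_regular hc)
  have h := Char.classInner_eq_sum (hF a) (F b)
  rw [hFF, ← Finset.sum_subset (Finset.filter_subset (fun χ : IrrCharacter C =>
      χ ∈ principalBlock M C ∧ ∀ c, (χ : C → ℂ) (z * c) = μ * (χ : C → ℂ) c) Finset.univ)
    (fun χ _ hχ => by rw [hout a χ (by simpa using hχ), zero_mul])] at h
  have h' : ((∑ ξ, a ξ * b ξ : ℤ) : ℂ) =
      ∑ η : Lay M z μ, classInner (F a) (η.1 : C → ℂ) * conj (classInner (F b) (η.1 : C → ℂ)) := by
    rw [h]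
    refine (Finset.sum_bij (fun (η : Lay M z μ) _ => η.1) (fun η _ => ?_)
      (fun η _ η' _ he => Subtype.ext he) (fun χ hχ => ?_) fun η _ => rfl).symm
    · exact Finset.mem_filter.2 ⟨Finset.mem_univ _, η.2⟩
    · exact ⟨⟨χ, (Finset.mem_filter.1 hχ).2⟩, Finset.mem_univ _, rfl⟩
  simp only [hin a ha, hin b hb, map_intCast] at h'
  exact_mod_cast h'.symm

variable {P : Sylow 3 C} {n : ℕ} {x : Fin n → C}

/-- The elements of `C`. -/
theorem Reps.cases (R : Reps P z n x) (hz : ∀ c, Commute z c) (c : C) :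
    (∃ i : Fin 3, ∃ y, ¬ 3 ∣ orderOf y ∧ c = z ^ (i : ℕ) * y) ∨
      (∃ j y, ¬ 3 ∣ orderOf y ∧ Commute (x j) y ∧ IsConj c (x j * y)) := by
  obtain ⟨s, hs, y, hy, hc, h⟩ := exists_section P c
  by_cases hsz : s ∈ Subgroup.zpowers z
  · left
    obtain ⟨g, hg⟩ := isConj_iff.1 h.symm
    have hgs : Commute g s := by
      obtain ⟨k, rfl⟩ := Subgroup.mem_zpowers_iff.1 hsz
      exact ((hz g).zpow_left k).symm
    rcases R.ctx.z_cases hsz with rfl | rfl | rfl
    · exact ⟨0, g * y * g⁻¹, by rwa [SecondMain.orderOf_conj], by rw [← hg]; simp⟩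
    · exact ⟨1, g * y * g⁻¹, by rwa [SecondMain.orderOf_conj], by
        rw [← hg, ← conj_mul, hgs.eq, mul_inv_cancel_right]; simp⟩
    · refine ⟨2, g * y * g⁻¹, by rwa [SecondMain.orderOf_conj], ?_⟩
      rw [← hg, ← conj_mul, hgs.eq, mul_inv_cancel_right, show z⁻¹ = z ^ 2 from
        inv_eq_of_mul_eq_one_right (by rw [← pow_succ']; exact R.ctx.exp z R.ctx.zP)]
      simp
  · right
    obtain ⟨j, hj⟩ := R.cover s hs hsz
    obtain ⟨y', hy', hc', h'⟩ := section_conj hj hy hc
    exact ⟨j, y', hy', hc', h.trans h'⟩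

theorem irr_pow_mul (η : IrrCharacter C) {μ : ℂ}
    (hη : ∀ c, (η : C → ℂ) (z * c) = μ * (η : C → ℂ) c) (i : ℕ) (c : C) :
    (η : C → ℂ) (z ^ i * c) = μ ^ i * (η : C → ℂ) c := by
  induction i with
  | zero => simp
  | succ i ih => rw [pow_succ', mul_assoc, hη, ih, ← mul_assoc, ← pow_succ']

/-- A layer off the trivial one vanishes on the sections outside the centre. -/
theorem layer_vanish (R : Reps P z n x) (hM : IsPModular 3 M) {μ : ℂ} (hμ1 : μ ≠ 1)
    (η : Lay M z μ) (j : Fin n) {y : C} (hy : ¬ 3 ∣ orderOf y) (hc : Commute (x j) y) :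
    (η.1 : C → ℂ) (x j * y) = 0 := by
  rw [(R.sec j).shift hM η.2.1 hy hc]
  obtain ⟨b, -, hb⟩ := R.ctx.moves (R.mem j) (R.notMem j) (Subgroup.mem_zpowers z)
  have h := irr_class η.1 (x j) b
  rw [hb, ← (R.ctx.central _ (R.mem j)).eq, η.2.2] at h
  have h' : (μ - 1) * (η.1 : C → ℂ) (x j) = 0 := by linear_combination h
  exact (mul_eq_zero.1 h').resolve_left (sub_ne_zero.2 hμ1)

/-- The regular parts in a layer are independent. -/
theorem layer_independent (R : Reps P z n x) (hM : IsPModular 3 M)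
    (hz : ∀ c, Commute z c) {μ : ℂ} (hμ1 : μ ≠ 1) :
    LinearIndependent ℂ fun η : Lay M z μ => pRegularPart 3 (η.1 : C → ℂ) := by
  classical
  rw [Fintype.linearIndependent_iff]
  intro c hc η₀
  have hreg : ∀ y, ¬ 3 ∣ orderOf y → ∑ η : Lay M z μ, c η * (η.1 : C → ℂ) y = 0 := by
    intro y hy
    have h := congrFun hc y
    simpa [Finset.sum_apply, SecondMain.pRegularPart_of_regular hy] using h
  have hall : ∑ η : Lay M z μ, c η • (η.1 : C → ℂ) = 0 := by
    funext g
    simp only [Finset.sum_apply, Pi.smul_apply, smul_eq_mul, Pi.zero_apply]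
    rcases R.cases hz g with ⟨i, y, hy, rfl⟩ | ⟨j, y, hy, hcy, hconj⟩
    · rw [Finset.sum_congr rfl fun η _ => by rw [irr_pow_mul η.1 η.2.2, mul_left_comm],
        ← Finset.mul_sum, hreg y hy, mul_zero]
    · exact Finset.sum_eq_zero fun η _ => by
        rw [classFunction_eq_of_isConj (irr_class η.1) hconj, layer_vanish R hM hμ1 η j hy hcy,
          mul_zero]
  have hli : LinearIndependent ℂ fun η : Lay M z μ => (η.1 : C → ℂ) :=
    Char.linearIndependent_irr.comp _ (fun _ _ h => Subtype.ext h)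
  exact Fintype.linearIndependent_iff.1 hli c hall η₀

theorem layer_card (R : Reps P z n x) (hM : IsPModular 3 M)
    (hz : ∀ c, Commute z c) {μ : ℂ} (hμ1 : μ ≠ 1) :
    Fintype.card (Lay M z μ) ≤ blockRank 3 (principalBlock M C) := by
  classical
  have hli := layer_independent R hM hz hμ1
  rw [← finrank_span_eq_card hli]
  exact Submodule.finrank_mono (Submodule.span_mono (Set.range_subset_iff.2 fun η =>
    ⟨η.1, η.2.1, rfl⟩))

end Cfsg.Agent.Extra27
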