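import Cfsg.Agent.Lib.Blocks.Extra27.Transfer
import Cfsg.Agent.Lib.BlocksNormal.Cover
import Cfsg.Agent.Lib.CentralChar.Twist
import Cfsg.Agent.S0939

/-!
# Invariants of the principal block

* `invariants`: the numbers from the frame;
* `exists_reps`: the count of classes outside the centre;
* `invariants_of_complement`: the case of a normal complement.
-/

set_option autoImplicit false
set_option linter.unusedSectionVars false
set_option maxHeartbeats 800000

open scoped ComplexConjugate Pointwise

namespace Cfsg.Agent.Extra27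

open Cfsg Cfsg.Agent.Blocks

universe u

variable {G : Type u} [Group G] [Finite G] {M : Ideal AlgInt} {P : Sylow 3 G} {z : G}

/-- Height zero in the principal block. -/
theorem height_zero_iff (hM : IsPModular 3 M) (χ : IrrCharacter G) :
    blockHeight 3 (principalBlock M G) (χ : G → ℂ) = 0 ↔ ¬ 3 ∣ charDegree (χ : G → ℂ) := by
  have h0 : sInf ((fun ψ : IrrCharacter G => (charDegree (ψ : G → ℂ)).factorization 3) ''
      principalBlock M G) = 0 := by
    refine Nat.le_zero.1 (Nat.sInf_le ⟨_, BrauerPairs.oneIrr_mem_principal hM, ?_⟩)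
    have : ((BrauerPairs.oneIrr G : IrrCharacter G) : G → ℂ) 1 = 1 := rfl
    simp [charDegree, this]
  rw [blockHeight, h0, Nat.sub_zero]
  constructor
  · intro h hd
    have := (Nat.Prime.dvd_iff_one_le_factorization Nat.prime_three (charDegree_pos χ).ne').1 hd
    omega
  · exact Nat.factorization_eq_zero_of_not_dvd

theorem card_orbit_conj (L : Subgroup G) (a : G) :
    ((fun g : G => g * a * g⁻¹) '' (L : Set G)).ncard =
      (Subgroup.centralizer ({a} : Set G)).relIndex L := by
  classical
  letI : MulAction L G := MulAction.compHom G (MulAut.conj.comp L.subtype)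
  have hsmul : ∀ (g : L) (b : G), g • b = (g : G) * b * (g : G)⁻¹ := fun g b => rfl
  have hstab : MulAction.stabilizer L a = (Subgroup.centralizer ({a} : Set G)).subgroupOf L := by
    ext g
    rw [MulAction.mem_stabilizer_iff, hsmul, Subgroup.mem_subgroupOf,
      Subgroup.mem_centralizer_singleton_iff, mul_inv_eq_iff_eq_mul]
  rw [Subgroup.relIndex, ← hstab, MulAction.index_stabilizer]
  congr 1
  ext b
  constructor
  · rintro ⟨g, hg, rfl⟩
    exact ⟨⟨g, hg⟩, rfl⟩
  · rintro ⟨g, rfl⟩
    exact ⟨g, g.2, rfl⟩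

theorem Ctx.mem_zpowers_conj (X : Ctx P z) {g b : G}
    (hg : g ∈ Subgroup.normalizer ((P : Subgroup G) : Set G)) (hb : b ∈ Subgroup.zpowers z) :
    g * b * g⁻¹ = b := by
  obtain ⟨k, rfl⟩ := Subgroup.mem_zpowers_iff.1 hb
  rw [← conj_zpow, X.norm g hg]

/-- A class outside the centre meets `P` in `3 e` elements. -/
theorem Ctx.card_class (X : Ctx P z) {a : G} (ha : a ∈ (P : Subgroup G))
    (ha' : a ∉ Subgroup.zpowers z) :
    {a' : G | a' ∈ (P : Subgroup G) ∧ a' ∉ Subgroup.zpowers z ∧ IsConj a a'}.ncard =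
      ((P : Subgroup G) ⊔ Subgroup.centralizer ((P : Subgroup G) : Set G)).relIndex
        (Subgroup.normalizer ((P : Subgroup G) : Set G)) * 3 := by
  classical
  set N := Subgroup.normalizer ((P : Subgroup G) : Set G)
  set K := (P : Subgroup G) ⊔ Subgroup.centralizer ((P : Subgroup G) : Set G)
  have hset : {a' : G | a' ∈ (P : Subgroup G) ∧ a' ∉ Subgroup.zpowers z ∧ IsConj a a'} =
      (fun g : G => g * a * g⁻¹) '' (N : Set G) := by
    ext a'
    constructor
    · rintro ⟨hb, hb', hconj⟩
      obtain ⟨c, hc, hca⟩ := X.conj_in_centralizer ha ha' hb hb' hconj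
      obtain ⟨m, hm, hma⟩ := X.conj_mod_center ha hb
        (by rw [Subgroup.mem_centralizer_singleton_iff.1 hc, mul_inv_cancel_right]) hca
      obtain ⟨d, hd, hda⟩ := X.moves hb hb' hma
      rw [mul_inv_cancel_left] at hda
      refine ⟨d⁻¹ * m, mul_mem (inv_mem (Subgroup.le_normalizer hd)) hm, ?_⟩
      show d⁻¹ * m * a * (d⁻¹ * m)⁻¹ = a'
      rw [← conj_conj_eq, ← hda]; group
    · rintro ⟨g, hg, rfl⟩
      refine ⟨(Subgroup.mem_normalizer_iff.1 hg a).1 ha, fun h => ha' ?_, isConj_iff.2 ⟨g, rfl⟩⟩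
      have h' : g * a * g⁻¹ ∈ Subgroup.zpowers z := h
      have e := X.mem_zpowers_conj (inv_mem hg) h'
      rw [show g⁻¹ * (g * a * g⁻¹) * g⁻¹⁻¹ = a by group] at e
      rw [e]
      exact h'
  rw [hset, card_orbit_conj]
  have hKfix : (fun g : G => g * a * g⁻¹) '' (K : Set G) =
      (fun ζ : G => a * ζ) '' (Subgroup.zpowers z : Set G) := by
    ext b
    constructor
    · rintro ⟨g, hg, rfl⟩
      have hg' : g ∈ ((P : Subgroup G) : Set G) *
          (Subgroup.centralizer ((P : Subgroup G) : Set G) : Set G) := by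
        rw [← Subgroup.coe_mul_of_right_le_normalizer_left _ _ (le_sup_right.trans X.le_normalizer)]
        exact hg
      obtain ⟨d, hd, c, hc, rfl⟩ := Set.mem_mul.1 hg'
      have hca : c * a * c⁻¹ = a := by
        rw [← Subgroup.mem_centralizer_iff.1 hc a ha, mul_inv_cancel_right]
      refine ⟨a⁻¹ * (d * a * d⁻¹), ?_, ?_⟩
      · have := X.comm a⁻¹ (inv_mem ha) d hd
        rw [inv_inv] at this
        simpa [mul_assoc] using this
      · show a * (a⁻¹ * (d * a * d⁻¹)) = d * c * a * (d * c)⁻¹
        rw [← conj_conj_eq, hca, mul_inv_cancel_left]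
    · rintro ⟨ζ, hζ, rfl⟩
      obtain ⟨d, hd, hda⟩ := X.moves ha ha' hζ
      exact ⟨d, Subgroup.mem_sup_left hd, hda⟩
  have h3 : (Subgroup.centralizer ({a} : Set G)).relIndex K = 3 := by
    rw [← card_orbit_conj, hKfix, Set.ncard_image_of_injective _ (mul_right_injective a),
      ← Nat.card_coe_set_eq]
    show Nat.card (Subgroup.zpowers z) = 3
    rw [Nat.card_zpowers, X.orderOf_z]
  have hKN : K ≤ N := X.le_normalizer
  have hCN : Subgroup.centralizer ({a} : Set G) ⊓ N ≤ K := by
    rintro g ⟨hg, hgN⟩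
    refine X.fix_coset ha ha' hgN ?_
    rw [Subgroup.mem_centralizer_singleton_iff.1 hg, mul_inv_cancel_right, inv_mul_cancel]
    exact one_mem _
  have h := Subgroup.relIndex_mul_relIndex (Subgroup.centralizer ({a} : Set G) ⊓ N) K N hCN hKN
  rw [Subgroup.inf_relIndex_right] at h
  have h' : (Subgroup.centralizer ({a} : Set G) ⊓ N).relIndex K =
      (Subgroup.centralizer ({a} : Set G)).relIndex K := by
    rw [← Subgroup.inf_relIndex_right, inf_assoc, inf_of_le_right hKN, Subgroup.inf_relIndex_right]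
  rw [← h, h', h3, mul_comm]

/-- The classes outside the centre. -/
theorem exists_reps (X : Ctx P z) {e : ℕ}
    (he : ((P : Subgroup G) ⊔ Subgroup.centralizer ((P : Subgroup G) : Set G)).relIndex
      (Subgroup.normalizer ((P : Subgroup G) : Set G)) = e) (he' : e = 2 ∨ e = 4 ∨ e = 8) :
    ∃ (n : ℕ) (x : Fin n → G), n * e = 8 ∧ Reps P z n x := by
  classical
  let A := {a : G // a ∈ (P : Subgroup G) ∧ a ∉ Subgroup.zpowers z}
  have := Fintype.ofFinite A
  let st : Setoid A := ⟨fun a b => IsConj (a : G) b,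
    ⟨fun a => IsConj.refl _, IsConj.symm, IsConj.trans⟩⟩
  have := Fintype.ofFinite (Quotient st)
  set n := Fintype.card (Quotient st)
  let qe : Quotient st ≃ Fin n := Fintype.equivFin _
  let x : Fin n → G := fun j => ((qe.symm j).out : G)
  have hAcard : Nat.card A = 24 := by
    have h1 : Nat.card A = (((P : Subgroup G) : Set G) \ (Subgroup.zpowers z : Set G)).ncard :=
      Nat.card_coe_set_eq (((P : Subgroup G) : Set G) \ (Subgroup.zpowers z : Set G))
    rw [h1, Set.ncard_diff (fun w hw => X.zpowers_le hw), ← Nat.card_coe_set_eq, ← Nat.card_coe_set_eq]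
    show Nat.card (P : Subgroup G) - Nat.card (Subgroup.zpowers z) = 24
    rw [X.card, Nat.card_zpowers, X.orderOf_z]
  have hfib : ∀ q : Quotient st, Fintype.card {a : A // Quotient.mk st a = q} = e * 3 := by
    intro q
    rw [← Nat.card_eq_fintype_card, ← he, ← X.card_class q.out.2.1 q.out.2.2, ← Nat.card_coe_set_eq]
    refine Nat.card_congr
      { toFun := fun a => ⟨a.1.1, a.1.2.1, a.1.2.2, (Quotient.exact (a.2.trans q.out_eq.symm)).symm⟩
        invFun := fun b => ⟨⟨b.1, b.2.1, b.2.2.1⟩,
          (Quotient.sound (show IsConj b.1 (q.out : G) from b.2.2.2.symm)).trans q.out_eq⟩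
        left_inv := fun a => rfl
        right_inv := fun b => rfl }
  have hne : n * e = 8 := by
    have h := Fintype.card_sigma (α := fun q : Quotient st => {a : A // Quotient.mk st a = q})
    rw [Fintype.card_congr (Equiv.sigmaFiberEquiv (Quotient.mk st)), Finset.sum_congr rfl fun q _ =>
      hfib q, Finset.sum_const, smul_eq_mul, Finset.card_univ, ← Nat.card_eq_fintype_card, hAcard] at h
    have h' : n * e * 3 = 24 := by rw [h, mul_assoc]
    omega
  refine ⟨n, x, hne, ⟨X, ?_, fun j => (qe.symm j).out.2.1, fun j => (qe.symm j).out.2.2,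
    fun j => ?_, fun j k h => ?_, fun a ha ha' => ?_⟩⟩
  · rcases he' with rfl | rfl | rfl <;> omega
  · obtain ⟨m, -, hm⟩ := X.exists_inverting (by rw [he]; rcases he' with rfl | rfl | rfl <;> norm_num)
      (qe.symm j).out.2.1 (qe.symm j).out.2.2
    exact isConj_iff.2 ⟨m, hm⟩
  · exact qe.symm.injective (Quotient.out_equiv_out.1 h)
  · refine ⟨qe (Quotient.mk st ⟨a, ha, ha'⟩), ?_⟩
    show IsConj a (((qe.symm (qe (Quotient.mk st ⟨a, ha, ha'⟩))).out : A) : G)
    rw [Equiv.symm_apply_apply]
    exact IsConj.symm (Quotient.mk_out (s := st) ⟨a, ha, ha'⟩)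

variable [Fact (Nat.Prime 3)] {n : ℕ} {x : Fin n → G}

/-- The size of the block. -/
theorem card_eq_ranks (R : Reps P z n x) (hM : IsPModular 3 M) :
    Nat.card (principalBlock M G) = blockRank 3 (principalBlock M G) +
      2 * blockRank 3 (principalBlock M (Subgroup.centralizer ({z} : Set G))) + n := by
  classical
  have := Fintype.ofFinite G
  have hzo := R.ctx.orderOf_z
  let w : Fin 3 → G := fun i => z ^ (i : ℕ)
  have hwinj : Function.Injective w := fun i k h => by
    by_contra hne
    exact R.ctx.pow_not_isConj hne (show IsConj (w i) (w k) by rw [h])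
  have hxinj : Function.Injective x := fun j k h => R.inj j k (h ▸ IsConj.refl _)
  have hwx : ∀ i j, ¬ IsConj (w i) (x j) := fun i j =>
    R.not_isConj_zpowers j (pow_mem (Subgroup.mem_zpowers z) _)
  have hdisj : Disjoint (Finset.univ.image w) (Finset.univ.image x) := Finset.disjoint_left.2 fun a ha ha' => by
    obtain ⟨i, -, rfl⟩ := Finset.mem_image.1 ha
    obtain ⟨j, -, hj⟩ := Finset.mem_image.1 ha'
    exact hwx i j (hj ▸ IsConj.refl _)
  have hxo : ∀ j, ∃ k, orderOf (x j) = 3 ^ k := fun j => ⟨1, by rw [(R.sec j).ord, pow_one]⟩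
  have hwo : ∀ i, ∃ k, orderOf (w i) = 3 ^ k := fun i => by
    by_cases hi : i = 0
    · exact ⟨0, by simp [w, hi]⟩
    · exact ⟨1, by rw [pow_one]; exact orderOf_zpow_fin hzo hi⟩
  have h := SecondMain.card_block_eq hM (BrauerPairs.isPBlock_principal (M := M) (G := G))
    (Finset.univ.image w ∪ Finset.univ.image x)
    (fun a ha => by
      rcases Finset.mem_union.1 ha with ha | ha
      · obtain ⟨i, -, rfl⟩ := Finset.mem_image.1 ha; exact hwo i
      · obtain ⟨j, -, rfl⟩ := Finset.mem_image.1 ha; exact hxo j)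
    fun g hg => by
      obtain ⟨s, hs, hgs⟩ := exists_conj_mem P hg
      by_cases hsz : s ∈ Subgroup.zpowers z
      · obtain ⟨i, rfl⟩ : ∃ i : Fin 3, w i = s := by
          rcases R.ctx.z_cases hsz with rfl | rfl | rfl
          · exact ⟨0, by simp [w]⟩
          · exact ⟨1, by simp [w]⟩
          · exact ⟨2, by
              show z ^ 2 = z⁻¹
              rw [eq_inv_iff_mul_eq_one, ← pow_succ]; exact R.ctx.exp z R.ctx.zP⟩
        refine ⟨w i, ⟨Finset.mem_union_left _ (Finset.mem_image_of_mem _ (Finset.mem_univ i)), hgs⟩,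
          fun a ⟨ha, hga⟩ => ?_⟩
        rcases Finset.mem_union.1 ha with ha | ha
        · obtain ⟨k, -, rfl⟩ := Finset.mem_image.1 ha
          by_contra hne
          exact R.ctx.pow_not_isConj (fun e : i = k => hne (by rw [e])) (hgs.symm.trans hga)
        · obtain ⟨j, -, rfl⟩ := Finset.mem_image.1 ha
          exact absurd (hgs.symm.trans hga) (hwx i j)
      · obtain ⟨j, hj⟩ := R.cover s hs hsz
        refine ⟨x j, ⟨Finset.mem_union_right _ (Finset.mem_image_of_mem _ (Finset.mem_univ j)),
          hgs.trans hj⟩, fun a ⟨ha, hga⟩ => ?_⟩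
        rcases Finset.mem_union.1 ha with ha | ha
        · obtain ⟨k, -, rfl⟩ := Finset.mem_image.1 ha
          exact absurd (hga.symm.trans (hgs.trans hj)) (hwx k j)
        · obtain ⟨k, -, rfl⟩ := Finset.mem_image.1 ha
          rw [R.inj k j (hga.symm.trans (hgs.trans hj))]
  have hrw : ∀ i : Fin 3, i ≠ 0 →
      (∑ᶠ b ∈ SecondMain.inducedSet M (Subgroup.centralizer ({w i} : Set G)) (principalBlock M G),
        blockRank 3 b) = blockRank 3 (principalBlock M (Subgroup.centralizer ({z} : Set G))) := by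
    intro i hi
    have hC : Subgroup.centralizer ({w i} : Set G) = Subgroup.centralizer ({z} : Set G) := by
      ext g
      rw [mem_centralizer_iff_pow hzo hi, Subgroup.mem_centralizer_singleton_iff]
      exact eq_comm
    rw [KleinDefect.finsum_rank_congr hC, SecondMain.inducedSet_principal hM
      (x := w i) (hwo i) (mem_centralizer_iff_pow hzo hi), finsum_mem_singleton]
  have hrx : ∀ j,
      (∑ᶠ b ∈ SecondMain.inducedSet M (Subgroup.centralizer ({x j} : Set G)) (principalBlock M G),
        blockRank 3 b) = 1 := fun j => by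
    rw [SecondMain.inducedSet_principal hM (hxo j)
      (fun _ => SecondMain.commute_iff_mem_centralizer_singleton), finsum_mem_singleton,
      BrauerPairs.blockRank_principal_of_complement hM (R.sec j).comp]
  rw [Finset.sum_union hdisj, Finset.sum_image fun a _ c _ h => hwinj h,
    Finset.sum_image fun a _ c _ h => hxinj h, Fin.sum_univ_three,
    hrw 1 (by decide), hrw 2 (by decide), Finset.sum_congr rfl fun j _ => hrx j,
    show w 0 = 1 by simp [w], KleinDefect.sum_rank_one hM BrauerPairs.isPBlock_principal] at h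
  rw [h]
  simp
  ring

set_option maxHeartbeats 1600000 in
/-- The invariants with a non-trivial inertial quotient. -/
theorem invariants (R : Reps P z n x) (hM : IsPModular 3 M) :
    Nat.card {χ : IrrCharacter G // χ ∈ principalBlock M G ∧
        blockHeight 3 (principalBlock M G) (χ : G → ℂ) = 0} = 6 ∧
      blockRank 3 (principalBlock M G) + n = 6 ∧
      Nat.card (principalBlock M G) + 2 * n = 18 := by
  classical
  have := Fintype.ofFinite (principalBlock M G)
  obtain ⟨l, hrank, hl, j₀, i₀, g, v, hv, hd, hgram, hgg, hgV, hgone, hcov⟩ := exists_global R hM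
  have hk := card_eq_ranks R hM
  rw [hrank] at hk
  let one : principalBlock M G := ⟨BrauerPairs.oneIrr G, BrauerPairs.oneIrr_mem_principal hM⟩
  have hone : ∀ j, v j one = 1 := fun j => by
    have h := hv j one
    change (1 : ℂ) = _ at h
    exact_mod_cast h.symm
  have h4 : ∀ j χ, v j χ * v j χ ≤ 4 := by
    intro j χ
    by_cases hχ : χ = one
    · rw [hχ, hone]; norm_num
    have h := hgram j j
    rw [if_pos rfl, ← Finset.add_sum_erase _ _ (Finset.mem_univ one), hone, ← Finset.add_sum_erase _ _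
      (Finset.mem_erase.2 ⟨hχ, Finset.mem_univ χ⟩)] at h
    have hpos : 0 ≤ ∑ t ∈ ((Finset.univ : Finset (principalBlock M G)).erase one).erase χ,
        v j t * v j t := Finset.sum_nonneg fun t _ => mul_self_nonneg _
    have h2 : v j χ ≤ 2 := by nlinarith
    have h3 : -2 ≤ v j χ := by nlinarith
    nlinarith
  let S : principalBlock M G → Prop := fun χ => ¬ 3 ∣ charDegree ((χ : IrrCharacter G) : G → ℂ)
  have hzero : ∀ j χ, v j χ = 0 ↔ ¬ S χ := by
    intro j χ
    simp only [S, not_not]
    constructor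
    · intro h
      have h' := hd j χ
      rw [h, sub_zero] at h'
      exact_mod_cast h'
    · intro h
      have h' : (3 : ℤ) ∣ v j χ := by
        have := dvd_sub (Int.natCast_dvd_natCast.2 h) (hd j χ)
        simpa using this
      obtain ⟨m, hm⟩ := h'
      have h2 := h4 j χ
      rw [hm] at h2 ⊢
      have : m * m = 0 := by nlinarith [mul_self_nonneg m]
      simp [mul_self_eq_zero.1 this]
  let ι := {χ : principalBlock M G // S χ}
  have hι : Nat.card {χ : IrrCharacter G // χ ∈ principalBlock M G ∧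
      blockHeight 3 (principalBlock M G) (χ : G → ℂ) = 0} = Fintype.card ι := by
    rw [← Nat.card_eq_fintype_card]
    exact Nat.card_congr
      { toFun := fun χ => ⟨⟨χ.1, χ.2.1⟩, (height_zero_iff hM χ.1).1 χ.2.2⟩
        invFun := fun χ => ⟨χ.1.1, χ.1.2, (height_zero_iff hM χ.1.1).2 χ.2⟩
        left_inv := fun χ => rfl
        right_inv := fun χ => rfl }
  have hsum : ∀ F : principalBlock M G → ℤ, (∀ χ, ¬ S χ → F χ = 0) →
      ∑ χ, F χ = ∑ χ : ι, F χ.1 := by
    intro F hF
    rw [← Finset.sum_subset (Finset.subset_univ (Finset.univ.filter S))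
      (fun χ _ h => hF χ (by simpa using h))]
    exact Finset.sum_subtype _ (by simp) _
  have hSone : S one := fun h => by
    have h0 := (hzero j₀ one).2 (by simpa [S] using h)
    rw [hone] at h0
    exact one_ne_zero h0
  let w : Fin n → ι → ℤ := fun j χ => v j χ.1
  have hwg : ∀ j k, ∑ χ : ι, w j χ * w k χ = if j = k then 9 else 0 := fun j k => by
    rw [← hgram j k, hsum (fun χ => v j χ * v k χ) fun χ h => by rw [(hzero j χ).2 h, zero_mul]]
  rw [hι]
  rcases exists_pattern R.hn w ⟨one, hSone⟩ hone (fun j χ h => (hzero j χ.1).1 h χ.2)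
      (fun j χ => h4 j χ.1) (fun j k χ => by
        have := dvd_sub (hd k χ.1) (hd j χ.1)
        simpa [w] using this) hwg with ⟨hn1, h3⟩ | ⟨hn1, h9, hsq⟩ | ⟨h6, ⟨p⟩⟩
  · -- three characters of height zero
    exfalso
    subst hn1
    obtain ⟨i, hi⟩ : ∃ i : Fin l, i ≠ i₀ := by
      obtain rfl : l = 5 := by omega
      exact exists_ne i₀
    have h := hgV (i, true) 0
    rw [if_pos (Subsingleton.elim _ _), hsum (fun χ => v 0 χ * g (i, true) χ)
      fun χ hχ => by rw [(hzero 0 χ).2 hχ, zero_mul]] at h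
    let o : ι := ⟨one, hSone⟩
    have hrest : ∑ χ ∈ (Finset.univ : Finset ι).erase o, w 0 χ * w 0 χ = 8 := by
      have := hwg 0 0
      rw [if_pos rfl, ← Finset.add_sum_erase _ _ (Finset.mem_univ o), show w 0 o = 1 from hone 0] at this
      linarith
    have htwo : ∀ χ ∈ (Finset.univ : Finset ι).erase o, (2 : ℤ) ∣ w 0 χ := by
      intro χ hχ
      rw [← Finset.add_sum_erase _ _ hχ] at hrest
      have hle := Finset.sum_le_card_nsmul (((Finset.univ : Finset ι).erase o).erase χ)
        (fun t => w 0 t * w 0 t) 4 fun t _ => h4 0 t.1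
      rw [Finset.card_erase_of_mem hχ, Finset.card_erase_of_mem (Finset.mem_univ o), Finset.card_univ,
        h3] at hle
      simp only [Nat.reduceSub, one_smul] at hle
      have hx4 : w 0 χ * w 0 χ ≤ 4 := h4 0 χ.1
      have h44 : w 0 χ * w 0 χ = 4 := by linarith
      rcases mul_self_eq_mul_self_iff.1 (h44.trans (by norm_num : (4 : ℤ) = 2 * 2)) with e | e <;>
        rw [e] <;> norm_num
    rw [← Finset.add_sum_erase _ _ (Finset.mem_univ o)] at h
    have hg0 : g (i, true) one = 0 := by rw [hgone, if_neg hi]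
    have hdvd : (2 : ℤ) ∣ ∑ χ ∈ (Finset.univ : Finset ι).erase o, v 0 χ.1 * g (i, true) χ.1 :=
      Finset.dvd_sum fun χ hχ => dvd_mul_of_dvd_left (htwo χ hχ) _
    change v 0 one * g (i, true) one + _ = (3 : ℤ) at h
    rw [hg0, mul_zero, zero_add] at h
    rw [h] at hdvd
    norm_num at hdvd
  · -- nine characters of height zero
    exfalso
    subst hn1
    obtain rfl : l = 5 := by omega
    refine false_of_nine g (v 0) (Finset.univ.filter S) ?_ (fun c hc => ?_) (fun c hc => ?_) hgg
      fun a => ?_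
    · rw [← Fintype.card_subtype]; exact h9
    · exact hsq 0 ⟨c, (Finset.mem_filter.1 hc).2⟩
    · exact (hzero 0 c).2 fun h => hc (Finset.mem_filter.2 ⟨Finset.mem_univ _, h⟩)
    · rw [hgV, if_pos (Subsingleton.elim _ _)]
  · -- six characters of height zero
    let σ : principalBlock M G → ℤ := fun c => if h : S c then p.s ⟨c, h⟩ else 1
    have hσ : ∀ c, σ c * σ c = 1 := fun c => by
      simp only [σ]; split_ifs with h
      · exact p.hs _
      · norm_num
    have hσι : ∀ c : ι, σ c.1 = p.s c := fun c => by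
      show (if h : S c.1 then p.s ⟨c.1, h⟩ else 1) = _
      rw [dif_pos c.2]
    have hss : ∀ (F F' : principalBlock M G → ℤ),
        ∑ c, σ c * F c * (σ c * F' c) = ∑ c, F c * F' c := fun F F' =>
      Finset.sum_congr rfl fun c _ => by rw [mul_mul_mul_comm, hσ, one_mul]
    let T : Finset (principalBlock M G) :=
      Finset.univ.filter fun c => S c ∧ ∀ k, (p.b k).1 ≠ c
    have hT : T.card = l := by
      have hsub : (Finset.univ.image fun k => (p.b k).1) ⊆ Finset.univ.filter S := fun c hc => by
        obtain ⟨k, -, rfl⟩ := Finset.mem_image.1 hc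
        exact Finset.mem_filter.2 ⟨Finset.mem_univ _, (p.b k).2⟩
      have hTe : T = Finset.univ.filter S \ Finset.univ.image fun k => (p.b k).1 := by
        ext c; simp [T]
      rw [hTe, Finset.card_sdiff_of_subset hsub, ← Fintype.card_subtype,
        Finset.card_image_of_injective _ (fun a b h => p.hb (Subtype.ext h)), Finset.card_univ,
        Fintype.card_fin, h6]
      omega
    have key := card_eq_of_frame R.hn hl (fun j c => σ c * v j c) (fun k => (p.b k).1) T hT
      (fun a b h => p.hb (Subtype.ext h)) (fun k h => (Finset.mem_filter.1 h).2.2 k rfl)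
      (fun j k => by rw [hσι]; exact p.hbb j k)
      (fun j t ht => by
        obtain ⟨-, hS, hne⟩ := Finset.mem_filter.1 ht
        rw [show σ t = p.s ⟨t, hS⟩ from hσι ⟨t, hS⟩]
        exact p.hT j ⟨t, hS⟩ fun k e => hne k (congrArg Subtype.val e))
      (fun j c hc hne => by
        rw [(hzero j c).2 fun hS => hc (Finset.mem_filter.2 ⟨Finset.mem_univ _, hS, hne⟩), mul_zero])
      j₀ (fun a c => σ c * g a c) (fun a b => by rw [hss, hgg]) (fun a j => by rw [hss, hgV])
      (fun c => by
        rcases hcov c with ⟨j, hj⟩ | ⟨a, ha⟩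
        · have hS : S c := not_not.1 fun h => hj ((hzero j c).2 h)
          by_cases hb : ∃ k, (p.b k).1 = c
          · exact Or.inr (Or.inl hb)
          · exact Or.inl (Finset.mem_filter.2 ⟨Finset.mem_univ _, hS, fun k e => hb ⟨k, e⟩⟩)
        · exact Or.inr (Or.inr ⟨a, mul_ne_zero (fun h => by have := hσ c; rw [h] at this; simp at this) ha⟩))
    rw [Nat.card_eq_fintype_card, key] at hk
    rw [Nat.card_eq_fintype_card, key]
    exact ⟨h6, by omega, by omega⟩

omit [Fact (Nat.Prime 3)] in
theorem card_commuting (X : Ctx P z) :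
    Nat.card {q : ↥(P : Subgroup G) × ↥(P : Subgroup G) // Commute q.1 q.2} = 11 * 27 := by
  classical
  have := Fintype.ofFinite (P : Subgroup G)
  rw [Nat.card_congr (Equiv.subtypeProdEquivSigmaSubtype fun a b : (P : Subgroup G) => Commute a b),
    Nat.card_sigma]
  have hval : ∀ a : (P : Subgroup G), Nat.card {b : (P : Subgroup G) // Commute a b} =
      9 + if (a : G) ∈ Subgroup.zpowers z then 18 else 0 := by
    intro a
    split_ifs with ha
    · rw [Nat.card_congr (Equiv.subtypeUnivEquiv (p := fun b : ↥(P : Subgroup G) => Commute a b)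
        fun b => (Subtype.ext (X.commute_zpowers ha b.2).eq : Commute a b)), X.card]
    · rw [add_zero, ← X.centralizer_inf_card a.2 ha]
      exact Nat.card_congr
        { toFun := fun b => ⟨b.1.1, b.1.2,
            Subgroup.mem_centralizer_singleton_iff.2 (congrArg Subtype.val b.2).symm⟩
          invFun := fun b => ⟨⟨b.1, b.2.1⟩,
            Subtype.ext (Subgroup.mem_centralizer_singleton_iff.1 b.2.2).symm⟩
          left_inv := fun b => rfl
          right_inv := fun b => rfl }
  rw [Finset.sum_congr rfl fun a _ => hval a, Finset.sum_add_distrib, ← Finset.sum_filter,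
    Finset.sum_const, Finset.sum_const, Finset.card_univ, ← Nat.card_eq_fintype_card, X.card,
    ← Fintype.card_subtype, ← Nat.card_eq_fintype_card,
    Nat.card_congr (Equiv.subtypeSubtypeEquivSubtype fun {w : G} (hw : w ∈ Subgroup.zpowers z) =>
      X.zpowers_le hw)]
  show 27 • 9 + Nat.card (Subgroup.zpowers z) • 18 = 11 * 27
  rw [Nat.card_zpowers, X.orderOf_z]
  norm_num

/-- The case without inertia. -/
theorem invariants_of_complement (X : Ctx P z) (hM : IsPModular 3 M)
    (h : HasNormalPComplement 3 G) :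
    Nat.card (principalBlock M G) = 11 ∧
      Nat.card {χ : IrrCharacter G // χ ∈ principalBlock M G ∧
        blockHeight 3 (principalBlock M G) (χ : G → ℂ) = 0} = 9 ∧
      blockRank 3 (principalBlock M G) = 1 := by
  classical
  have := Fintype.ofFinite G
  obtain ⟨k, hi⟩ := S4614.index_pPrimeCore Nat.prime_three h
  have : (pPrimeCore 3 G).Normal := Cores.pPrimeCore_normal 3 G
  have hk3 : k = 3 := by
    have := X.factorization_card
    rw [← (pPrimeCore 3 G).card_mul_index, Nat.factorization_mul Nat.card_pos.ne'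
      Subgroup.index_ne_zero_of_finite, Finsupp.add_apply,
      Nat.factorization_eq_zero_of_not_dvd Cores.not_dvd_card_pPrimeCore, zero_add, hi,
      Nat.prime_three.factorization_pow, Finsupp.single_eq_same] at this
    exact this
  subst hk3
  have hQ : Nat.card (G ⧸ pPrimeCore 3 G) = 27 := by
    show (pPrimeCore 3 G).index = 27
    rw [hi]; norm_num
  have hset := S0939.result 3 M hM ⟨3, hi⟩
  let π := QuotientGroup.mk' (pPrimeCore 3 G)
  have hπ : Function.Surjective π := QuotientGroup.mk'_surjective _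
  -- `P` maps onto the quotient
  let φ : (P : Subgroup G) →* G ⧸ pPrimeCore 3 G := π.comp (P : Subgroup G).subtype
  have hφinj : Function.Injective φ := by
    rw [injective_iff_map_eq_one]
    intro a ha
    have ha' : (a : G) ∈ pPrimeCore 3 G := (QuotientGroup.eq_one_iff _).1 ha
    by_contra hne
    have ho : orderOf (a : G) = 3 := orderOf_eq_prime (X.exp a a.2) fun e => hne (Subtype.ext e)
    refine Cores.not_dvd_card_pPrimeCore (p := 3) (G := G) ?_
    have hdvd := Subgroup.orderOf_dvd_natCard _ ha'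
    rwa [ho] at hdvd
  let eP : (P : Subgroup G) ≃* G ⧸ pPrimeCore 3 G := MulEquiv.ofBijective φ
    ((Nat.bijective_iff_injective_and_card φ).2 ⟨hφinj, by rw [X.card, hQ]⟩)
  have hcc : Nat.card (ConjClasses (G ⧸ pPrimeCore 3 G)) = 11 := by
    have h1 := card_comm_eq_card_conjClasses_mul_card (G ⧸ pPrimeCore 3 G)
    rw [hQ, ← Nat.card_congr ((eP.toEquiv.prodCongr eP.toEquiv).subtypeEquiv
      (p := fun q : ↥(P : Subgroup G) × ↥(P : Subgroup G) => Commute q.1 q.2)
      (q := fun q : (G ⧸ pPrimeCore 3 G) × (G ⧸ pPrimeCore 3 G) => Commute q.1 q.2) fun q => by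
        show Commute q.1 q.2 ↔ Commute (eP q.1) (eP q.2)
        exact ⟨fun hq => hq.map eP, fun hq => by simpa using hq.map eP.symm⟩),
      card_commuting X] at h1
    omega
  have hmem : ∀ ψ : IrrCharacter (G ⧸ pPrimeCore 3 G),
      (⟨_, Char.IsIrrCharacter.comp_surjective ψ.2 π hπ⟩ : IrrCharacter G) ∈ principalBlock M G := by
    intro ψ
    rw [hset]
    intro m hm
    show (ψ : G ⧸ pPrimeCore 3 G → ℂ) (π m) = (ψ : G ⧸ pPrimeCore 3 G → ℂ) (π 1)
    rw [map_one, show π m = 1 from (QuotientGroup.eq_one_iff m).2 hm]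
  let f : IrrCharacter (G ⧸ pPrimeCore 3 G) → principalBlock M G := fun ψ => ⟨_, hmem ψ⟩
  have hb : Function.Bijective f := by
    refine ⟨fun a b he => Subtype.ext (funext fun q => ?_), fun χ => ?_⟩
    · obtain ⟨g, rfl⟩ := hπ q
      exact congrFun (congrArg (fun c : principalBlock M G => ((c : IrrCharacter G) : G → ℂ)) he) g
    · have hχ := χ.2
      simp only [hset] at hχ
      obtain ⟨ψ, hψ⟩ := CentralChar.exists_deflation _ (χ : IrrCharacter G) hχ
      exact ⟨ψ, Subtype.ext (Subtype.ext (funext fun g => (hψ g).symm))⟩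
  have hk : Nat.card (principalBlock M G) = 11 := by
    rw [← Nat.card_eq_of_bijective f hb, Char.card_irr_eq_card_conjClasses, hcc]
  refine ⟨hk, ?_, BrauerPairs.blockRank_principal_of_complement hM h⟩
  -- the degrees
  have := Fintype.ofFinite (IrrCharacter (G ⧸ pPrimeCore 3 G))
  let d : IrrCharacter (G ⧸ pPrimeCore 3 G) → ℕ := fun ψ =>
    charDegree (ψ : G ⧸ pPrimeCore 3 G → ℂ)
  have hsq : ∑ ψ, d ψ ^ 2 = 27 := by
    have h1 := Char.sum_sq_degrees (G := G ⧸ pPrimeCore 3 G)
    rw [hQ] at h1
    simp only [← charDegree_cast] at h1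
    exact_mod_cast h1
  have hd : ∀ ψ, d ψ = 1 ∨ d ψ = 3 := by
    intro ψ
    have h1 : d ψ ∣ 3 ^ 3 := by
      have := charDegree_dvd_card ψ
      rw [hQ] at this
      simpa [d] using this
    obtain ⟨i, hi3, hdi⟩ := (Nat.dvd_prime_pow Nat.prime_three).1 h1
    have h2 : d ψ ^ 2 ≤ 27 :=
      hsq ▸ Finset.single_le_sum (f := fun ψ => d ψ ^ 2) (fun _ _ => Nat.zero_le _) (Finset.mem_univ ψ)
    rw [hdi] at h2 ⊢
    obtain rfl | rfl | h3 : i = 0 ∨ i = 1 ∨ 2 ≤ i := by omega
    · left; norm_num
    · right; norm_num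
    · exfalso
      have := Nat.pow_le_pow_right (show 1 ≤ 3 by norm_num) h3
      nlinarith
  have hcount : (Finset.univ.filter fun ψ => d ψ = 1).card = 9 := by
    have h1 := hsq
    rw [Finset.sum_congr rfl fun ψ _ => show d ψ ^ 2 = 1 + if d ψ = 1 then 0 else 8 by
      rcases hd ψ with e | e <;> simp [e], Finset.sum_add_distrib, Finset.sum_const, Finset.card_univ,
      Finset.sum_ite, Finset.sum_const, Finset.sum_const, ← Nat.card_eq_fintype_card,
      Char.card_irr_eq_card_conjClasses, hcc] at h1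
    have h2 := Finset.card_filter_add_card_filter_not (s := (Finset.univ : Finset (IrrCharacter (G ⧸ pPrimeCore 3 G)))) fun ψ => d ψ = 1
    rw [Finset.card_univ, ← Nat.card_eq_fintype_card, Char.card_irr_eq_card_conjClasses, hcc] at h2
    simp only [smul_eq_mul, mul_zero, zero_add] at h1
    omega
  rw [← hcount, ← Fintype.card_subtype, ← Nat.card_eq_fintype_card]
  symm
  refine Nat.card_eq_of_bijective (fun ψ => ⟨(f ψ.1).1, (f ψ.1).2, ?_⟩) ⟨?_, ?_⟩
  · rw [height_zero_iff hM]
    show ¬ 3 ∣ d ψ.1
    rw [ψ.2]; norm_num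
  · intro a b e
    exact Subtype.ext (hb.1 (Subtype.ext (congrArg (fun c : {χ : IrrCharacter G // χ ∈ principalBlock M G ∧
        blockHeight 3 (principalBlock M G) (χ : G → ℂ) = 0} => c.1) e)))
  · rintro ⟨χ, hχ, hh⟩
    obtain ⟨ψ, hψ⟩ := hb.2 ⟨χ, hχ⟩
    obtain rfl : (f ψ).1 = χ := congrArg Subtype.val hψ
    refine ⟨⟨ψ, (hd ψ).resolve_right fun e => (height_zero_iff hM _).1 hh ?_⟩, rfl⟩
    show 3 ∣ d ψ
    rw [e]

end Cfsg.Agent.Extra27
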