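import Cfsg.Agent.Lib.Blocks.Extra27.Column
import Cfsg.Agent.Lib.Blocks.Extra27.Combi
import Cfsg.Agent.Lib.SecondMain.Rank
import Cfsg.Agent.Lib.Blocks.KleinDefect
import Cfsg.Agent.S4614

/-!
# The principal block for a Sylow subgroup of order nine with even inertial action

`Nine S n x`: the `x j` represent the classes of non-trivial `3`-elements.

* `exists_values`: the integral columns and the shape of the block;
* `vanish`, `regular_zero`.
-/

set_option autoImplicit false
set_option linter.unusedSectionVars false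

open scoped ComplexConjugate

namespace Cfsg.Agent.Extra27

open Cfsg Cfsg.Agent.Blocks

universe u

variable {Q : Type u} [Group Q] [Finite Q] {M : Ideal AlgInt}

theorem exists_conj_mem [Fact (Nat.Prime 3)] (S : Sylow 3 Q) {g : Q}
    (hg : ∃ k, orderOf g = 3 ^ k) : ∃ s ∈ (S : Subgroup Q), IsConj g s := by
  obtain ⟨k, hk⟩ := hg
  obtain ⟨T, hT⟩ := (IsPGroup.of_card (n := k)
    (by rw [Nat.card_zpowers, hk] : Nat.card (Subgroup.zpowers g) = 3 ^ k)).exists_le_sylow
  obtain ⟨c, hc⟩ := MulAction.exists_smul_eq Q T S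
  refine ⟨c * g * c⁻¹, ?_, isConj_iff.2 ⟨c, rfl⟩⟩
  rw [← hc, Sylow.coe_subgroup_smul, Subgroup.mem_pointwise_smul_iff_inv_smul_mem, ← map_inv,
    MulAut.smul_def, MulAut.conj_apply]
  simpa [mul_assoc] using hT (Subgroup.mem_zpowers g)

/-- The section through a conjugate part. -/
theorem section_conj {s s' y : Q} (h : IsConj s s') (hy : ¬ 3 ∣ orderOf y) (hc : Commute s y) :
    ∃ y', ¬ 3 ∣ orderOf y' ∧ Commute s' y' ∧ IsConj (s * y) (s' * y') := by
  obtain ⟨c, rfl⟩ := isConj_iff.1 h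
  refine ⟨c * y * c⁻¹, by rwa [SecondMain.orderOf_conj], ?_, isConj_iff.2 ⟨c, conj_mul.symm⟩⟩
  show c * s * c⁻¹ * (c * y * c⁻¹) = c * y * c⁻¹ * (c * s * c⁻¹)
  rw [conj_mul, hc.eq, conj_mul]

theorem exists_section [Fact (Nat.Prime 3)] (S : Sylow 3 Q) (g : Q) :
    ∃ s ∈ (S : Subgroup Q), ∃ y, ¬ 3 ∣ orderOf y ∧ Commute s y ∧ IsConj g (s * y) := by
  obtain ⟨a, b, hab, ha, hb, hao, hbo⟩ := Transfer.exists_pPart_mul (p := 3) g
  obtain ⟨s, hs, has⟩ := exists_conj_mem S hao
  have hcom : Commute a b := by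
    obtain ⟨i, rfl⟩ := Subgroup.mem_zpowers_iff.1 ha
    obtain ⟨j, rfl⟩ := Subgroup.mem_zpowers_iff.1 hb
    exact (Commute.refl g).zpow_zpow i j
  have hb' : ¬ 3 ∣ orderOf b := (Nat.prime_three.coprime_iff_not_dvd).1 hbo.symm
  obtain ⟨y, hy, hsy, h⟩ := section_conj has hb' hcom
  exact ⟨s, hs, y, hy, hsy, hab ▸ h⟩

/-- Representatives of the non-trivial classes in a Sylow subgroup of order nine. -/
structure Nine (S : Sylow 3 Q) (n : ℕ) (x : Fin n → Q) : Prop where
  card : Nat.card (S : Subgroup Q) = 9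
  hn : n = 1 ∨ n = 2 ∨ n = 4
  mem : ∀ j, x j ∈ (S : Subgroup Q)
  sec : ∀ j, Sec (x j)
  inv : ∀ j, IsConj (x j) (x j)⁻¹
  inj : ∀ j k, IsConj (x j) (x k) → j = k
  cover : ∀ s ∈ (S : Subgroup Q), s ≠ 1 → ∃ j, IsConj s (x j)

namespace Nine

variable [Fact (Nat.Prime 3)] {S : Sylow 3 Q} {n : ℕ} {x : Fin n → Q} (D : Nine S n x)
include D

omit [Fact (Nat.Prime 3)] in
theorem ord (j : Fin n) : ∃ k, orderOf (x j) = 3 ^ k := ⟨1, by rw [(D.sec j).ord, pow_one]⟩

omit [Fact (Nat.Prime 3)] in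
theorem ne_one (j : Fin n) : x j ≠ 1 := fun h => by
  have := (D.sec j).ord; rw [h, orderOf_one] at this; omega

/-- On the singular elements the block is constant on the sections. -/
theorem exists_rep (hM : IsPModular 3 M) {g : Q} (hg : 3 ∣ orderOf g) :
    ∃ j, ∀ χ ∈ principalBlock M Q, (χ : Q → ℂ) g = (χ : Q → ℂ) (x j) := by
  obtain ⟨s, hs, y, hy, hc, h⟩ := exists_section S g
  have hs1 : s ≠ 1 := by
    rintro rfl
    obtain ⟨c, hc'⟩ := isConj_iff.1 h
    rw [one_mul] at hc'
    rw [← hc', SecondMain.orderOf_conj] at hy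
    exact hy hg
  obtain ⟨j, hj⟩ := D.cover s hs hs1
  obtain ⟨y', hy', hc', h'⟩ := section_conj hj hy hc
  exact ⟨j, fun χ hχ => by
    rw [classFunction_eq_of_isConj (irr_class χ) (h.trans h'), (D.sec j).shift hM hχ hy' hc']⟩

theorem vanish (hM : IsPModular 3 M) [Fintype (principalBlock M Q)]
    {v : Fin n → principalBlock M Q → ℤ}
    (hv : ∀ j (ξ : principalBlock M Q), ((ξ : IrrCharacter Q) : Q → ℂ) (x j) = v j ξ)
    {a : principalBlock M Q → ℤ} (ha : ∀ j, ∑ ξ, a ξ * v j ξ = 0) {g : Q} (hg : 3 ∣ orderOf g) :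
    ∑ ξ, (a ξ : ℂ) * ((ξ : IrrCharacter Q) : Q → ℂ) g = 0 := by
  obtain ⟨j, hj⟩ := D.exists_rep hM hg
  rw [Finset.sum_congr rfl fun ξ _ => by rw [hj _ ξ.2, hv j ξ]]
  exact_mod_cast ha j

omit [Fact (Nat.Prime 3)] in
theorem regular_zero (hM : IsPModular 3 M) [Fintype (principalBlock M Q)]
    {v : Fin n → principalBlock M Q → ℤ}
    (hv : ∀ j (ξ : principalBlock M Q), ((ξ : IrrCharacter Q) : Q → ℂ) (x j) = v j ξ)
    (j : Fin n) {y : Q} (hy : ¬ 3 ∣ orderOf y) :
    ∑ ξ, (v j ξ : ℂ) * ((ξ : IrrCharacter Q) : Q → ℂ) y = 0 := by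
  have h := weak_orth hM (blockInd_mem_intRing hM BrauerPairs.isPBlock_principal)
    (A := principalBlock M Q) (x := y) (y := x j) hy (by rw [(D.sec j).ord])
  rw [← finsum_set_coe_eq_finsum_mem, finsum_eq_sum_of_fintype] at h
  rw [← h]
  exact Finset.sum_congr rfl fun ξ _ => by rw [hv j ξ, map_intCast, mul_comm]

theorem exists_values (hM : IsPModular 3 M) [Fintype (principalBlock M Q)] :
    ∃ v : Fin n → principalBlock M Q → ℤ,
      (∀ j (ξ : principalBlock M Q), ((ξ : IrrCharacter Q) : Q → ℂ) (x j) = v j ξ) ∧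
      (∀ j k, ∑ ξ, v j ξ * v k ξ = if j = k then 9 else 0) ∧
      ((n = 1 ∧ Fintype.card (principalBlock M Q) = 9 ∧ (∀ j ξ, v j ξ * v j ξ = 1) ∧
          blockRank 3 (principalBlock M Q) = 8) ∨
        (Fintype.card (principalBlock M Q) = 6 ∧ Nonempty (Pattern v) ∧
          blockRank 3 (principalBlock M Q) + n = 6)) := by
  classical
  have := Fintype.ofFinite Q
  have hB : IsPBlock M (principalBlock M Q) := BrauerPairs.isPBlock_principal
  have hx := fun j (χ : IrrCharacter Q) => (D.sec j).inv_apply (D.inv j) χ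
  choose w hw hwd using hx
  let v : Fin n → (principalBlock M Q) → ℤ := fun j ξ => w j ξ
  have hv : ∀ j (ξ : (principalBlock M Q)), ((ξ : IrrCharacter Q) : Q → ℂ) (x j) = v j ξ := fun j ξ => hw j ξ
  have hgram : ∀ j k, ∑ ξ, v j ξ * v k ξ = if j = k then 9 else 0 := by
    intro j k
    have h : SecondMain.colSum (principalBlock M Q) (x j) (x k) = if j = k then (9 : ℂ) else 0 := by
      split_ifs with hjk
      · rw [hjk]; exact (D.sec k).colSum_self hM
      · have h := SecondMain.colSum_eq_zero hM hB (y := 1) (y' := 1) (D.ord j) (D.ord k)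
          (by simp) (by simp) (Commute.one_right _) (Commute.one_right _) fun h => hjk (D.inj j k h)
        rwa [mul_one, mul_one] at h
    rw [SecondMain.colSum, ← finsum_set_coe_eq_finsum_mem, finsum_eq_sum_of_fintype] at h
    simp only [hv, map_intCast] at h
    exact_mod_cast h
  let i₀ : (principalBlock M Q) := ⟨BrauerPairs.oneIrr Q, BrauerPairs.oneIrr_mem_principal hM⟩
  have h1 : ∀ j, v j i₀ = 1 := fun j => by
    have h := hv j i₀
    rw [show ((i₀ : IrrCharacter Q) : Q → ℂ) (x j) = 1 from rfl] at h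
    exact_mod_cast h.symm
  have h4 : ∀ j ξ, v j ξ * v j ξ ≤ 4 := by
    intro j ξ
    by_cases hξ : ξ = i₀
    · rw [hξ, h1]; norm_num
    have h := hgram j j
    rw [if_pos rfl, ← Finset.add_sum_erase _ _ (Finset.mem_univ i₀), h1, ← Finset.add_sum_erase _ _
      (Finset.mem_erase.2 ⟨hξ, Finset.mem_univ ξ⟩)] at h
    have hpos : 0 ≤ ∑ t ∈ ((Finset.univ : Finset (principalBlock M Q)).erase i₀).erase ξ, v j t * v j t :=
      Finset.sum_nonneg fun t _ => mul_self_nonneg _
    have h2 : v j ξ ≤ 2 := by nlinarith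
    have h3 : -2 ≤ v j ξ := by nlinarith
    nlinarith
  have hcong : ∀ j k ξ, (3 : ℤ) ∣ v j ξ - v k ξ := fun j k ξ => by
    have := dvd_sub (hwd k ξ) (hwd j ξ)
    simpa [v] using this
  have hne : ∀ j ξ, v j ξ ≠ 0 := by
    intro j ξ h0
    have hall : ∀ k, v k ξ = 0 := by
      intro k
      have h := hcong k j ξ
      rw [h0, sub_zero] at h
      have h' := h4 k ξ
      obtain ⟨m, hm⟩ := h
      rw [hm] at h' ⊢
      have : m * m = 0 := by nlinarith [mul_self_nonneg m]
      simp [mul_self_eq_zero.1 this]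
    obtain ⟨y, hy, hy0⟩ := exists_singular_ne_zero hM ξ.2 (g := x j) (by rw [(D.sec j).ord])
    obtain ⟨k, hk⟩ := D.exists_rep hM hy
    exact hy0 (by rw [hk _ ξ.2, hv, hall k, Int.cast_zero])
  have hcount : Fintype.card (principalBlock M Q) = blockRank 3 (principalBlock M Q) + n := by
    have hinj : Function.Injective x := fun j k h => D.inj j k (h ▸ IsConj.refl _)
    have hone : (1 : Q) ∉ Finset.univ.image x := by
      simp only [Finset.mem_image, Finset.mem_univ, true_and, not_exists]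
      exact D.ne_one
    have h := SecondMain.card_block_eq hM hB (insert 1 (Finset.univ.image x))
      (fun a ha => by
        rcases Finset.mem_insert.1 ha with rfl | ha
        · exact ⟨0, by simp⟩
        · obtain ⟨j, -, rfl⟩ := Finset.mem_image.1 ha
          exact D.ord j) fun g hg => by
        obtain ⟨s, hs, hgs⟩ := exists_conj_mem S hg
        by_cases hs1 : s = 1
        · subst hs1
          refine ⟨1, ⟨Finset.mem_insert_self _ _, hgs⟩, fun a ⟨ha, hga⟩ => ?_⟩
          exact isConj_one_right.1 (hgs.symm.trans hga)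
        · obtain ⟨j, hj⟩ := D.cover s hs hs1
          refine ⟨x j, ⟨Finset.mem_insert_of_mem (Finset.mem_image_of_mem _ (Finset.mem_univ j)),
            hgs.trans hj⟩, fun a ⟨ha, hga⟩ => ?_⟩
          have hc : IsConj a (x j) := hga.symm.trans (hgs.trans hj)
          rcases Finset.mem_insert.1 ha with rfl | ha
          · exact absurd (isConj_one_right.1 hc) (D.ne_one j)
          · obtain ⟨k, -, rfl⟩ := Finset.mem_image.1 ha
            rw [D.inj k j hc]
    rw [← Nat.card_eq_fintype_card, h, Finset.sum_insert hone, KleinDefect.sum_rank_one hM hB,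
      Finset.sum_image fun a _ c _ h => hinj h]
    congr 1
    rw [Finset.sum_congr rfl fun j _ => by
      rw [SecondMain.inducedSet_principal hM (D.ord j)
        (fun _ => SecondMain.commute_iff_mem_centralizer_singleton), finsum_mem_singleton,
        BrauerPairs.blockRank_principal_of_complement hM (D.sec j).comp]]
    simp
  refine ⟨v, hv, hgram, ?_⟩
  rcases exists_pattern D.hn v i₀ h1 hne h4 hcong hgram with ⟨-, h3⟩ | ⟨hn1, h9, hsq⟩ | ⟨h6, hp⟩
  · exfalso
    have := S4614.result 3 M hM (by rw [Nat.card_eq_fintype_card, h3]) S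
    rw [D.card] at this
    omega
  · exact Or.inl ⟨hn1, h9, hsq, by omega⟩
  · exact Or.inr ⟨h6, hp, by omega⟩

end Nine

end Cfsg.Agent.Extra27
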