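import Cfsg.Agent.Lib.Blocks.Extra27.Group
import Cfsg.Agent.Lib.Blocks.Extra27.Nine

/-!
# Representatives outside the centre, and the quotient by the centre

`Reps P z n x`: the `x j` represent the classes meeting `P` outside `⟨z⟩`.

* `Reps.sec`; `Reps.nine`: the data of the quotient by a central `⟨z⟩`.
-/

set_option autoImplicit false
set_option linter.unusedSectionVars false

namespace Cfsg.Agent.Extra27

open Cfsg

universe u

variable {C : Type u} [Group C] [Finite C] {P : Sylow 3 C} {z : C}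

theorem Ctx.sec (X : Ctx P z) {a : C} (ha : a ∈ (P : Subgroup C)) (ha' : a ∉ Subgroup.zpowers z) :
    Sec a :=
  ⟨(X.centralizer_part ha ha').1, X.complement ha ha',
    orderOf_eq_prime (X.exp a ha) fun h => ha' (h ▸ one_mem _)⟩

/-- Representatives of the classes outside the centre. -/
structure Reps (P : Sylow 3 C) (z : C) (n : ℕ) (x : Fin n → C) : Prop where
  ctx : Ctx P z
  hn : n = 1 ∨ n = 2 ∨ n = 4
  mem : ∀ j, x j ∈ (P : Subgroup C)
  notMem : ∀ j, x j ∉ Subgroup.zpowers z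
  inv : ∀ j, IsConj (x j) (x j)⁻¹
  inj : ∀ j k, IsConj (x j) (x k) → j = k
  cover : ∀ a ∈ (P : Subgroup C), a ∉ Subgroup.zpowers z → ∃ j, IsConj a (x j)

theorem Ctx.factorization_card (X : Ctx P z) : (Nat.card C).factorization 3 = 3 := by
  have := P.card_eq_multiplicity
  rw [X.card] at this
  exact Nat.pow_right_injective (show 2 ≤ 3 by norm_num)
    (this.symm.trans (by norm_num : (27 : ℕ) = 3 ^ 3))

namespace Ctx

variable (X : Ctx P z) (hz : ∀ c, Commute z c)
include X hz

theorem conj_zpowers {ζ : C} (h : ζ ∈ Subgroup.zpowers z) (c : C) : c * ζ * c⁻¹ = ζ := by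
  obtain ⟨i, rfl⟩ := Subgroup.mem_zpowers_iff.1 h
  rw [← ((hz c).zpow_left i).eq, mul_inv_cancel_right]

/-- The order of the stabiliser of a coset. -/
theorem card_cosetStab {a : C} (ha : a ∈ (P : Subgroup C)) (ha' : a ∉ Subgroup.zpowers z) :
    Nat.card (cosetStab z a) = 3 * Nat.card (Subgroup.centralizer ({a} : Set C)) := by
  classical
  let φ : cosetStab z a →* Subgroup.zpowers z := MonoidHom.mk'
    (fun c => ⟨a⁻¹ * ((c : C) * a * (c : C)⁻¹), c.2.2⟩) fun c d => Subtype.ext (by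
      show a⁻¹ * ((c : C) * d * a * ((c : C) * d)⁻¹) =
        a⁻¹ * ((c : C) * a * (c : C)⁻¹) * (a⁻¹ * ((d : C) * a * (d : C)⁻¹))
      rw [show a⁻¹ * ((c : C) * d * a * ((c : C) * d)⁻¹) = a⁻¹ * ((c : C) * a * (c : C)⁻¹) *
          ((c : C) * (a⁻¹ * ((d : C) * a * (d : C)⁻¹)) * (c : C)⁻¹) by group,
        X.conj_zpowers hz d.2.2 c])
  have hsurj : Function.Surjective φ := fun ζ => by
    obtain ⟨b, hb, hba⟩ := X.moves ha ha' ζ.2
    refine ⟨⟨b, by rw [← (hz b).eq, mul_inv_cancel_right], ?_⟩, Subtype.ext ?_⟩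
    · rw [hba, inv_mul_cancel_left]; exact ζ.2
    · show a⁻¹ * (b * a * b⁻¹) = ζ
      rw [hba, inv_mul_cancel_left]
  have hle : Subgroup.centralizer ({a} : Set C) ≤ cosetStab z a := fun c hc =>
    ⟨by rw [← (hz c).eq, mul_inv_cancel_right], by
      rw [Subgroup.mem_centralizer_singleton_iff.1 hc, mul_inv_cancel_right, inv_mul_cancel]
      exact one_mem _⟩
  have hker : φ.ker = (Subgroup.centralizer ({a} : Set C)).subgroupOf (cosetStab z a) := by
    ext c
    rw [MonoidHom.mem_ker, Subgroup.mem_subgroupOf, Subgroup.mem_centralizer_singleton_iff,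
      Subtype.ext_iff]
    show a⁻¹ * ((c : C) * a * (c : C)⁻¹) = 1 ↔ _
    rw [inv_mul_eq_one, eq_comm, mul_inv_eq_iff_eq_mul]
  rw [← φ.ker.card_mul_index, Subgroup.index_ker, MonoidHom.range_eq_top.2 hsurj, Subgroup.card_top,
    Nat.card_zpowers, X.orderOf_z, hker, Nat.card_congr (Subgroup.subgroupOfEquivOfLe hle).toEquiv,
    mul_comm]

variable [(Subgroup.zpowers z).Normal]

theorem mem_of_mk {c : C}
    (h : (c : C ⧸ Subgroup.zpowers z) ∈ (P : Subgroup C).map (QuotientGroup.mk' (Subgroup.zpowers z))) :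
    c ∈ (P : Subgroup C) := by
  obtain ⟨b, hb, hbc⟩ := h
  have := mul_mem hb (X.zpowers_le (QuotientGroup.eq.1 hbc))
  rwa [mul_inv_cancel_left] at this

/-- The centraliser in the quotient. -/
theorem quot_centralizer {a : C} (ha : a ∈ (P : Subgroup C)) (ha' : a ∉ Subgroup.zpowers z) :
    Nat.card (Subgroup.centralizer ({(a : C ⧸ Subgroup.zpowers z)} : Set (C ⧸ Subgroup.zpowers z))) =
      Nat.card (Subgroup.centralizer ({a} : Set C)) := by
  classical
  set K := Subgroup.centralizer ({(a : C ⧸ Subgroup.zpowers z)} : Set (C ⧸ Subgroup.zpowers z))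
  have hK : ∀ c : C, (c : C ⧸ Subgroup.zpowers z) ∈ K ↔ c ∈ cosetStab z a := by
    intro c
    rw [Subgroup.mem_centralizer_singleton_iff, ← QuotientGroup.mk_mul, ← QuotientGroup.mk_mul,
      eq_comm, QuotientGroup.eq]
    have e : (a * c)⁻¹ * (c * a) = c⁻¹ * (a⁻¹ * (c * a * c⁻¹)) * c := by group
    rw [e]
    constructor
    · intro h
      refine ⟨by rw [← (hz c).eq, mul_inv_cancel_right], ?_⟩
      have h2 := X.conj_zpowers hz h c
      rw [show c * (c⁻¹ * (a⁻¹ * (c * a * c⁻¹)) * c) * c⁻¹ = a⁻¹ * (c * a * c⁻¹) by group] at h2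
      exact h2 ▸ h
    · intro h
      have h2 := X.conj_zpowers hz h.2 c⁻¹
      rw [inv_inv] at h2
      rw [h2]
      exact h.2
  let ψ : cosetStab z a →* K :=
    ((QuotientGroup.mk' (Subgroup.zpowers z)).comp (cosetStab z a).subtype).codRestrict K
      fun c => (hK c).2 c.2
  have hsurj : Function.Surjective ψ := by
    rintro ⟨q, hq⟩
    obtain ⟨c, rfl⟩ := QuotientGroup.mk_surjective q
    exact ⟨⟨c, (hK c).1 hq⟩, rfl⟩
  have hle : Subgroup.zpowers z ≤ cosetStab z a := fun ζ hζ => (hK ζ).1 (by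
    rw [(QuotientGroup.eq_one_iff ζ).2 hζ]; exact one_mem _)
  have hker : ψ.ker = (Subgroup.zpowers z).subgroupOf (cosetStab z a) := by
    ext c
    rw [MonoidHom.mem_ker, Subgroup.mem_subgroupOf, ← QuotientGroup.eq_one_iff, Subtype.ext_iff]
    rfl
  have h := ψ.ker.card_mul_index
  rw [Subgroup.index_ker, MonoidHom.range_eq_top.2 hsurj, Subgroup.card_top, hker,
    Nat.card_congr (Subgroup.subgroupOfEquivOfLe hle).toEquiv, Nat.card_zpowers, X.orderOf_z,
    X.card_cosetStab hz ha ha'] at h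
  omega

/-- The quotient satisfies the hypotheses on centralisers. -/
theorem quot_sec {a : C} (ha : a ∈ (P : Subgroup C)) (ha' : a ∉ Subgroup.zpowers z) :
    Sec (a : C ⧸ Subgroup.zpowers z) := by
  classical
  set π := QuotientGroup.mk' (Subgroup.zpowers z) with hπdef
  set S : Sylow 3 (C ⧸ Subgroup.zpowers z) :=
    P.mapSurjective (f := π) (QuotientGroup.mk'_surjective _) with hS
  have hne : (a : C ⧸ Subgroup.zpowers z) ≠ 1 := fun h => ha' ((QuotientGroup.eq_one_iff a).1 h)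
  refine ⟨by rw [X.quot_centralizer hz ha ha']; exact (X.centralizer_part ha ha').1, ?_,
    orderOf_eq_prime (by rw [← QuotientGroup.mk_pow, X.exp a ha, QuotientGroup.mk_one]) hne⟩
  have hScoe : (S : Subgroup _) = (P : Subgroup C).map π := rfl
  have hcomm : ∀ b ∈ (P : Subgroup C), ∀ c ∈ (P : Subgroup C), Commute (π b) (π c) := by
    intro b hb c hc
    show π b * π c = π c * π b
    rw [← map_mul, ← map_mul]
    refine QuotientGroup.eq.2 ?_
    have := X.comm c⁻¹ (inv_mem hc) b⁻¹ (inv_mem hb)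
    rw [inv_inv, inv_inv] at this
    have h2 := inv_mem this
    rw [show (b * c)⁻¹ * (c * b) = c⁻¹ * b⁻¹ * c * b by group]
    exact this
  have hSle : (S : Subgroup _) ≤
      Subgroup.centralizer ({(a : C ⧸ Subgroup.zpowers z)} : Set (C ⧸ Subgroup.zpowers z)) := by
    rw [hScoe]
    rintro _ ⟨b, hb, rfl⟩
    exact Subgroup.mem_centralizer_singleton_iff.2 (hcomm b hb a ha).eq
  refine ⟨S.subtype hSle, _, inferInstance, MonoidHom.ker_transferSylow_isComplement' _ fun q hq => ?_⟩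
  obtain ⟨c, hc⟩ := QuotientGroup.mk'_surjective (Subgroup.zpowers z) (q : C ⧸ Subgroup.zpowers z)
  have hmem : ∀ w, w ∈ (P : Subgroup C).map π ↔ ∃ hw, (⟨w, hw⟩ : Subgroup.centralizer
      ({(a : C ⧸ Subgroup.zpowers z)} : Set (C ⧸ Subgroup.zpowers z))) ∈
        ((S.subtype hSle : Sylow 3 _) : Subgroup _) :=
    fun w => ⟨fun h => ⟨hSle h, h⟩, fun ⟨_, h⟩ => h⟩
  have hcn : c ∈ Subgroup.normalizer ((P : Subgroup C) : Set C) := by
    refine Subgroup.mem_normalizer_iff.2 fun b => ?_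
    have hqb : π (c * b * c⁻¹) = (q : C ⧸ Subgroup.zpowers z) * π b * (q : C ⧸ Subgroup.zpowers z)⁻¹ := by
      rw [map_mul, map_mul, map_inv, hc]
    constructor
    · intro hb
      obtain ⟨hw, h⟩ := (hmem (π b)).1 (Subgroup.mem_map_of_mem π hb)
      refine X.mem_of_mk hz ?_
      show π (c * b * c⁻¹) ∈ _
      rw [hqb]
      exact (hmem _).2 ⟨mul_mem (mul_mem q.2 hw) (inv_mem q.2), (Subgroup.mem_normalizer_iff.1 hq _).1 h⟩
    · intro hb
      obtain ⟨hw, h⟩ := (hmem (π (c * b * c⁻¹))).1 (Subgroup.mem_map_of_mem π hb)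
      refine X.mem_of_mk hz ?_
      show π b ∈ _
      have hb' : π b ∈ Subgroup.centralizer ({(a : C ⧸ Subgroup.zpowers z)} : Set (C ⧸ Subgroup.zpowers z)) := by
        have := mul_mem (mul_mem (inv_mem q.2) hw) q.2
        rw [hqb] at this
        simpa [mul_assoc] using this
      refine (hmem _).2 ⟨hb', (Subgroup.mem_normalizer_iff.1 hq ⟨π b, hb'⟩).2 ?_⟩
      convert h using 1
      exact Subtype.ext hqb.symm
  have hac : a⁻¹ * (c * a * c⁻¹) ∈ Subgroup.zpowers z := by
    rw [← QuotientGroup.eq_one_iff]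
    show π (a⁻¹ * (c * a * c⁻¹)) = 1
    rw [map_mul, map_mul, map_mul, map_inv, map_inv, hc,
      show (q : C ⧸ Subgroup.zpowers z) * π a = π a * (q : C ⧸ Subgroup.zpowers z) from
        Subgroup.mem_centralizer_singleton_iff.1 q.2]
    show (π a)⁻¹ * (π a * (q : C ⧸ Subgroup.zpowers z) * (q : C ⧸ Subgroup.zpowers z)⁻¹) = 1
    group
  have hcK := X.fix_coset ha ha' hcn hac
  have hle : (P : Subgroup C) ⊔ Subgroup.centralizer ((P : Subgroup C) : Set C) ≤
      (Subgroup.centralizer (((P : Subgroup C).map π : Subgroup _) : Set (C ⧸ Subgroup.zpowers z))).comap π := by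
    refine sup_le (fun b hb => ?_) fun b hb => ?_ <;> refine Subgroup.mem_centralizer_iff.2 ?_ <;>
      rintro _ ⟨d, hd, rfl⟩
    · exact (hcomm d hd b hb).eq
    · rw [← map_mul, ← map_mul, Subgroup.mem_centralizer_iff.1 hb d hd]
  rw [Subgroup.mem_centralizer_iff]
  intro w hw
  refine Subtype.ext ?_
  have h := Subgroup.mem_centralizer_iff.1 (hle hcK) (w : C ⧸ Subgroup.zpowers z) ((hmem _).2 ⟨w.2, hw⟩)
  rw [hc] at h
  exact h

end Ctx

namespace Reps

variable {n : ℕ} {x : Fin n → C} (R : Reps P z n x)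
include R

theorem sec (j : Fin n) : Sec (x j) := R.ctx.sec (R.mem j) (R.notMem j)

theorem nine (hz : ∀ c, Commute z c) [(Subgroup.zpowers z).Normal] :
    Nine (P.mapSurjective (f := QuotientGroup.mk' (Subgroup.zpowers z)) (QuotientGroup.mk'_surjective _))
      n (fun j => (x j : C ⧸ Subgroup.zpowers z)) where
  card := by
    have hfac := R.ctx.factorization_card
    rw [← Subgroup.card_mul_index (Subgroup.zpowers z), Nat.factorization_mul Nat.card_pos.ne'
      Subgroup.index_ne_zero_of_finite, Finsupp.add_apply, Nat.card_zpowers, R.ctx.orderOf_z,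
      Nat.Prime.factorization_self Nat.prime_three] at hfac
    rw [Sylow.card_eq_multiplicity]
    show 3 ^ (Subgroup.zpowers z).index.factorization 3 = 9
    rw [show (Subgroup.zpowers z).index.factorization 3 = 2 by omega]
    norm_num
  hn := R.hn
  mem j := Subgroup.mem_map_of_mem _ (R.mem j)
  sec j := R.ctx.quot_sec hz (R.mem j) (R.notMem j)
  inv j := by
    rw [← QuotientGroup.mk_inv]
    exact (QuotientGroup.mk' (Subgroup.zpowers z)).map_isConj (R.inv j)
  inj j k h := by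
    obtain ⟨q, hq⟩ := isConj_iff.1 h
    obtain ⟨c, rfl⟩ := QuotientGroup.mk_surjective q
    rw [← QuotientGroup.mk_inv, ← QuotientGroup.mk_mul, ← QuotientGroup.mk_mul, eq_comm,
      QuotientGroup.eq] at hq
    obtain ⟨b, -, hbk⟩ := R.ctx.moves (R.mem k) (R.notMem k) hq
    rw [mul_inv_cancel_left] at hbk
    exact R.inj j k ((isConj_iff.2 ⟨c, rfl⟩).trans (isConj_iff.2 ⟨b, hbk⟩).symm)
  cover s hs hs1 := by
    obtain ⟨a, ha, rfl⟩ := hs
    obtain ⟨j, hj⟩ := R.cover a ha fun h => hs1 ((QuotientGroup.eq_one_iff a).2 h)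
    exact ⟨j, (QuotientGroup.mk' (Subgroup.zpowers z)).map_isConj hj⟩

end Reps

end Cfsg.Agent.Extra27
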