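import Cfsg.Agent.Lib.Blocks.Extra27.Frame

/-!
# From the centraliser of `z` to the group

* `Ctx.ctxC`, `Reps.repsC`: the hypotheses in `C(z)`;
* `colSum_eq`: singular columns of the principal blocks agree;
* `exists_global`: the integral vectors on the principal block of the group.
-/

set_option autoImplicit false
set_option linter.unusedSectionVars false
set_option maxHeartbeats 800000

open scoped ComplexConjugate

namespace Cfsg.Agent.Extra27

open Cfsg Cfsg.Agent.Blocks

universe u

variable {G : Type u} [Group G] [Finite G] {P : Sylow 3 G} {z : G} {M : Ideal AlgInt}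

theorem Ctx.le_centralizer (X : Ctx P z) :
    (P : Subgroup G) ≤ Subgroup.centralizer ({z} : Set G) := fun b hb =>
  Subgroup.mem_centralizer_singleton_iff.2 (X.central b hb).eq.symm

/-- `z` in its centraliser. -/
def zC (z : G) : Subgroup.centralizer ({z} : Set G) :=
  ⟨z, Subgroup.mem_centralizer_singleton_iff.2 rfl⟩

theorem commute_zC (c : Subgroup.centralizer ({z} : Set G)) : Commute (zC z) c :=
  Subtype.ext (Subgroup.mem_centralizer_singleton_iff.1 c.2).symm

theorem mem_zpowers_zC {c : Subgroup.centralizer ({z} : Set G)} :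
    c ∈ Subgroup.zpowers (zC z) ↔ (c : G) ∈ Subgroup.zpowers z := by
  simp only [Subgroup.mem_zpowers_iff]
  refine exists_congr fun k => ?_
  rw [Subtype.ext_iff, Subgroup.coe_zpow]
  rfl

theorem Ctx.ctxC (X : Ctx P z) : Ctx (P.subtype X.le_centralizer) (zC z) where
  card := by
    rw [Sylow.coe_subtype, Nat.card_congr (Subgroup.subgroupOfEquivOfLe X.le_centralizer).toEquiv, X.card]
  exp a ha := Subtype.ext (X.exp a ha)
  zP := X.zP
  z1 h := X.z1 (congrArg Subtype.val h)
  central a _ := commute_zC a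
  center a ha h := mem_zpowers_zC.2 (X.center a ha fun b hb =>
    congrArg Subtype.val (h ⟨b, X.le_centralizer hb⟩ hb))
  comm a ha b hb := mem_zpowers_zC.2 (X.comm a ha b hb)
  norm g _ := by rw [← (commute_zC g).eq, mul_inv_cancel_right]

/-- Classes in the centraliser. -/
theorem Ctx.isConj_centralizer (X : Ctx P z) {a a' : G} (ha : a ∈ (P : Subgroup G))
    (ha' : a ∉ Subgroup.zpowers z) (hb : a' ∈ (P : Subgroup G)) (hb' : a' ∉ Subgroup.zpowers z)
    (h : IsConj a a') : IsConj (⟨a, X.le_centralizer ha⟩ : Subgroup.centralizer ({z} : Set G))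
      ⟨a', X.le_centralizer hb⟩ := by
  obtain ⟨g, hg, hga⟩ := X.conj_in_centralizer ha ha' hb hb' h
  exact isConj_iff.2 ⟨⟨g, hg⟩, Subtype.ext hga⟩

variable {n : ℕ} {x : Fin n → G}

/-- The representatives in the centraliser. -/
def Reps.xC (R : Reps P z n x) (j : Fin n) : Subgroup.centralizer ({z} : Set G) :=
  ⟨x j, R.ctx.le_centralizer (R.mem j)⟩

theorem Reps.repsC (R : Reps P z n x) :
    Reps (P.subtype R.ctx.le_centralizer) (zC z) n R.xC where
  ctx := R.ctx.ctxC
  hn := R.hn
  mem j := R.mem j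
  notMem j h := R.notMem j (mem_zpowers_zC.1 h)
  inv j := by
    have h := R.ctx.isConj_centralizer (R.mem j) (R.notMem j) (inv_mem (R.mem j))
      (fun h => R.notMem j (inv_mem_iff.1 h)) (R.inv j)
    exact h
  inj j k h := R.inj j k ((Subgroup.centralizer ({z} : Set G)).subtype.map_isConj h)
  cover a ha ha' := by
    obtain ⟨j, hj⟩ := R.cover a ha fun h => ha' (mem_zpowers_zC.2 h)
    exact ⟨j, R.ctx.isConj_centralizer ha (fun h => ha' (mem_zpowers_zC.2 h)) (R.mem j) (R.notMem j) hj⟩

theorem Reps.not_isConj_zpowers (R : Reps P z n x) (j : Fin n) {ζ : G} (hζ : ζ ∈ Subgroup.zpowers z) :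
    ¬ IsConj ζ (x j) := by
  intro h
  obtain ⟨g, hg⟩ := isConj_iff.1 h
  obtain ⟨k, rfl⟩ := Subgroup.mem_zpowers_iff.1 hζ
  refine R.notMem j ?_
  rw [← hg, ← conj_zpow]
  refine zpow_mem ?_ k
  rcases R.ctx.z_cases (Subgroup.zpow_mem _ (Subgroup.mem_zpowers z) k) with h1 | h1 | h1
  · exfalso
    rw [h1, mul_one, mul_inv_cancel] at hg
    exact R.notMem j (hg ▸ one_mem _)
  · rw [R.ctx.weakly_closed (g := g) (by rw [← h1, hg]; exact R.mem j)]
    exact Subgroup.mem_zpowers z
  · rw [R.ctx.weakly_closed (g := g) (by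
      have := inv_mem (R.mem j); rw [← hg, h1] at this; simpa [mul_assoc] using this)]
    exact Subgroup.mem_zpowers z

theorem Ctx.pow_not_isConj (X : Ctx P z) {i k : Fin 3} (h : i ≠ k) :
    ¬ IsConj (z ^ (i : ℕ)) (z ^ (k : ℕ)) := by
  intro hc
  obtain ⟨g, hg⟩ := isConj_iff.1 hc
  have hfix : g * z ^ (i : ℕ) * g⁻¹ = z ^ (i : ℕ) := by
    rcases X.z_cases (pow_mem (Subgroup.mem_zpowers z) (i : ℕ)) with h1 | h1 | h1 <;> rw [h1] at hg ⊢
    · simp
    · exact X.weakly_closed (g := g) (by rw [hg]; exact pow_mem X.zP _)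
    · have h2 := X.weakly_closed (g := g) (by
        have := inv_mem (pow_mem X.zP (k : ℕ)); rw [← hg] at this; simpa [mul_assoc] using this)
      conv_rhs => rw [← h2]
      group
  rw [hfix] at hg
  rw [pow_inj_mod, X.orderOf_z, Nat.mod_eq_of_lt i.2, Nat.mod_eq_of_lt k.2] at hg
  exact h (Fin.ext hg)

theorem orderOf_zpow_fin (hzo : orderOf z = 3) {i : Fin 3} (hi : i ≠ 0) :
    orderOf (z ^ (i : ℕ)) = 3 := by
  refine orderOf_eq_prime (by
    rw [← pow_mul, mul_comm, pow_mul, show z ^ 3 = 1 from hzo ▸ pow_orderOf_eq_one z, one_pow]) ?_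
  intro h
  have h' := Nat.le_of_dvd (Nat.pos_of_ne_zero fun h0 => hi (Fin.ext h0)) (hzo ▸ orderOf_dvd_of_pow_eq_one h)
  omega

theorem mem_centralizer_iff_pow (hzo : orderOf z = 3) {i : Fin 3} (hi : i ≠ 0) (g : G) :
    g ∈ Subgroup.centralizer ({z} : Set G) ↔ Commute (z ^ (i : ℕ)) g := by
  constructor
  · intro hg
    exact Commute.pow_left (show Commute z g from (Subgroup.mem_centralizer_singleton_iff.1 hg).symm) _
  · intro hg
    refine Subgroup.mem_centralizer_singleton_iff.2 ?_
    obtain rfl | rfl : i = 1 ∨ i = 2 := by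
      clear hg
      revert hi; revert i; decide
    · simpa using hg.eq.symm
    · have h2 : Commute ((z ^ 2) ^ 2) g := hg.pow_left 2
      have hz4 : (z ^ 2) ^ 2 = z := by
        rw [← pow_mul, ← pow_mod_orderOf, hzo]; norm_num
      rw [hz4] at h2
      exact h2.eq.symm

theorem isConj_coe {C : Subgroup G} {a b : C} (h : IsConj a b) : IsConj (a : G) (b : G) :=
  C.subtype.map_isConj h

variable [Fact (Nat.Prime 3)]

/-- The singular elements of the centraliser. -/
theorem Reps.cases' (R : Reps P z n x) {c : Subgroup.centralizer ({z} : Set G)}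
    (hc : 3 ∣ orderOf c) :
    (∃ i : Fin 3, i ≠ 0 ∧ ∃ y : Subgroup.centralizer ({z} : Set G), ¬ 3 ∣ orderOf y ∧
      c = zC z ^ (i : ℕ) * y) ∨
    (∃ j, ∃ y : Subgroup.centralizer ({z} : Set G), ¬ 3 ∣ orderOf y ∧ Commute (R.xC j) y ∧
      IsConj c (R.xC j * y)) := by
  have : (Subgroup.zpowers (zC z)).Normal := ⟨fun u hu g => by
    obtain ⟨k, rfl⟩ := Subgroup.mem_zpowers_iff.1 hu
    rw [← ((commute_zC g).zpow_left k).eq, mul_inv_cancel_right]
    exact zpow_mem (Subgroup.mem_zpowers _) k⟩
  have := Fintype.ofFinite (Subgroup.centralizer ({z} : Set G))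
  rcases R.repsC.cases commute_zC c with ⟨i, y, hy, rfl⟩ | h
  · refine Or.inl ⟨i, fun hi => ?_, y, hy, rfl⟩
    subst hi
    rw [Fin.val_zero, pow_zero, one_mul] at hc
    exact hy hc
  · exact Or.inr h

theorem colSum_pow_right {C : Type u} [Group C] [Finite C] (B : Set (IrrCharacter C)) {w : C}
    (hw : ∀ c, Commute w c) {m : ℕ} (hm : m ≠ 0) (hwm : w ^ m = 1) (y y' : C) :
    SecondMain.colSum B (w * y) (w * y') = SecondMain.colSum B y y' := by
  refine finsum_mem_congr rfl fun η _ => ?_
  obtain ⟨l, hl, h⟩ := SecondMain.exists_central_scalar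
    (Subgroup.mem_center_iff.2 fun c => (hw c).eq.symm) η
  have hl1 : l * conj l = 1 := by
    rw [Complex.mul_conj', Complex.norm_eq_one_of_pow_eq_one hl (orderOf_pos w).ne']
    norm_num
  rw [h, h, map_mul, mul_mul_mul_comm, hl1, one_mul]

/-- Singular columns of the principal blocks agree. -/
theorem colSum_eq (R : Reps P z n x) (hM : IsPModular 3 M)
    {c c' : Subgroup.centralizer ({z} : Set G)} (hc : 3 ∣ orderOf c) (hc' : 3 ∣ orderOf c') :
    SecondMain.colSum (principalBlock M G) (c : G) (c' : G) =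
      SecondMain.colSum (principalBlock M (Subgroup.centralizer ({z} : Set G))) c c' := by
  set C := Subgroup.centralizer ({z} : Set G)
  have hzo := R.ctx.orderOf_z
  have hB : IsPBlock M (principalBlock M G) := BrauerPairs.isPBlock_principal
  have hb : IsPBlock M (principalBlock M C) := BrauerPairs.isPBlock_principal
  have hreg : ∀ y : C, ¬ 3 ∣ orderOf y → ¬ 3 ∣ orderOf (y : G) := fun y hy => by
    rwa [Subgroup.orderOf_coe]
  have hcz : ∀ (i : Fin 3) (y : C), Commute (z ^ (i : ℕ)) (y : G) := fun i y =>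
    Commute.pow_left (show Commute z (y : G) from (Subgroup.mem_centralizer_singleton_iff.1 y.2).symm) _
  have hzoC : orderOf (zC z) = 3 := by rw [← Subgroup.orderOf_coe]; exact hzo
  rcases R.cases' hc with ⟨i, hi, y, hy, rfl⟩ | ⟨j, y, hy, hjy, hconj⟩ <;>
    rcases R.cases' hc' with ⟨k, hk, y', hy', rfl⟩ | ⟨j', y', hy', hjy', hconj'⟩
  · rw [Subgroup.coe_mul, Subgroup.coe_mul, SubmonoidClass.coe_pow, SubmonoidClass.coe_pow]
    show SecondMain.colSum _ (z ^ (i : ℕ) * (y : G)) (z ^ (k : ℕ) * (y' : G)) = _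
    by_cases hik : i = k
    · subst hik
      have hw : ∀ d : C, Commute (zC z ^ (i : ℕ)) d := fun d => (commute_zC d).pow_left _
      rw [colSum_pow_right _ hw (m := 3) three_ne_zero
        (by rw [← pow_mul, mul_comm, pow_mul,
          show zC z ^ 3 = 1 from hzoC ▸ pow_orderOf_eq_one (zC z), one_pow]),
        SecondMain.colSum_eq_sum hM hB (x := z ^ (i : ℕ))
          ⟨1, by rw [orderOf_zpow_fin hzo hi, pow_one]⟩ (H := C) (mem_centralizer_iff_pow hzo hi) hy hy',
        SecondMain.inducedSet_principal hM ⟨1, by rw [orderOf_zpow_fin hzo hi, pow_one]⟩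
          (H := C) (mem_centralizer_iff_pow hzo hi), finsum_mem_singleton]
    · rw [SecondMain.colSum_eq_zero hM hB ⟨1, by rw [orderOf_zpow_fin hzo hi, pow_one]⟩
          ⟨1, by rw [orderOf_zpow_fin hzo hk, pow_one]⟩ (hreg y hy) (hreg y' hy') (hcz i y) (hcz k y')
          (R.ctx.pow_not_isConj hik),
        SecondMain.colSum_eq_zero hM hb ⟨1, by rw [orderOf_zpow_fin hzoC hi, pow_one]⟩
          ⟨1, by rw [orderOf_zpow_fin hzoC hk, pow_one]⟩ hy hy' ((commute_zC y).pow_left _)
          ((commute_zC y').pow_left _) fun h => R.ctx.pow_not_isConj hik (by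
            have h' := C.subtype.map_isConj h
            simpa [zC] using h')]
  · rw [colSum_of_isConj _ (IsConj.refl _) (isConj_coe hconj'),
      colSum_of_isConj _ (IsConj.refl _) hconj', Subgroup.coe_mul, SubmonoidClass.coe_pow]
    show SecondMain.colSum _ (z ^ (i : ℕ) * (y : G)) (x j' * (y' : G)) = _
    rw [SecondMain.colSum_eq_zero hM hB ⟨1, by rw [orderOf_zpow_fin hzo hi, pow_one]⟩
        ⟨1, by rw [(R.sec j').ord, pow_one]⟩ (hreg y hy) (hreg y' hy') (hcz i y)
        (show Commute (x j') (y' : G) from congrArg Subtype.val hjy') (R.not_isConj_zpowers j' (pow_mem (Subgroup.mem_zpowers z) _)),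
      SecondMain.colSum_eq_zero hM hb ⟨1, by rw [orderOf_zpow_fin hzoC hi, pow_one]⟩
        ⟨1, by rw [(R.repsC.sec j').ord, pow_one]⟩ hy hy' ((commute_zC y).pow_left _) hjy'
        (R.repsC.not_isConj_zpowers j' (pow_mem (Subgroup.mem_zpowers _) _))]
  · rw [colSum_of_isConj _ (isConj_coe hconj) (IsConj.refl _),
      colSum_of_isConj _ hconj (IsConj.refl _)]
    simp only [Subgroup.coe_mul, SubmonoidClass.coe_pow]
    show SecondMain.colSum _ (x j * (y : G)) (z ^ (k : ℕ) * (y' : G)) = _
    rw [SecondMain.colSum_eq_zero hM hB ⟨1, by rw [(R.sec j).ord, pow_one]⟩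
        ⟨1, by rw [orderOf_zpow_fin hzo hk, pow_one]⟩ (hreg y hy) (hreg y' hy')
        (show Commute (x j) (y : G) from congrArg Subtype.val hjy) (hcz k y')
        (fun h => R.not_isConj_zpowers j (pow_mem (Subgroup.mem_zpowers z) _) h.symm),
      SecondMain.colSum_eq_zero hM hb ⟨1, by rw [(R.repsC.sec j).ord, pow_one]⟩
        ⟨1, by rw [orderOf_zpow_fin hzoC hk, pow_one]⟩ hy hy' hjy ((commute_zC y').pow_left _)
        (fun h => R.repsC.not_isConj_zpowers j (pow_mem (Subgroup.mem_zpowers _) _) h.symm)]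
  · rw [colSum_of_isConj _ (isConj_coe hconj) (isConj_coe hconj'),
      colSum_of_isConj _ hconj hconj']
    show SecondMain.colSum _ (x j * (y : G)) (x j' * (y' : G)) = _
    by_cases hj : j = j'
    · subst hj
      rw [(R.sec j).colSum_nine hM (hreg y hy) (hreg y' hy') (show Commute (x j) (y : G) from congrArg Subtype.val hjy)
        (show Commute (x j) (y' : G) from congrArg Subtype.val hjy'), (R.repsC.sec j).colSum_nine hM hy hy' hjy hjy']
    · rw [SecondMain.colSum_eq_zero hM hB ⟨1, by rw [(R.sec j).ord, pow_one]⟩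
          ⟨1, by rw [(R.sec j').ord, pow_one]⟩ (hreg y hy) (hreg y' hy') (show Commute (x j) (y : G) from congrArg Subtype.val hjy)
          (show Commute (x j') (y' : G) from congrArg Subtype.val hjy') (fun h => hj (R.inj j j' h)),
        SecondMain.colSum_eq_zero hM hb ⟨1, by rw [(R.repsC.sec j).ord, pow_one]⟩
          ⟨1, by rw [(R.repsC.sec j').ord, pow_one]⟩ hy hy' hjy hjy'
          (fun h => hj (R.repsC.inj j j' h))]

/-- The scalar product with the restriction. -/
noncomputable def coeff [Fintype G] {C : Subgroup G} (θ : C → ℂ) (χ : IrrCharacter G) : ℂ :=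
  haveI := Fintype.ofFinite C
  classInner θ fun c : C => (χ : G → ℂ) c

section Isometry

variable [Fintype G] {C : Subgroup G} [Fintype C]

theorem coeff_eq (θ : C → ℂ) (χ : IrrCharacter G) :
    coeff θ χ = classInner θ fun c : C => (χ : G → ℂ) c := by
  unfold coeff
  congr!

theorem exists_int_coeff {θ : C → ℂ} (hθ : θ ∈ Comb M) (χ : IrrCharacter G) :
    ∃ m : ℤ, coeff θ χ = m := by
  rw [coeff_eq]
  induction hθ using Submodule.span_induction with
  | mem f hf =>
    obtain ⟨η, -, rfl⟩ := hf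
    obtain ⟨m, hm⟩ := Char.IsCharacter.classInner_nat (Char.IsIrrCharacter.isCharacter η.2)
      (Char.IsCharacter.restrict (Char.IsIrrCharacter.isCharacter χ.2) C)
    exact ⟨m, by rw [hm]; simp⟩
  | zero => exact ⟨0, by simp⟩
  | add f f' _ _ h h' =>
    obtain ⟨a, ha⟩ := h
    obtain ⟨b, hb⟩ := h'
    exact ⟨a + b, by rw [Char.classInner_add_left, ha, hb]; push_cast; rfl⟩
  | smul r f _ h =>
    obtain ⟨a, ha⟩ := h
    exact ⟨r * a, by
      rw [← Int.cast_smul_eq_zsmul ℂ, Char.classInner_smul_left, ha]; push_cast; rfl⟩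

theorem isClassFunction_comb {θ : C → ℂ} (hθ : θ ∈ Comb M) : IsClassFunction C θ := by
  induction hθ using Submodule.span_induction with
  | mem f hf => obtain ⟨η, -, rfl⟩ := hf; exact irr_class η
  | zero => exact fun g h => rfl
  | add f f' _ _ h h' => exact Char.isClassFunction_add h h'
  | smul r f _ h => rw [← Int.cast_smul_eq_zsmul ℂ]; exact Char.isClassFunction_smul h _

theorem classInner_comb_eq_zero {θ : C → ℂ} (hθ : θ ∈ Comb M) {η : IrrCharacter C}
    (hη : η ∉ principalBlock M C) : classInner θ (η : C → ℂ) = 0 := by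
  induction hθ using Submodule.span_induction with
  | mem f hf =>
    obtain ⟨η', hη', rfl⟩ := hf
    exact Char.classInner_irr_of_ne η'.2 η.2 fun h => hη (Subtype.ext h ▸ hη')
  | zero => simp
  | add f f' _ _ h h' => rw [Char.classInner_add_left, h, h', add_zero]
  | smul r f _ h => rw [← Int.cast_smul_eq_zsmul ℂ, Char.classInner_smul_left, h, mul_zero]

/-- Agreeing singular columns make the coefficients isometric. -/
theorem sum_coeff_mul [Fintype (principalBlock M G)] (hcol : ∀ c c' : C, 3 ∣ orderOf c →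
      3 ∣ orderOf c' → SecondMain.colSum (principalBlock M G) (c : G) (c' : G) =
        SecondMain.colSum (principalBlock M C) c c')
    {θ θ' : C → ℂ} (hθ : θ ∈ Comb M) (hθ' : θ' ∈ Comb M)
    (h0 : ∀ c, ¬ 3 ∣ orderOf c → θ c = 0) (h0' : ∀ c, ¬ 3 ∣ orderOf c → θ' c = 0) :
    ∑ χ : principalBlock M G, coeff θ χ.1 * conj (coeff θ' χ.1) = classInner θ θ' := by
  classical
  have := Fintype.ofFinite (IrrCharacter C)
  have hrhs : classInner θ θ' = ∑ η ∈ (principalBlock M C).toFinset,
      classInner θ (η : C → ℂ) * conj (classInner θ' (η : C → ℂ)) := by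
    rw [Char.classInner_eq_sum (isClassFunction_comb hθ) θ']
    refine (Finset.sum_subset (Finset.subset_univ _) fun η _ hη => ?_).symm
    rw [classInner_comb_eq_zero hθ (fun h => hη (Set.mem_toFinset.2 h)), zero_mul]
  rw [hrhs]
  have e : ∀ {α : Type u} [Fintype α] (w : α → C → ℂ),
      ∑ a, classInner θ (w a) * conj (classInner θ' (w a)) = ((Nat.card C : ℂ)⁻¹) ^ 2 *
        ∑ c, ∑ c', θ c * conj (θ' c') * ∑ a, w a c' * conj (w a c) := by
    intro α _ w
    simp only [classInner, map_mul, map_sum, map_inv₀, Complex.conj_natCast, Complex.conj_conj,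
      Finset.mul_sum, Finset.sum_mul]
    rw [Finset.sum_comm]
    conv_rhs => rw [Finset.sum_comm]
    refine Finset.sum_congr rfl fun c _ => ?_
    rw [Finset.sum_comm]
    exact Finset.sum_congr rfl fun c' _ => Finset.sum_congr rfl fun a _ => by ring
  simp only [coeff_eq]
  rw [e (fun χ : principalBlock M G => fun c : C => (χ.1 : G → ℂ) c)]
  conv_rhs => rw [← Finset.sum_coe_sort]
  rw [e (fun η : (principalBlock M C).toFinset => (η.1 : C → ℂ))]
  congr 1
  refine Finset.sum_congr rfl fun c _ => Finset.sum_congr rfl fun c' _ => ?_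
  by_cases hc : 3 ∣ orderOf c
  swap
  · simp [h0 c hc]
  by_cases hc' : 3 ∣ orderOf c'
  swap
  · simp [h0' c' hc']
  congr 1
  have h := hcol c' c hc' hc
  rw [SecondMain.colSum, SecondMain.colSum, ← finsum_set_coe_eq_finsum_mem, finsum_eq_sum_of_fintype,
    finsum_mem_eq_toFinset_sum] at h
  conv_rhs at h => rw [← Finset.sum_coe_sort]
  exact h

end Isometry

set_option maxHeartbeats 1600000 in
/-- The integral vectors on the principal block of the group. -/
theorem exists_global (R : Reps P z n x) (hM : IsPModular 3 M) [Fintype (principalBlock M G)] :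
    ∃ l, blockRank 3 (principalBlock M (Subgroup.centralizer ({z} : Set G))) = l ∧ l + n = 6 ∧
      ∃ (j₀ : Fin n) (i₀ : Fin l) (g : Fin l × Bool → principalBlock M G → ℤ)
        (v : Fin n → principalBlock M G → ℤ),
        (∀ j (χ : principalBlock M G), ((χ : IrrCharacter G) : G → ℂ) (x j) = v j χ) ∧
        (∀ j (χ : principalBlock M G),
          (3 : ℤ) ∣ (charDegree ((χ : IrrCharacter G) : G → ℂ) : ℤ) - v j χ) ∧
        (∀ j k, ∑ χ, v j χ * v k χ = if j = k then 9 else 0) ∧
        (∀ a b, ∑ χ, g a χ * g b χ =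
          1 + (if a.1 = b.1 then 1 else 0) + (if a = b then 1 else 0)) ∧
        (∀ a j, ∑ χ, v j χ * g a χ = if j = j₀ then 3 else 0) ∧
        (∀ a, g a ⟨BrauerPairs.oneIrr G, BrauerPairs.oneIrr_mem_principal hM⟩ =
          if a.1 = i₀ then 1 else 0) ∧
        ∀ χ, (∃ j, v j χ ≠ 0) ∨ ∃ a, g a χ ≠ 0 := by
  classical
  have := Fintype.ofFinite G
  have := Fintype.ofFinite (Subgroup.centralizer ({z} : Set G))
  haveI : (Subgroup.zpowers (zC z)).Normal := ⟨fun u hu g => by
    obtain ⟨k, rfl⟩ := Subgroup.mem_zpowers_iff.1 hu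
    rw [← ((commute_zC g).zpow_left k).eq, mul_inv_cancel_right]
    exact zpow_mem (Subgroup.mem_zpowers _) k⟩
  obtain ⟨l, ⟨F⟩⟩ := exists_frame R.repsC hM commute_zC
  refine ⟨l, F.rank, F.hl, F.j₀, F.i₀, ?_⟩
  have hcol := fun c c' (h : 3 ∣ orderOf c) (h' : 3 ∣ orderOf c') => colSum_eq (M := M) R hM h h'
  have hval := fun j (χ : principalBlock M G) => (R.sec j).inv_apply (R.inv j) χ.1
  choose v hv hvd using hval
  have hgint := fun a (χ : principalBlock M G) => exists_int_coeff (F.g_comb a) χ.1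
  choose g hg using hgint
  have hVc : ∀ j (χ : principalBlock M G), coeff (F.V j) χ.1 = (v j χ : ℂ) := by
    intro j χ
    have h1 := F.V_one j
    rw [coeff_eq, classInner]
    rw [classInner] at h1
    rw [Finset.sum_congr rfl fun c _ => show F.V j c * conj ((χ.1 : G → ℂ) c) =
      conj ((v j χ : ℤ) : ℂ) * (F.V j c * conj (1 : ℂ)) by
        by_cases h0 : F.V j c = 0
        · simp [h0]
        obtain ⟨y, hy, hjy, hconj⟩ := F.V_supp j c h0
        rw [classFunction_eq_of_isConj (irr_class χ.1)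
          (isConj_coe hconj)]
        show F.V j c * conj ((χ.1 : G → ℂ) (x j * (y : G))) = _
        rw [(R.sec j).shift hM χ.2 (by rwa [Subgroup.orderOf_coe]) (congrArg Subtype.val hjy), hv]
        simp [mul_comm], ← Finset.mul_sum, mul_left_comm, h1, mul_one, map_intCast]
  refine ⟨g, v, hv, hvd, fun j k => ?_, fun a b => ?_, fun a j => ?_, fun a => ?_, fun χ => ?_⟩
  · have h : SecondMain.colSum (principalBlock M G) (x j) (x k) = if j = k then (9 : ℂ) else 0 := by
      split_ifs with hjk
      · rw [hjk]; exact (R.sec k).colSum_self hM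
      · have h := SecondMain.colSum_eq_zero hM (BrauerPairs.isPBlock_principal (M := M) (G := G))
          (x := x j) (x' := x k) (y := 1) (y' := 1)
          ⟨1, by rw [(R.sec j).ord, pow_one]⟩ ⟨1, by rw [(R.sec k).ord, pow_one]⟩
          (by simp) (by simp) (Commute.one_right _) (Commute.one_right _) fun h => hjk (R.inj j k h)
        rwa [mul_one, mul_one] at h
    rw [SecondMain.colSum, ← finsum_set_coe_eq_finsum_mem, finsum_eq_sum_of_fintype] at h
    simp only [hv, map_intCast] at h
    exact_mod_cast h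
  · have h := sum_coeff_mul hcol (F.g_comb a) (F.g_comb b) (F.g_reg a) (F.g_reg b)
    simp only [hg, map_intCast, F.gram] at h
    exact_mod_cast h
  · have h := sum_coeff_mul hcol (F.g_comb a) (F.V_comb j) (F.g_reg a) (F.V_reg j)
    simp only [hg, hVc, map_intCast, F.gV] at h
    simp only [mul_comm (v j _)]
    exact_mod_cast h
  · have h : coeff (F.g a) (BrauerPairs.oneIrr G) = if a.1 = F.i₀ then 1 else 0 := by
      rw [coeff_eq]
      exact F.g_one a
    rw [hg a ⟨_, BrauerPairs.oneIrr_mem_principal hM⟩] at h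
    exact_mod_cast h
  · -- coverage
    by_contra hcon
    simp only [not_or, not_exists, not_not] at hcon
    obtain ⟨hv0, hg0⟩ := hcon
    have hsec : ∀ (s y : G) (j : Fin n), IsConj s (x j) → ¬ 3 ∣ orderOf y → Commute s y →
        (χ.1 : G → ℂ) (s * y) = 0 := by
      intro s y j hj hy hc
      obtain ⟨y', hy', hc', h'⟩ := section_conj hj hy hc
      rw [classFunction_eq_of_isConj (irr_class χ.1) h', (R.sec j).shift hM χ.2 hy' hc', hv, hv0,
        Int.cast_zero]
    let ψ : Subgroup.centralizer ({z} : Set G) → ℂ := fun c => (χ.1 : G → ℂ) c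
    have hψ : ∀ c, 3 ∣ orderOf c → ψ c = 0 := by
      refine F.cover ψ (fun c j y hy hc hconj => ?_) (fun m hm => ?_) fun a => ?_
      · show (χ.1 : G → ℂ) c = 0
        rw [classFunction_eq_of_isConj (irr_class χ.1)
          (isConj_coe hconj)]
        exact hsec (x j) y j (IsConj.refl _) (by rwa [Subgroup.orderOf_coe]) (congrArg Subtype.val hc)
      · have hord := orderOf_zpow_fin R.ctx.orderOf_z hm
        have hH := mem_centralizer_iff_pow R.ctx.orderOf_z hm
        have e : pRegularPart 3 (fun c => ψ (zC z ^ (m : ℕ) * c)) =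
            ∑ η ∈ (principalBlock M (Subgroup.centralizer ({z} : Set G))).toFinite.toFinset,
              classInner (fun c : Subgroup.centralizer ({z} : Set G) =>
                (χ.1 : G → ℂ) (z ^ (m : ℕ) * (c : G))) (η : _ → ℂ) • pRegularPart 3 (η : _ → ℂ) := by
          funext s
          simp only [Finset.sum_apply, Pi.smul_apply, smul_eq_mul]
          by_cases hs : 3 ∣ orderOf s
          · simp [SecondMain.pRegularPart_of_singular hs]
          simp only [SecondMain.pRegularPart_of_regular hs]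
          have h := SecondMain.sum_induced_shift_of_mem hM (x := z ^ (m : ℕ))
            ⟨1, by rw [hord, pow_one]⟩ hH BrauerPairs.isPBlock_principal χ.2 hs
          rw [SecondMain.inducedSet_principal hM ⟨1, by rw [hord, pow_one]⟩ hH, finsum_mem_singleton,
            SecondMain.blockPart_apply, finsum_mem_eq_finite_toFinset_sum _ (Set.toFinite _)] at h
          exact h.symm
        rw [e]
        exact Submodule.sum_mem _ fun η hη => Submodule.smul_mem _ _
          (Submodule.subset_span ⟨η, (Set.Finite.mem_toFinset _).1 hη, rfl⟩)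
      · have h := hg a χ
        rw [coeff_eq, hg0 a, Int.cast_zero] at h
        exact h
    obtain ⟨j₁⟩ : Nonempty (Fin n) := ⟨F.j₀⟩
    obtain ⟨g₀, hg₀, hne⟩ := exists_singular_ne_zero hM χ.2 (g := x j₁) (by rw [(R.sec j₁).ord])
    obtain ⟨s, hs, y, hy, hc, hconj⟩ := exists_section P g₀
    rw [classFunction_eq_of_isConj (irr_class χ.1) hconj] at hne
    by_cases hsz : s ∈ Subgroup.zpowers z
    · have hs1 : s ≠ 1 := by
        rintro rfl
        obtain ⟨c, hc'⟩ := isConj_iff.1 hconj
        rw [one_mul] at hc'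
        rw [← hc', SecondMain.orderOf_conj] at hy
        exact hy hg₀
      have hyC : y ∈ Subgroup.centralizer ({z} : Set G) := by
        refine Subgroup.mem_centralizer_singleton_iff.2 ?_
        rcases R.ctx.z_cases hsz with rfl | rfl | rfl
        · exact absurd rfl hs1
        · exact hc.eq.symm
        · simpa using hc.inv_left.eq.symm
      have hsC : s ∈ Subgroup.centralizer ({z} : Set G) := R.ctx.le_centralizer hs
      refine hne (hψ ⟨s * y, mul_mem hsC hyC⟩ ?_)
      rw [← Subgroup.orderOf_coe]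
      obtain ⟨c, hc'⟩ := isConj_iff.1 hconj
      rw [Subgroup.coe_mk, ← hc', SecondMain.orderOf_conj]
      exact hg₀
    · obtain ⟨j, hj⟩ := R.cover s hs hsz
      exact hne (hsec s y j hj hy hc)

end Cfsg.Agent.Extra27
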